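import Groth.Agent.H9LefPen.Closed

/-! Closedness of the parameters with a point killed by enough families. -/

set_option autoImplicit false
set_option linter.style.haveILetI false
set_option backward.isDefEq.respectTransparency false
set_option backward.isDefEq.respectTransparency.types false
set_option maxHeartbeats 1000000

universe u

open CategoryTheory CategoryTheory.Limits AlgebraicGeometry TopologicalSpace Opposite Matrix

noncomputable section

namespace Groth.Agent.H9LefPen

open Groth.Agent

variable {k : Type u} [Field k] {r : ℕ} {X : Scheme.{u}} {i : X ⟶ CohB1.ProjSpace r k}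

/-- An affine family of forms over a vector space. -/
structure VFam (r : ℕ) (k : Type u) [Field k] (W : Type u) [AddCommGroup W] [Module k W] where
  e : ℕ
  G₀ : LefPen.Form r k e
  L : W →ₗ[k] LefPen.Form r k e

/-- The member of a family. -/
def VFam.val {W : Type u} [AddCommGroup W] [Module k W] (F : VFam r k W) (w : W) : LefPen.Form r k F.e := F.G₀ + F.L w

variable [IsAlgClosed k]

/-- If killing families separate every point at `w₀`, a polynomial function separates `w₀`. -/
theorem exists_polyFun_avoid {W : Type u} [AddCommGroup W] [Module k W] [Module.Finite k W] (Bd : X → W → Prop) (w₀ : W)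
    (hkill : ∀ y : CohB1.ProjSpace r k, IsClosed ({y} : Set (CohB1.ProjSpace r k)) → ∃ F : VFam r k W,
      (∀ x w, Bd x w → (F.val w).1 ∈ (i x).asHomogeneousIdeal.toIdeal) ∧
        (F.val w₀).1 ∉ y.asHomogeneousIdeal.toIdeal) :
    ∃ f : W → k, LefPen.IsPolyFun k f ∧ f w₀ ≠ 0 ∧ ∀ w, f w ≠ 0 → ∀ x, ¬ Bd x w := by
  classical
  let S := {F : VFam r k W // ∀ x w, Bd x w → (F.val w).1 ∈ (i x).asHomogeneousIdeal.toIdeal}
  let J : Ideal (MvPolynomial (Fin (r + 1)) k) := Ideal.span (Set.range fun F : S => (F.1.val w₀).1)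
  have hrad : MvPolynomial.idealOfVars (Fin (r + 1)) k ≤ J.radical := by
    refine Ideal.span_le.2 ?_
    rintro _ ⟨j, rfl⟩
    rw [SetLike.mem_coe, Ideal.radical_eq_sInf, Submodule.mem_sInf]
    rintro P ⟨hJP, hP⟩
    by_contra hjP
    let z : CohB1.ProjSpace r k :=
      (show ProjectiveSpectrum (CohB1.polyGrading r k) from
        ⟨Ideal.homogeneousCore (CohB1.polyGrading r k) P, Ideal.IsPrime.homogeneousCore hP, fun hle =>
          hjP (Ideal.toIdeal_homogeneousCore_le _ P (hle (HomogeneousIdeal.mem_irrelevant_of_mem _ one_pos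
            (LefPen.X_mem r k j))))⟩)
    haveI : CompactSpace (CohB1.ProjSpace r k) := by
      haveI := PnCoh.Chow.isProper_toSpec r k
      exact QuasiCompact.compactSpace_of_compactSpace (CohB1.ProjSpace.toSpec r k)
    obtain ⟨y, hyz, hy⟩ := (isClosed_closure (s := ({z} : Set (CohB1.ProjSpace r k)))).exists_closed_singleton
      ⟨z, subset_closure rfl⟩
    obtain ⟨F, hF, hFy⟩ := hkill y hy
    have hzy : z ∈ Proj.basicOpen (CohB1.polyGrading r k) (F.val w₀).1 :=
      (specializes_iff_mem_closure.2 hyz).mem_open (Proj.basicOpen _ _).2 hFy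
    exact hzy (Ideal.mem_homogeneousCore_of_homogeneous_of_mem ⟨_, (F.val w₀).2⟩
      (hJP (Ideal.subset_span ⟨⟨F, hF⟩, rfl⟩)))
  obtain ⟨N, hN⟩ := Ideal.exists_pow_le_of_le_radical_of_fg hrad (MvPolynomial.idealOfVars_fg _ _)
  haveI := finite_form (k := k) (r := r) N
  let b' := Module.finBasis k (LefPen.Form r k N)
  let M := Module.finrank k (LefPen.Form r k N)
  let b := Module.finBasis k W
  have hexp : ∀ β : Fin M, ∃ (E₀ : LefPen.Form r k N) (E : Fin (Module.finrank k W) → LefPen.Form r k N),
      E₀ + ∑ p, b.repr w₀ p • E p = b' β ∧ ∀ x w, Bd x w →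
        (E₀ + ∑ p, b.repr w p • E p).1 ∈ (i x).asHomogeneousIdeal.toIdeal := by
    intro β
    have hmem : (b' β).1 ∈ J := hN ((MvPolynomial.mem_pow_idealOfVars_iff _ _).2 fun a ha => by
      have h1 := (b' β).2 (MvPolynomial.mem_support_iff.1 ha)
      rw [Finsupp.weight_apply] at h1
      simpa [Finsupp.degree_apply, Finsupp.sum] using h1.ge)
    obtain ⟨q, hq⟩ := (Finsupp.mem_ideal_span_range_iff_exists_finsupp).1 hmem
    let Q : S → MvPolynomial (Fin (r + 1)) k := fun s =>
      if s.1.e ≤ N then MvPolynomial.homogeneousComponent (N - s.1.e) (q s) else 0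
    have hQ : ∀ (s : S) (G : LefPen.Form r k s.1.e), Q s * G.1 ∈ CohB1.polyGrading r k N := fun s G => by
      by_cases hs : s.1.e ≤ N
      · simp only [Q, if_pos hs]
        have := (MvPolynomial.homogeneousComponent_isHomogeneous (N - s.1.e) (q s)).mul
          ((MvPolynomial.mem_homogeneousSubmodule _ _).1 G.2)
        rw [Nat.sub_add_cancel hs] at this
        exact (MvPolynomial.mem_homogeneousSubmodule _ _).2 this
      · simp only [Q, if_neg hs, zero_mul]
        exact zero_mem _
    refine ⟨⟨∑ s ∈ q.support, Q s * (s.1.G₀).1, sum_mem fun s _ => hQ s _⟩,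
      fun p => ⟨∑ s ∈ q.support, Q s * (s.1.L (b p)).1, sum_mem fun s _ => hQ s _⟩, ?_, ?_⟩
    all_goals
      have hval : ∀ w, (∑ s ∈ q.support, Q s * (s.1.G₀).1) +
          ∑ p, b.repr w p • ∑ s ∈ q.support, Q s * (s.1.L (b p)).1 = ∑ s ∈ q.support, Q s * (s.1.val w).1 := fun w => by
        have e : ∀ s : S, (s.1.L w).1 = ∑ p, b.repr w p • (s.1.L (b p)).1 := fun s => by
          conv_lhs => rw [← b.sum_repr w, map_sum]
          simp only [Submodule.coe_sum, map_smul, Submodule.coe_smul]
        simp only [VFam.val, Submodule.coe_add, e, mul_add, Finset.mul_sum,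
          Finset.smul_sum, Finset.sum_add_distrib, mul_smul_comm]
        rw [Finset.sum_comm (s := (Finset.univ : Finset (Fin (Module.finrank k W))))]
    · apply Subtype.ext
      simp only [Submodule.coe_add, Submodule.coe_sum, Submodule.coe_smul]
      rw [hval, ← MvPolynomial.homogeneousComponent_eq_self ((MvPolynomial.mem_homogeneousSubmodule _ _).1 (b' β).2),
        ← hq, Finsupp.sum, map_sum]
      refine Finset.sum_congr rfl fun s _ => ?_
      rw [Hensel.homogeneousComponent_mul_of_isHomogeneous (q s) ((MvPolynomial.mem_homogeneousSubmodule _ _).1 (s.1.val w₀).2)]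
      by_cases hs : s.1.e ≤ N
      · simp only [Q, if_pos hs]
      · simp only [Q, if_neg hs, zero_mul]
    · intro x w hbad
      simp only [Submodule.coe_add, Submodule.coe_sum, Submodule.coe_smul]
      rw [hval]
      exact sum_mem fun s _ => Ideal.mul_mem_left _ _ (s.2 x w hbad)
  choose E₀ E hE hEbad using hexp
  let Mat : Matrix (Fin M) (Fin M) (MvPolynomial (Fin (Module.finrank k W)) k) := fun γ β =>
    MvPolynomial.C (b'.repr (E₀ β) γ) + ∑ p, MvPolynomial.C (b'.repr (E β p) γ) * MvPolynomial.X p
  have hev : ∀ c : Fin (Module.finrank k W) → k,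
      MvPolynomial.eval c Mat.det = b'.det (fun β => E₀ β + ∑ p, c p • E β p) := fun c => by
    rw [RingHom.map_det, Module.Basis.det_apply]
    refine congrArg Matrix.det (Matrix.ext fun γ β => ?_)
    simp [Mat, Module.Basis.toMatrix_apply, mul_comm]
  refine ⟨fun w => MvPolynomial.eval (fun p => b.repr w p) Mat.det, isPolyFun_eval b _, ?_, fun w hw x hbad => hw ?_⟩
  · show MvPolynomial.eval (fun p => b.repr w₀ p) Mat.det ≠ 0
    rw [hev, show (fun β => E₀ β + ∑ p, b.repr w₀ p • E β p) = ⇑b' from funext hE, b'.det_self]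
    exact one_ne_zero
  · by_contra hne
    have hne' : IsUnit (b'.det (fun β => E₀ β + ∑ p, b.repr w p • E β p)) := by
      rw [← hev]; exact isUnit_iff_ne_zero.2 hne
    have hspan := ((Module.Basis.is_basis_iff_det b').2 hne').2
    obtain ⟨j, hj⟩ := Opens.mem_iSup.1 ((HypCurve.iSup_chart r k).ge (Set.mem_univ (i x)))
    let P : LefPen.Form r k N := ⟨MvPolynomial.X j ^ N, (MvPolynomial.mem_homogeneousSubmodule _ _).2 (by
      have := (MvPolynomial.isHomogeneous_X k j).pow N
      rwa [one_mul] at this)⟩
    let U : Submodule k (LefPen.Form r k N) :=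
      ((i x).asHomogeneousIdeal.toIdeal.restrictScalars k).comap (Submodule.subtype _)
    have hU : Submodule.span k (Set.range fun β => E₀ β + ∑ p, b.repr w p • E β p) ≤ U := by
      rw [Submodule.span_le]
      rintro _ ⟨β, rfl⟩
      exact hEbad β x w hbad
    rw [hspan] at hU
    exact hj ((i x).isPrime.mem_of_pow_mem N (hU (Submodule.mem_top (x := P))))

end Groth.Agent.H9LefPen

end
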