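import Groth.Agent.H9LefPen.GenericFinite
import Mathlib.RingTheory.MvPolynomial.Basic
import Mathlib.RingTheory.Ideal.Quotient.Operations

/-! The scheme of solutions of linear equations in the parameters over an algebra. -/

set_option autoImplicit false
set_option linter.style.haveILetI false

universe u

noncomputable section

namespace Groth.Agent.H9LefPen.BadAlg

set_option maxHeartbeats 1600000

open MvPolynomial Matrix

variable {k B : Type u} [Field k] [CommRing B] [Algebra k B] {m : ℕ} {σ : Type*}

/-- The value of the equations at given parameters. -/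
abbrev val (M : Matrix σ (Fin m) B) (c : Fin m → k) : σ → B := M *ᵥ fun p => algebraMap k B (c p)

/-- The equations. -/
def gens (M : Matrix σ (Fin m) B) : σ → MvPolynomial (Fin m) B := M.map MvPolynomial.C *ᵥ MvPolynomial.X

/-- Specialisation of the parameters. -/
def spec (c : Fin m → k) : MvPolynomial (Fin m) B →ₐ[B] B := MvPolynomial.aeval fun p => algebraMap k B (c p)

theorem spec_gens (M : Matrix σ (Fin m) B) (c : Fin m → k) (j : σ) : spec c (gens M j) = val M c j := by
  simp [spec, gens, mulVec, dotProduct]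

theorem spec_map (c : Fin m → k) (p : MvPolynomial (Fin m) k) :
    spec c (MvPolynomial.map (algebraMap k B) p) = algebraMap k B (MvPolynomial.eval c p) := by
  induction p using MvPolynomial.induction_on with
  | C a => simp [spec]
  | add p q hp hq => simp [hp, hq]
  | mul_X p l hp =>
    rw [map_mul, map_mul, hp, map_mul, map_mul]
    simp [spec]

/-- A function without zeros on the fibre over `m` has none over a neighbourhood, for a finite family. -/
theorem avoid [IsAlgClosed k] {R A : Type u} [CommRing R] [CommRing A] [Algebra k R] [Algebra R A] [Algebra k A]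
    [IsScalarTower k R A] [Algebra.FiniteType k A] (m₀ : Ideal R) [m₀.IsMaximal] (g : R) (hg : g ∉ m₀)
    {G : Finset A} (hG : ∀ a : A, ∃ N : ℕ, g ^ N • a ∈ Submodule.span R (G : Set A)) (d : A)
    (hd : ∀ ev : A →ₐ[k] k, (∀ x ∈ m₀, ev (algebraMap R A x) = 0) → ev d ≠ 0) :
    ∃ r, r ∉ m₀ ∧ ∃ N : ℕ, algebraMap R A ((g * r) ^ N) ∈ Ideal.span {d} := by
  classical
  let q : A →ₐ[R] A ⧸ Ideal.span {d} := Ideal.Quotient.mkₐ R (Ideal.span {d})
  haveI : Algebra.FiniteType k (A ⧸ Ideal.span {d}) :=
    Algebra.FiniteType.of_surjective (Ideal.Quotient.mkₐ k _) Ideal.Quotient.mk_surjective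
  have h1 : (1 : A ⧸ Ideal.span {d}) ∈ m₀.map (algebraMap R (A ⧸ Ideal.span {d})) := by
    obtain ⟨K, hK⟩ := GenFin.isNilpotent_of_forall_eval (k := k)
      (1 : (A ⧸ Ideal.span {d}) ⧸ m₀.map (algebraMap R (A ⧸ Ideal.span {d}))) fun ev => by
      exfalso
      refine hd ((ev.comp (Ideal.Quotient.mkₐ k _)).comp (Ideal.Quotient.mkₐ k (Ideal.span {d}))) (fun x hx => ?_) ?_
      · show ev (Ideal.Quotient.mk _ (algebraMap R (A ⧸ Ideal.span {d}) x)) = 0
        rw [Ideal.Quotient.eq_zero_iff_mem.2 (Ideal.mem_map_of_mem _ hx), map_zero]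
      · show ev (Ideal.Quotient.mk _ (Ideal.Quotient.mk (Ideal.span {d}) d)) = 0
        rw [Ideal.Quotient.eq_zero_iff_mem.2 (Ideal.mem_span_singleton_self d), map_zero, map_zero]
    rw [one_pow] at hK
    exact Ideal.Quotient.eq_zero_iff_mem.1 hK
  obtain ⟨r, hr, hr0⟩ := GenFin.exists_spanning m₀ g hg (G := G.image q)
    (fun a => by
      obtain ⟨a, rfl⟩ := Ideal.Quotient.mk_surjective a
      obtain ⟨N, hN⟩ := hG a
      refine ⟨N, ?_⟩
      rw [Finset.coe_image, show g ^ N • Ideal.Quotient.mk (Ideal.span {d}) a = q.toLinearMap (g ^ N • a) from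
        (map_smul q.toLinearMap _ _).symm]
      exact (Submodule.span_image q.toLinearMap).ge (Submodule.mem_map_of_mem hN))
    ∅ fun a => Submodule.mem_sup_right (by
      rw [Ideal.smul_top_eq_map, Submodule.restrictScalars_mem, ← one_mul a]
      exact Ideal.mul_mem_right _ _ h1)
  obtain ⟨N, hN⟩ := hr0 1
  refine ⟨r, hr, N, ?_⟩
  rw [Finset.coe_empty, Submodule.span_empty, Submodule.mem_bot, Algebra.smul_def, mul_one] at hN
  exact Ideal.Quotient.eq_zero_iff_mem.1 hN

/-- Existence of a finite generating set off the zeros of `g`, from eigenvector equations at the rational points. -/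
theorem main [IsAlgClosed k] [Algebra.FiniteType k B] (M : Matrix σ (Fin m) B) (g : MvPolynomial (Fin m) k)
    (c₀ : Fin m → k) (hg : MvPolynomial.eval c₀ g ≠ 0) {ι γ : Type u} [Fintype ι] [DecidableEq ι] [Finite γ]
    (u : γ → B) (hu : Algebra.adjoin k (Set.range u) = ⊤) (w : ι → B) (Λ : γ → Matrix ι ι (MvPolynomial (Fin m) k))
    (hw : ∀ (ev : B →ₐ[k] k) (c : Fin m → k), (∀ j, ev (val M c j) = 0) → ∃ μ, ev (w μ) ≠ 0)
    (heq : ∀ (ev : B →ₐ[k] k) (c : Fin m → k), (∀ j, ev (val M c j) = 0) → ∀ a μ,
      MvPolynomial.eval c g * ev (u a) * ev (w μ) = ∑ ν, MvPolynomial.eval c (Λ a μ ν) * ev (w ν)) :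
    (∀ e : Finset B, (∀ b : B, b ∈ Submodule.span k (e : Set B) ⊔ (Ideal.span (Set.range (val M c₀))).restrictScalars k) →
      ∃ g' : MvPolynomial (Fin m) k, MvPolynomial.eval c₀ g' ≠ 0 ∧ ∀ c, MvPolynomial.eval c g' ≠ 0 →
        ∀ b : B, b ∈ Submodule.span k (e : Set B) ⊔ (Ideal.span (Set.range (val M c))).restrictScalars k) ∧
    (∀ D : MvPolynomial (Fin m) B, (∀ ev : B →ₐ[k] k, (∀ j, ev (val M c₀ j) = 0) → ev (spec c₀ D) ≠ 0) →
      ∃ g' : MvPolynomial (Fin m) k, MvPolynomial.eval c₀ g' ≠ 0 ∧ ∀ (ev : B →ₐ[k] k) (c : Fin m → k),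
        (∀ j, ev (val M c j) = 0) → MvPolynomial.eval c g' ≠ 0 → ev (spec c D) ≠ 0) := by
  classical
  let A := MvPolynomial (Fin m) B ⧸ Ideal.span (Set.range (gens M))
  let R := MvPolynomial (Fin m) k
  letI : Algebra R A := ((Ideal.Quotient.mk (Ideal.span (Set.range (gens M)))).comp (MvPolynomial.map (algebraMap k B))).toAlgebra
  haveI : IsScalarTower k R A := IsScalarTower.of_algebraMap_eq fun c => by
    show algebraMap k A c = Ideal.Quotient.mk _ (MvPolynomial.map (algebraMap k B) (MvPolynomial.C c))
    rw [MvPolynomial.map_C, ← Ideal.Quotient.mk_algebraMap,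
      IsScalarTower.algebraMap_apply k B (MvPolynomial (Fin m) B), MvPolynomial.algebraMap_eq]
  haveI : Algebra.FiniteType k A := by
    haveI : Algebra.FiniteType k (MvPolynomial (Fin m) B) := Algebra.FiniteType.trans (S := B) inferInstance inferInstance
    exact Algebra.FiniteType.of_surjective (Ideal.Quotient.mkₐ k _) Ideal.Quotient.mk_surjective
  let toA : B →+* A := (Ideal.Quotient.mk _).comp MvPolynomial.C
  have hR : ∀ p : R, algebraMap R A p = Ideal.Quotient.mk _ (MvPolynomial.map (algebraMap k B) p) := fun p => rfl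
  have halg : ∀ t : k, toA (algebraMap k B t) = algebraMap R A (MvPolynomial.C t) := fun t => by
    rw [hR, MvPolynomial.map_C]; rfl
  -- rational points
  have hpt : ∀ ev : A →ₐ[k] k, ∃ (evB : B →ₐ[k] k) (c : Fin m → k), (∀ j, evB (val M c j) = 0) ∧
      (∀ p, ev (algebraMap R A p) = MvPolynomial.eval c p) ∧ (∀ P, ev (Ideal.Quotient.mk _ P) = evB (spec c P)) := by
    intro ev
    let evB : B →ₐ[k] k := ev.comp (IsScalarTower.toAlgHom k B A)
    let c : Fin m → k := fun p => ev (Ideal.Quotient.mk _ (MvPolynomial.X p))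
    have hP : ∀ P, ev (Ideal.Quotient.mk _ P) = evB (spec c P) := by
      intro P
      induction P using MvPolynomial.induction_on with
      | C b => rw [spec, MvPolynomial.aeval_C]; rfl
      | add p q hp hq => rw [map_add, map_add, hp, hq, map_add, map_add]
      | mul_X p l hp =>
        rw [map_mul, map_mul, hp, map_mul, map_mul]
        congr 1
        rw [spec, MvPolynomial.aeval_X, evB.commutes]
        rfl
    refine ⟨evB, c, fun j => ?_, fun p => ?_, hP⟩
    · rw [← spec_gens, ← hP, show Ideal.Quotient.mk (Ideal.span (Set.range (gens M))) (gens M j) = 0 from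
        Ideal.Quotient.eq_zero_iff_mem.2 (Ideal.subset_span ⟨j, rfl⟩), map_zero]
    · rw [hR, hP, spec_map, evB.commutes]
      rfl
  have htop : Algebra.adjoin R (Set.range fun a => toA (u a)) = ⊤ := by
    let SA := Algebra.adjoin R (Set.range fun a => toA (u a))
    have hB : ∀ y : B, toA y ∈ SA := by
      intro y
      have hy : y ∈ Algebra.adjoin k (Set.range u) := hu ▸ trivial
      induction hy using Algebra.adjoin_induction with
      | mem x hx => obtain ⟨a, rfl⟩ := hx; exact Algebra.subset_adjoin ⟨a, rfl⟩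
      | algebraMap t => rw [halg]; exact SA.algebraMap_mem _
      | add x y _ _ hx hy => rw [map_add]; exact SA.add_mem hx hy
      | mul x y _ _ hx hy => rw [map_mul]; exact SA.mul_mem hx hy
    refine eq_top_iff.2 fun a _ => ?_
    obtain ⟨P, rfl⟩ := Ideal.Quotient.mk_surjective a
    clear ‹Ideal.Quotient.mk _ P ∈ ⊤›
    induction P using MvPolynomial.induction_on with
    | C y => exact hB y
    | add p q hp hq => rw [map_add]; exact SA.add_mem hp hq
    | mul_X p l hp =>
      rw [map_mul]
      refine SA.mul_mem hp ?_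
      rw [show Ideal.Quotient.mk (Ideal.span (Set.range (gens M))) (MvPolynomial.X l) = algebraMap R A (MvPolynomial.X l) by
        rw [hR, MvPolynomial.map_X]]
      exact SA.algebraMap_mem _
  obtain ⟨G, hG⟩ := GenFin.exists_finset_span g (fun a => toA (u a)) htop fun a =>
    GenFin.isIntegral_of_eigen (k := k) (g • toA (u a)) (Λ a) (fun μ => toA (w μ))
      (fun ev => by
        obtain ⟨evB, c, hb, -, hP⟩ := hpt ev
        obtain ⟨μ, hμ⟩ := hw evB c hb
        refine ⟨μ, ?_⟩
        show ev (Ideal.Quotient.mk _ (MvPolynomial.C (w μ))) ≠ 0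
        rw [hP, spec, MvPolynomial.aeval_C]
        exact hμ)
      fun ev μ => by
        obtain ⟨evB, c, hb, hc, hP⟩ := hpt ev
        have hA : ∀ y, ev (toA y) = evB y := fun y => by
          show ev (Ideal.Quotient.mk _ (MvPolynomial.C y)) = _
          rw [hP, spec, MvPolynomial.aeval_C]; rfl
        rw [Algebra.smul_def, map_mul, map_mul, map_sum]
        simp only [map_mul, hA]
        rw [hc, Finset.sum_congr rfl fun ν _ => by rw [hc]]
        exact heq evB c hb a μ
  let m₀ : Ideal R := RingHom.ker (MvPolynomial.eval c₀)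
  haveI : m₀.IsMaximal := RingHom.ker_isMaximal_of_surjective _ fun t => ⟨MvPolynomial.C t, MvPolynomial.eval_C t⟩
  have hX : ∀ l, MvPolynomial.X l - MvPolynomial.C (c₀ l) ∈ m₀ := fun l => by
    rw [RingHom.mem_ker, map_sub, MvPolynomial.eval_X, MvPolynomial.eval_C, sub_self]
  have hsmul : ∀ (r : R), r ∈ m₀ → ∀ a : A, algebraMap R A r * a ∈ m₀ • (⊤ : Submodule R A) := fun r hr a => by
    rw [← Algebra.smul_def]; exact Submodule.smul_mem_smul hr trivial
  have hsub : ∀ P : MvPolynomial (Fin m) B,
      Ideal.Quotient.mk (Ideal.span (Set.range (gens M))) P - toA (spec c₀ P) ∈ m₀ • (⊤ : Submodule R A) := by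
    intro P
    induction P using MvPolynomial.induction_on with
    | C y => rw [spec, MvPolynomial.aeval_C]; simp [toA]
    | add p q hp hq => rw [map_add, map_add, map_add, add_sub_add_comm]; exact add_mem hp hq
    | mul_X p l hp =>
      have h1 : Ideal.Quotient.mk (Ideal.span (Set.range (gens M))) (p * MvPolynomial.X l) - toA (spec c₀ (p * MvPolynomial.X l)) =
          algebraMap R A (MvPolynomial.X l - MvPolynomial.C (c₀ l)) * Ideal.Quotient.mk _ p +
            (MvPolynomial.C (c₀ l) : R) • (Ideal.Quotient.mk _ p - toA (spec c₀ p)) := by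
        rw [map_mul, map_mul (spec c₀), map_mul toA, show spec c₀ (MvPolynomial.X l) = algebraMap k B (c₀ l) from
          MvPolynomial.aeval_X _ _, halg, map_sub, Algebra.smul_def, hR (MvPolynomial.X l), MvPolynomial.map_X]
        ring
      rw [h1]
      exact add_mem (hsmul _ (hX l) _) (Submodule.smul_mem _ _ hp)
  refine ⟨fun e he => ?_, fun D hD => ?_⟩
  · obtain ⟨r, hr, hrspan⟩ := GenFin.exists_spanning m₀ g (fun h => hg h) hG (e.image toA) fun a => by
      obtain ⟨P, rfl⟩ := Ideal.Quotient.mk_surjective a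
      rw [← sub_add_cancel (Ideal.Quotient.mk (Ideal.span (Set.range (gens M))) P) (toA (spec c₀ P))]
      refine add_mem (Submodule.mem_sup_right (hsub P)) ?_
      obtain ⟨y, hy, z, hz, hyz⟩ := Submodule.mem_sup.1 (he (spec c₀ P))
      rw [← hyz, map_add]
      clear hyz
      refine add_mem (Submodule.mem_sup_left ?_) (Submodule.mem_sup_right ?_)
      · rw [Finset.coe_image]
        induction hy using Submodule.span_induction with
        | mem y hy => exact Submodule.subset_span ⟨y, hy, rfl⟩
        | zero => rw [map_zero]; exact zero_mem _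
        | add x y _ _ hx hy => rw [map_add]; exact add_mem hx hy
        | smul t x _ hx =>
          rw [Algebra.smul_def, map_mul, halg, ← Algebra.smul_def]
          exact Submodule.smul_mem _ _ hx
      · rw [Submodule.restrictScalars_mem] at hz
        induction hz using Submodule.span_induction with
        | mem y hy =>
          obtain ⟨j, rfl⟩ := hy
          rw [← spec_gens, ← sub_sub_cancel (Ideal.Quotient.mk (Ideal.span (Set.range (gens M))) (gens M j))
            (toA (spec c₀ (gens M j)))]
          refine sub_mem ?_ (hsub _)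
          rw [Ideal.Quotient.eq_zero_iff_mem.2 (show gens M j ∈ Ideal.span (Set.range (gens M)) from Ideal.subset_span ⟨j, rfl⟩)]
          exact zero_mem _
        | zero => rw [map_zero]; exact zero_mem _
        | add x y _ _ hx hy => rw [map_add]; exact add_mem hx hy
        | smul t x _ hx =>
          rw [smul_eq_mul, map_mul]
          refine Submodule.smul_induction_on hx (fun s hs y _ => ?_) fun x y hx hy => ?_
          · rw [mul_smul_comm]; exact Submodule.smul_mem_smul hs trivial
          · rw [mul_add]; exact add_mem hx hy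
    refine ⟨g * r, by rw [map_mul]; exact mul_ne_zero hg hr, fun c hc y => ?_⟩
    obtain ⟨N, hN⟩ := hrspan (toA y)
    let W := Submodule.span k (e : Set B) ⊔ (Ideal.span (Set.range (val M c))).restrictScalars k
    let Sp : A →+* B ⧸ Ideal.span (Set.range (val M c)) :=
      Ideal.Quotient.lift _ ((Ideal.Quotient.mk _).comp (spec c).toRingHom) fun a ha => by
        refine (Ideal.span_le.2 ?_ ha :
          a ∈ RingHom.ker ((Ideal.Quotient.mk (Ideal.span (Set.range (val M c)))).comp (spec c).toRingHom))
        rintro _ ⟨j, rfl⟩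
        show Ideal.Quotient.mk _ (spec c (gens M j)) = 0
        rw [spec_gens, Ideal.Quotient.eq_zero_iff_mem]
        exact Ideal.subset_span ⟨j, rfl⟩
    have hSpR : ∀ p : R, Sp (algebraMap R A p) = Ideal.Quotient.mk _ (algebraMap k B (MvPolynomial.eval c p)) := fun p => by
      rw [hR, ← spec_map]; rfl
    have hSpB : ∀ b, Sp (toA b) = Ideal.Quotient.mk _ b := fun b => by
      show Ideal.Quotient.mk _ (spec c (MvPolynomial.C b)) = _
      rw [spec, MvPolynomial.aeval_C]; rfl
    have hin : ∀ a ∈ Submodule.span R ((e.image toA : Finset A) : Set A), ∃ b ∈ W, Sp a = Ideal.Quotient.mk _ b := by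
      intro a ha
      induction ha using Submodule.span_induction with
      | mem a ha =>
        obtain ⟨b, hb, rfl⟩ := Finset.mem_image.1 ha
        exact ⟨b, Submodule.mem_sup_left (Submodule.subset_span hb), hSpB b⟩
      | zero => exact ⟨0, zero_mem _, by simp⟩
      | add x y _ _ hx hy =>
        obtain ⟨a, ha, ha'⟩ := hx; obtain ⟨b, hb, hb'⟩ := hy
        exact ⟨a + b, add_mem ha hb, by rw [map_add, ha', hb', map_add]⟩
      | smul t x _ hx =>
        obtain ⟨a, ha, ha'⟩ := hx
        refine ⟨MvPolynomial.eval c t • a, W.smul_mem _ ha, ?_⟩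
        rw [Algebra.smul_def, map_mul, hSpR, ha', Algebra.smul_def, map_mul]
    obtain ⟨b, hb, hb'⟩ := hin _ hN
    rw [Algebra.smul_def, map_mul, hSpR, hSpB, ← map_mul, Ideal.Quotient.eq] at hb'
    have h1 : algebraMap k B (MvPolynomial.eval c ((g * r) ^ N)) * y ∈ W := by
      rw [← sub_add_cancel (_ * y) b]
      exact add_mem (Submodule.mem_sup_right hb') hb
    have h2 := W.smul_mem (MvPolynomial.eval c ((g * r) ^ N))⁻¹ h1
    rwa [Algebra.smul_def, ← mul_assoc, ← map_mul, inv_mul_cancel₀ (by rw [map_pow]; exact pow_ne_zero _ hc), map_one,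
      one_mul] at h2
  · let d : A := Ideal.Quotient.mk _ D
    obtain ⟨r, hr, N, hN⟩ := avoid (k := k) m₀ g (fun h => hg h) hG d fun ev hev => by
      obtain ⟨evB, c, hb, hc, hP⟩ := hpt ev
      have hc0 : c = c₀ := funext fun l => by
        have h1 := hev _ (hX l)
        rw [hc, map_sub, MvPolynomial.eval_X, MvPolynomial.eval_C] at h1
        exact sub_eq_zero.1 h1
      subst hc0
      show ev (Ideal.Quotient.mk _ D) ≠ 0
      rw [hP]
      exact hD evB hb
    refine ⟨g * r, by rw [map_mul]; exact mul_ne_zero hg hr, fun evB c hb hc h0 => ?_⟩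
    obtain ⟨a, ha⟩ := Ideal.mem_span_singleton'.1 hN
    let F : A →+* k := Ideal.Quotient.lift _ ((evB : B →+* k).comp (spec c).toRingHom) fun x hx => by
      refine (Ideal.span_le.2 ?_ hx : x ∈ RingHom.ker ((evB : B →+* k).comp (spec c).toRingHom))
      rintro _ ⟨j, rfl⟩
      show evB (spec c (gens M j)) = 0
      rw [spec_gens, hb j]
    have h1 : F (a * d) = F (algebraMap R A ((g * r) ^ N)) := congrArg F ha
    rw [map_mul, show F d = evB (spec c D) from rfl, h0, mul_zero,
      show F (algebraMap R A ((g * r) ^ N)) = evB (spec c (MvPolynomial.map (algebraMap k B) ((g * r) ^ N))) from rfl,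
      spec_map, evB.commutes, map_pow] at h1
    exact pow_ne_zero N hc h1.symm

end Groth.Agent.H9LefPen.BadAlg

end
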