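import Groth.Agent.PSQuad.Coeff
import Groth.Agent.HypCurve.Smooth
import Groth.Prelude.Def_LefPen
import Mathlib.GroupTheory.Perm.Cycle.Type
import Mathlib.LinearAlgebra.Matrix.Adjugate
import Mathlib.LinearAlgebra.Matrix.ToLinearEquiv

/-! Ordinary quadratic forms in all characteristics. -/

set_option autoImplicit false
set_option linter.style.haveILetI false

universe u

noncomputable section

namespace Groth.Agent.H9LefPen.QA

open Matrix VanCyc

variable {k : Type u} [Field k] {N : ℕ}

/-- The upper triangular matrix of a table. -/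
def upper (a : Fin N → Fin N → k) : Matrix (Fin N) (Fin N) k := fun i j => if i ≤ j then a i j else 0

theorem polar_eq (a : Fin N → Fin N → k) : polarMatrix a = upper a + (upper a)ᵀ := by
  ext i j
  simp only [polarMatrix, upper, Matrix.add_apply, Matrix.transpose_apply]
  rcases lt_trichotomy i j with h | rfl | h
  · simp [h.ne, h, h.le, not_le.2 h]
  · simp; ring
  · simp [h.ne', not_lt.2 h.le, h.le, not_le.2 h]

theorem quadEval_eq (a : Fin N → Fin N → k) (v : Fin N → k) : quadEval a v = v ⬝ᵥ upper a *ᵥ v := by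
  simp only [quadEval, dotProduct, mulVec, upper, Finset.mul_sum]
  refine Finset.sum_congr rfl fun i _ => Finset.sum_congr rfl fun j _ => ?_
  split_ifs <;> ring

theorem quadEval_add (a : Fin N → Fin N → k) (v w : Fin N → k) :
    quadEval a (v + w) = quadEval a v + quadEval a w + w ⬝ᵥ polarMatrix a *ᵥ v := by
  simp only [quadEval_eq, polar_eq, add_mulVec, mulVec_add, add_dotProduct, dotProduct_add]
  rw [dotProduct_mulVec w (upper a)ᵀ v, vecMul_transpose, dotProduct_comm (upper a *ᵥ w) v]
  ring

theorem quadEval_smul (a : Fin N → Fin N → k) (t : k) (v : Fin N → k) :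
    quadEval a (t • v) = t ^ 2 * quadEval a v := by
  simp only [quadEval_eq, mulVec_smul, dotProduct_smul, smul_dotProduct, smul_eq_mul]
  ring

theorem polar_symm (a : Fin N → Fin N → k) : (polarMatrix a)ᵀ = polarMatrix a := by
  rw [polar_eq, transpose_add, transpose_transpose, add_comm]

theorem two_quadEval (a : Fin N → Fin N → k) {v : Fin N → k} (hv : polarMatrix a *ᵥ v = 0) :
    (2 : k) * quadEval a v = 0 := by
  have h := quadEval_add a v v
  rw [hv, dotProduct_zero, add_zero, ← two_smul k v, quadEval_smul] at h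
  linear_combination h

theorem quadOrd_of_det (a : Fin N → Fin N → k) (h : (polarMatrix a).det ≠ 0) : QuadOrd a := fun v _ hv =>
  Matrix.eq_zero_of_mulVec_eq_zero h hv

theorem eq_zero_of_updateRow (M : Matrix (Fin N) (Fin N) k) {i j : Fin N} (hij : M.adjugate i j ≠ 0) {u : Fin N → k}
    (hu : M *ᵥ u = 0) (hui : u i = 0) : u = 0 := by
  refine Matrix.eq_zero_of_mulVec_eq_zero (M := M.updateRow j (Pi.single i 1)) (by rwa [← adjugate_apply]) ?_
  funext l
  by_cases hl : l = j
  · subst hl
    simp [mulVec, updateRow_self, dotProduct, Pi.single_apply, hui]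
  · simp only [mulVec, updateRow_ne hl]
    exact congrFun hu l

theorem quadOrd_of_adj (a : Fin N → Fin N → k) (hdet : (polarMatrix a).det = 0) (j : Fin N)
    (hj : quadEval a (fun i => (polarMatrix a).adjugate i j) ≠ 0) : QuadOrd a := by
  intro v hv hPv
  let w : Fin N → k := fun i => (polarMatrix a).adjugate i j
  have hw : polarMatrix a *ᵥ w = 0 := by
    funext l
    have := congrFun₂ (Matrix.mul_adjugate (polarMatrix a)) l j
    rw [hdet, zero_smul] at this
    simpa [mulVec, dotProduct, Matrix.mul_apply, w] using this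
  obtain ⟨i, hi⟩ : ∃ i, w i ≠ 0 := by
    by_contra! hc
    exact hj (by rw [show (fun i => (polarMatrix a).adjugate i j) = (0 : k) • (0 : Fin N → k) from funext fun l => by
      simpa using hc l, quadEval_smul]; ring)
  have hu : v - (v i / w i) • w = 0 := eq_zero_of_updateRow _ (i := i) (j := j) hi
    (by rw [mulVec_sub, mulVec_smul, hPv, hw, smul_zero, sub_zero]) (by simp [div_mul_cancel₀ _ hi])
  rw [sub_eq_zero] at hu
  rw [hu, quadEval_smul, mul_eq_zero] at hv
  rw [hu, pow_eq_zero_iff two_ne_zero |>.1 (hv.resolve_right hj), zero_smul]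

section Sing

variable [IsAlgClosed k]

theorem kernel_one_dim {a : Fin N → Fin N → k} (ha : QuadOrd a) {v w : Fin N → k} (hv : polarMatrix a *ᵥ v = 0)
    (hv0 : v ≠ 0) (hw : polarMatrix a *ᵥ w = 0) : ∃ t : k, w = t • v := by
  have hQv : quadEval a v ≠ 0 := fun h => hv0 (ha v h hv)
  obtain ⟨t, ht⟩ := IsAlgClosed.exists_pow_nat_eq (-(quadEval a w / quadEval a v)) (n := 2) two_pos
  refine ⟨-t, ?_⟩
  have h0 : quadEval a (w + t • v) = 0 := by
    rw [quadEval_add, quadEval_smul, hw, dotProduct_zero, add_zero, ht]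
    field_simp
    ring
  have := ha _ h0 (by rw [mulVec_add, mulVec_smul, hv, hw, smul_zero, add_zero])
  rw [neg_smul]
  exact eq_neg_of_add_eq_zero_left this

theorem adjugate_diag_ne_zero {a : Fin N → Fin N → k} (ha : QuadOrd a) {v : Fin N → k}
    (hv : polarMatrix a *ᵥ v = 0) {i : Fin N} (hi : v i ≠ 0) : (polarMatrix a).adjugate i i ≠ 0 := by
  intro h0
  rw [adjugate_apply] at h0
  obtain ⟨u, hu0, hu⟩ := Matrix.exists_mulVec_eq_zero_iff.2 h0
  have hrow : ∀ l, l ≠ i → (polarMatrix a *ᵥ u) l = 0 := fun l hl => by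
    have := congrFun hu l
    simpa only [mulVec, updateRow_ne hl, Pi.zero_apply] using this
  have hui : u i = 0 := by
    have := congrFun hu i
    simpa [mulVec, updateRow_self, dotProduct, Pi.single_apply] using this
  have hall : polarMatrix a *ᵥ u = 0 := by
    funext l
    by_cases hl : l = i
    · subst hl
      have h1 : v ⬝ᵥ polarMatrix a *ᵥ u = 0 := by
        rw [dotProduct_mulVec, show v ᵥ* polarMatrix a = polarMatrix a *ᵥ v by
          rw [← mulVec_transpose, polar_symm], hv, zero_dotProduct]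
      rw [dotProduct, Finset.sum_eq_single l (fun c _ hc => by rw [hrow c hc, mul_zero])
        (fun hh => absurd (Finset.mem_univ _) hh)] at h1
      exact (mul_eq_zero.1 h1).resolve_left hi
    · exact hrow l hl
  obtain ⟨t, rfl⟩ := kernel_one_dim ha hv (fun h => hi (by rw [h]; rfl)) hall
  simp only [Pi.smul_apply, smul_eq_mul, mul_eq_zero] at hui
  rw [hui.resolve_right hi, zero_smul] at hu0
  exact hu0 rfl

theorem exists_adj_col {a : Fin N → Fin N → k} (ha : QuadOrd a) (hdet : (polarMatrix a).det = 0) :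
    ∃ j, quadEval a (fun i => (polarMatrix a).adjugate i j) ≠ 0 := by
  obtain ⟨v, hv0, hv⟩ := Matrix.exists_mulVec_eq_zero_iff.2 hdet
  obtain ⟨i, hi⟩ : ∃ i, v i ≠ 0 := by
    by_contra! hc
    exact hv0 (funext hc)
  refine ⟨i, fun h => ?_⟩
  have hw : polarMatrix a *ᵥ (fun l => (polarMatrix a).adjugate l i) = 0 := by
    funext l
    have := congrFun₂ (Matrix.mul_adjugate (polarMatrix a)) l i
    rw [hdet, zero_smul] at this
    simpa [mulVec, dotProduct, Matrix.mul_apply] using this
  have := congrFun (ha _ h hw) i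
  exact adjugate_diag_ne_zero ha hv hi this

end Sing

theorem det_alternating_odd (h2 : (2 : k) = 0) {ι : Type*} [Fintype ι] [DecidableEq ι] (hodd : Odd (Fintype.card ι))
    (M : Matrix ι ι k) (hsymm : Mᵀ = M) (hdiag : ∀ i, M i i = 0) : M.det = 0 := by
  classical
  have hs : ∀ i j, M i j = M j i := fun i j => by rw [← congrFun₂ hsymm j i]; rfl
  haveI : CharP k 2 := CharTwo.of_one_ne_zero_of_two_eq_zero one_ne_zero h2
  rw [Matrix.det_apply]
  refine Finset.sum_involution (fun σ _ => σ⁻¹) (fun σ _ => ?_) (fun σ _ hne heq => hne ?_) (fun _ _ => Finset.mem_univ _)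
    (fun σ _ => inv_inv σ)
  · have hp : ∏ i, M (σ⁻¹ i) i = ∏ i, M (σ i) i := by
      rw [← Equiv.prod_comp σ (fun i => M (σ⁻¹ i) i)]
      exact Finset.prod_congr rfl fun i _ => by rw [Equiv.Perm.inv_def, Equiv.symm_apply_apply, hs]
    rw [Equiv.Perm.sign_inv, hp]
    exact CharTwo.add_self_eq_zero _
  · haveI : Fact (Nat.Prime 2) := ⟨Nat.prime_two⟩
    obtain ⟨i, hi⟩ := Equiv.Perm.exists_fixed_point_of_prime (p := 2) (n := 1)
      (fun h => Nat.not_even_iff_odd.2 hodd (even_iff_two_dvd.2 h)) (σ := σ) (by rw [pow_one, sq]; nth_rw 2 [← heq]; exact mul_inv_cancel σ)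
    rw [Finset.prod_eq_zero (Finset.mem_univ i) (by rw [hi, hdiag]), smul_zero]

/-- If some ordinary form has singular polar form, then all forms do. -/
theorem det_eq_zero_of_singular [IsAlgClosed k] {a : Fin N → Fin N → k} (ha : QuadOrd a)
    (hdet : (polarMatrix a).det = 0) (b : Fin N → Fin N → k) : (polarMatrix b).det = 0 := by
  obtain ⟨v, hv0, hv⟩ := Matrix.exists_mulVec_eq_zero_iff.2 hdet
  have h2 : (2 : k) = 0 := (mul_eq_zero.1 (two_quadEval a hv)).resolve_right fun h => hv0 (ha v h hv)
  have hdiag : ∀ (c : Fin N → Fin N → k) i, polarMatrix c i i = 0 := fun c i => by simp [polarMatrix, h2]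
  rcases Nat.even_or_odd N with he | ho
  swap
  · exact det_alternating_odd h2 (by simpa using ho) _ (polar_symm b) (hdiag b)
  exfalso
  obtain ⟨i, hi⟩ : ∃ i, v i ≠ 0 := by
    by_contra! hc
    exact hv0 (funext hc)
  refine adjugate_diag_ne_zero ha hv hi ?_
  cases N with
  | zero => exact i.elim0
  | succ M =>
    rw [adjugate_fin_succ_eq_det_submatrix, det_alternating_odd h2 (by
      rw [Fintype.card_fin]; exact (Nat.even_add_one.1 he |> Nat.not_even_iff_odd.1)) ((polarMatrix a).submatrix i.succAbove i.succAbove)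
      (by rw [transpose_submatrix, polar_symm]) (fun l => hdiag a _), mul_zero]

theorem quadOrd_transfer (a b : Fin N → Fin N → k) (Λ : Matrix (Fin N) (Fin N) k) (hΛ : Λ.det ≠ 0) (r : k)
    (h : ∀ v, quadEval a (Λ *ᵥ v) = r * quadEval b v) (ha : QuadOrd a) : QuadOrd b := by
  intro v hv hPv
  have hsurj : ∀ w, ∃ u, Λ *ᵥ u = w := fun w =>
    ⟨Λ⁻¹ *ᵥ w, by rw [mulVec_mulVec, Matrix.mul_nonsing_inv _ (isUnit_iff_ne_zero.2 hΛ), one_mulVec]⟩
  have h0 : Λ *ᵥ v = 0 := by
    refine ha _ (by rw [h, hv, mul_zero]) ?_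
    funext l
    obtain ⟨u, hu⟩ := hsurj (Pi.single l 1)
    have h1 := h (v + u)
    rw [mulVec_add, quadEval_add, quadEval_add, h, h, hv, hPv, dotProduct_zero, hu, single_one_dotProduct] at h1
    simp only [Pi.zero_apply]
    linear_combination h1
  exact Matrix.eq_zero_of_mulVec_eq_zero hΛ h0

end Groth.Agent.H9LefPen.QA

namespace Groth.Agent.H9LefPen

open VanCyc MvPolynomial Matrix

variable {k : Type u} [Field k] {m : ℕ}

theorem quadPoly_mem (a : Fin (m + 1) → Fin (m + 1) → k) : quadPoly a ∈ CohB1.polyGrading m k 2 := by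
  refine sum_mem fun i _ => sum_mem fun j _ => ?_
  split_ifs
  · exact (mem_homogeneousSubmodule _ _).2 ((isHomogeneous_C_mul_X _ _).mul (isHomogeneous_X k j))
  · exact zero_mem _

theorem eval_quadPoly (a : Fin (m + 1) → Fin (m + 1) → k) (v : Fin (m + 1) → k) :
    MvPolynomial.eval v (quadPoly a) = quadEval a v := by
  simp only [quadPoly, quadEval, map_sum]
  refine Finset.sum_congr rfl fun i _ => Finset.sum_congr rfl fun j _ => ?_
  split_ifs <;> simp

theorem eval_pderiv_quadPoly (a : Fin (m + 1) → Fin (m + 1) → k) (v : Fin (m + 1) → k) (l : Fin (m + 1)) :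
    MvPolynomial.eval v (pderiv l (quadPoly a)) = (polarMatrix a *ᵥ v) l := by
  classical
  rw [QA.polar_eq, add_mulVec, Pi.add_apply]
  simp only [quadPoly, map_sum, mulVec, dotProduct, QA.upper, Matrix.transpose_apply]
  have : ∀ i j : Fin (m + 1), MvPolynomial.eval v (pderiv l (if i ≤ j then C (a i j) * X i * X j else 0)) =
      (if i = l then (if i ≤ j then a i j else 0) * v j else 0) + (if j = l then (if i ≤ j then a i j else 0) * v i else 0) := by
    intro i j
    split_ifs with h hi hj hj <;> simp_all [pderiv_mul, pderiv_X, Pi.single_apply] <;> ring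
  simp only [this, Finset.sum_add_distrib]
  congr 1
  · rw [Finset.sum_eq_single l (fun i _ hi => by simp [hi]) (fun h => absurd (Finset.mem_univ _) h)]
    simp
  · simp

/-- Ordinary tables give non-degenerate forms, and conversely. -/
theorem nondegQuad_iff [IsAlgClosed k] (a : Fin (m + 1) → Fin (m + 1) → k) :
    LefPen.NondegQuad k (⟨quadPoly a, quadPoly_mem a⟩ : LefPen.Form m k 2) ↔ QuadOrd a := by
  constructor
  · rintro ⟨hne, hm⟩ v hv hPv
    by_contra hv0
    rcases hm with rfl | hsm
    · refine hne (MvPolynomial.funext fun w => ?_)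
      have hv0' : v 0 ≠ 0 := fun h => hv0 (funext fun i => by rw [Fin.fin_one_eq_zero i, h]; rfl)
      have hw : w = (w 0 / v 0) • v := funext fun i => by
        rw [Fin.fin_one_eq_zero i, Pi.smul_apply, smul_eq_mul, div_mul_cancel₀ _ hv0']
      show MvPolynomial.eval w (quadPoly a) = _
      rw [eval_quadPoly, hw, QA.quadEval_smul, hv, mul_zero, map_zero]
    · obtain ⟨i, hi⟩ : ∃ i, v i ≠ 0 := by
        by_contra! hc
        exact hv0 (funext hc)
      let w := (v i)⁻¹ • v
      obtain ⟨j, hj⟩ := (HypCurve.smooth_iff_no_singular_point (fun h => hne (Subtype.ext_iff.1 h))).1 hsm i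
        (algebraMap k _ ∘ w) (by simp [w, hi]) (by
          rw [MvPolynomial.aeval_def, ← MvPolynomial.eval₂_comp, eval_quadPoly, QA.quadEval_smul, hv, mul_zero, map_zero])
      refine hj ?_
      rw [MvPolynomial.aeval_def, ← MvPolynomial.eval₂_comp, eval_pderiv_quadPoly, mulVec_smul, hPv, smul_zero]
      simp
  · intro ha
    have hne : quadPoly a ≠ 0 := fun h0 => by
      have h1 : ∀ v, quadEval a v = 0 := fun v => by rw [← eval_quadPoly, h0, map_zero]
      have h2 : ∀ v, polarMatrix a *ᵥ v = 0 := fun v => funext fun l => by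
        rw [← eval_pderiv_quadPoly, h0, map_zero, map_zero]; rfl
      exact one_ne_zero (congrFun (ha (fun _ => 1) (h1 _) (h2 _)) 0)
    refine ⟨hne, Or.inr ((HypCurve.smooth_iff_no_singular_point (fun h => hne (Subtype.ext_iff.1 h))).2
      fun i v hvi h0 => ?_)⟩
    by_contra! hall
    obtain ⟨w, rfl⟩ : ∃ w : Fin (m + 1) → k, algebraMap k (AlgebraicClosure k) ∘ w = v := by
      choose w hw using fun l => (IsAlgClosed.algebraMap_bijective_of_isIntegral (k := k) (K := AlgebraicClosure k)).2 (v l)
      exact ⟨w, funext hw⟩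
    have hinj := (algebraMap k (AlgebraicClosure k)).injective
    have h1 : quadEval a w = 0 := hinj (by
      rw [map_zero, ← eval_quadPoly, MvPolynomial.eval₂_comp, ← MvPolynomial.aeval_def]; exact h0)
    have h2 : polarMatrix a *ᵥ w = 0 := funext fun l => hinj (by
      rw [Pi.zero_apply, map_zero, ← eval_pderiv_quadPoly, MvPolynomial.eval₂_comp, ← MvPolynomial.aeval_def]
      exact hall l)
    have := congrArg (fun u => algebraMap k (AlgebraicClosure k) (u i)) (ha w h1 h2)
    simp only [Function.comp_apply] at hvi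
    simp [hvi] at this

end Groth.Agent.H9LefPen

end
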