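import Groth.Agent.H9LefPen.Hess
import Groth.Agent.H9LefPen.QuadAlg
import Mathlib.RingTheory.Nakayama

/-! The local algebra of the singular locus at an ordinary quadratic point. -/

set_option autoImplicit false
set_option linter.style.haveILetI false
set_option maxHeartbeats 1000000

universe u

noncomputable section

namespace Groth.Agent.H9LefPen.QA

open Matrix VanCyc

/-- The vectors orthogonal to the kernel are in the image. -/
theorem exists_preimage {k : Type u} [Field k] [IsAlgClosed k] {N : ℕ} {a : Fin N → Fin N → k} (ha : QuadOrd a)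
    {v : Fin N → k} (hv : polarMatrix a *ᵥ v = 0) {i : Fin N} (hi : v i ≠ 0) {u : Fin N → k} (hu : v ⬝ᵥ u = 0) :
    ∃ w, polarMatrix a *ᵥ w = u := by
  classical
  have hd : ((polarMatrix a).updateRow i (Pi.single i 1)).det ≠ 0 := by
    rw [← adjugate_apply]; exact adjugate_diag_ne_zero ha hv hi
  refine ⟨((polarMatrix a).updateRow i (Pi.single i 1))⁻¹ *ᵥ Function.update u i 0, ?_⟩
  let w := ((polarMatrix a).updateRow i (Pi.single i 1))⁻¹ *ᵥ Function.update u i 0
  have hw : (polarMatrix a).updateRow i (Pi.single i 1) *ᵥ w = Function.update u i 0 := by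
    rw [mulVec_mulVec, Matrix.mul_nonsing_inv _ (isUnit_iff_ne_zero.2 hd), one_mulVec]
  have hrow : ∀ l, l ≠ i → (polarMatrix a *ᵥ w) l = u l := fun l hl => by
    have := congrFun hw l
    rwa [Function.update_of_ne hl, mulVec, updateRow_ne hl] at this
  funext l
  by_cases hl : l = i
  · subst hl
    have h1 : v ⬝ᵥ (polarMatrix a *ᵥ w - u) = 0 := by
      rw [dotProduct_sub, hu, dotProduct_mulVec, show v ᵥ* polarMatrix a = polarMatrix a *ᵥ v by
        rw [← mulVec_transpose, polar_symm], hv, zero_dotProduct, sub_zero]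
    rw [dotProduct, Finset.sum_eq_single l (fun c _ hc => by rw [Pi.sub_apply, hrow c hc, sub_self, mul_zero])
      (fun hh => absurd (Finset.mem_univ _) hh)] at h1
    exact sub_eq_zero.1 ((mul_eq_zero.1 h1).resolve_left hi)
  · exact hrow l hl

end Groth.Agent.H9LefPen.QA

namespace Groth.Agent.H9LefPen.Hess

open Matrix
open KaehlerDifferential (D)

variable {k B : Type u} [Field k] [IsAlgClosed k] [CommRing B] [Algebra k B] {n : ℕ}
  [Algebra.FormallySmooth k B] [Algebra.FiniteType k B] (ω : Module.Basis (Fin n) B Ω[B⁄k]) (ev : B →ₐ[k] k)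

/-- The ideal of the singular points of an equation. -/
def critIdeal (h : B) : Ideal B := Ideal.span (insert h (Set.range fun l => ω.coord l (D k B h)))

omit [IsAlgClosed k] [Algebra.FormallySmooth k B] [Algebra.FiniteType k B] in
theorem eq_mem_critIdeal (h : B) : h ∈ critIdeal ω h := Ideal.subset_span (Set.mem_insert _ _)

omit [IsAlgClosed k] [Algebra.FormallySmooth k B] [Algebra.FiniteType k B] in
theorem coord_mem_critIdeal (h : B) (l : Fin n) : ω.coord l (D k B h) ∈ critIdeal ω h :=
  Ideal.subset_span (Set.mem_insert_of_mem _ ⟨l, rfl⟩)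

omit [Algebra.FormallySmooth k B] in
/-- An ideal contained modulo a single maximal ideal times itself is contained. -/
theorem le_of_le_sup_mul {J q I : Ideal B} (hI : I.FG) (huniq : ∀ v : Ideal B, v.IsMaximal → J ≤ v → q ≤ v)
    (h : I ≤ J ⊔ q * I) : I ≤ J := by
  let f := Ideal.Quotient.mk J
  have h1 : I.map f ≤ q.map f • I.map f := by
    have := Ideal.map_mono (f := f) h
    rwa [Ideal.map_sup, Ideal.map_quotient_self, bot_sup_eq, Ideal.map_mul] at this
  have h2 : q.map f ≤ Ideal.jacobson (⊥ : Ideal (B ⧸ J)) := by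
    refine le_sInf ?_
    rintro P ⟨-, hP⟩
    haveI := hP
    refine Ideal.map_le_iff_le_comap.2 (huniq _ (Ideal.comap_isMaximal_of_surjective f Ideal.Quotient.mk_surjective) ?_)
    exact fun a ha => by rw [Ideal.mem_comap, Ideal.Quotient.eq_zero_iff_mem.2 ha]; exact zero_mem _
  have h3 := Submodule.eq_bot_of_le_smul_of_le_jacobson_bot (q.map f) (I.map f) (hI.map f) h1 h2
  rw [Ideal.map_eq_bot_iff_le_ker, Ideal.mk_ker] at h3
  exact h3

variable {σ : Fin n → B} (h0 : ∀ l, ev (σ l) = 0)
  (h1 : ∀ j l, ev (ω.coord j (D k B (σ l))) = if j = l then 1 else 0)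
  {h : B} (c : Fin n → Fin n → k) (hc : h - MvPolynomial.aeval σ (VanCyc.quadPoly c) ∈ RingHom.ker ev ^ 3)

include h1 h0 hc in
theorem polar_mem (r : Fin n) :
    ∑ l, algebraMap k B (VanCyc.polarMatrix c r l) * σ l ∈ critIdeal ω h ⊔ RingHom.ker ev ^ 2 := by
  rw [← sub_sub_cancel (ω.coord r (D k B h)) (∑ l, algebraMap k B (VanCyc.polarMatrix c r l) * σ l)]
  exact sub_mem (Submodule.mem_sup_left (coord_mem_critIdeal ω h r))
    (Submodule.mem_sup_right (coord_D_eq ω ev h0 h1 c hc r))

include h1 h0 hc in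
theorem image_mem (w : Fin n → k) :
    ∑ l, algebraMap k B ((VanCyc.polarMatrix c *ᵥ w) l) * σ l ∈ critIdeal ω h ⊔ RingHom.ker ev ^ 2 := by
  have e : ∑ l, algebraMap k B ((VanCyc.polarMatrix c *ᵥ w) l) * σ l =
      ∑ r, algebraMap k B (w r) * ∑ l, algebraMap k B (VanCyc.polarMatrix c r l) * σ l := by
    simp only [mulVec, dotProduct, map_sum, map_mul, Finset.sum_mul, Finset.mul_sum]
    rw [Finset.sum_comm]
    refine Finset.sum_congr rfl fun r _ => Finset.sum_congr rfl fun l _ => ?_
    rw [show VanCyc.polarMatrix c l r = VanCyc.polarMatrix c r l from congrFun₂ (QA.polar_symm c) r l]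
    ring
  rw [e]
  exact sum_mem fun r _ => Ideal.mul_mem_left _ _ (polar_mem ω ev h0 h1 c hc r)

variable (huniq : ∀ v : Ideal B, v.IsMaximal → critIdeal ω h ≤ v → RingHom.ker ev ≤ v)

include h1 h0 hc huniq in
/-- At a point with invertible polar form the singular locus is a reduced point. -/
theorem span_of_det (hdet : (VanCyc.polarMatrix c).det ≠ 0) (b : B) :
    b ∈ Submodule.span k ({1} : Set B) ⊔ (critIdeal ω h).restrictScalars k := by
  classical
  haveI : IsNoetherianRing B := Algebra.FiniteType.isNoetherianRing k B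
  have hσ : ∀ l, σ l ∈ critIdeal ω h ⊔ RingHom.ker ev ^ 2 := fun l => by
    have := image_mem ω ev h0 h1 c hc ((VanCyc.polarMatrix c)⁻¹ *ᵥ Pi.single l 1)
    rw [mulVec_mulVec, Matrix.mul_nonsing_inv _ (isUnit_iff_ne_zero.2 hdet), one_mulVec,
      Finset.sum_eq_single l (fun j _ hj => by rw [Pi.single_eq_of_ne hj, map_zero, zero_mul])
        (fun hh => absurd (Finset.mem_univ _) hh), Pi.single_eq_same, map_one, one_mul] at this
    exact this
  have hq : RingHom.ker ev ≤ critIdeal ω h := by
    refine le_of_le_sup_mul (IsNoetherian.noetherian _) huniq ?_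
    rw [← pow_two]
    exact (ker_le_span ω ev h0 h1).trans (sup_le (Ideal.span_le.2 (by rintro _ ⟨l, rfl⟩; exact hσ l)) le_sup_right)
  rw [← sub_add_cancel b (algebraMap k B (ev b))]
  refine add_mem (Submodule.mem_sup_right (hq (sub_const_mem ev b))) (Submodule.mem_sup_left ?_)
  rw [Algebra.algebraMap_eq_smul_one]
  exact Submodule.smul_mem _ _ (Submodule.subset_span rfl)

include h1 h0 hc huniq in
/-- At an ordinary point with degenerate polar form the singular locus is spanned by the constants and one coordinate. -/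
theorem span_of_sing (hord : VanCyc.QuadOrd c) {v : Fin n → k} (hv : VanCyc.polarMatrix c *ᵥ v = 0) {i : Fin n}
    (hi : v i ≠ 0) (b : B) : b ∈ Submodule.span k ({1, σ i} : Set B) ⊔ (critIdeal ω h).restrictScalars k := by
  classical
  haveI : IsNoetherianRing B := Algebra.FiniteType.isNoetherianRing k B
  let J := critIdeal ω h
  let q := RingHom.ker ev
  let t : Fin n → k := fun l => v l / v i
  have hσ : ∀ l, σ l - algebraMap k B (t l) * σ i ∈ J ⊔ q ^ 2 := fun l => by
    obtain ⟨w, hw⟩ := QA.exists_preimage hord hv hi (u := Pi.single l 1 - t l • Pi.single i 1) (by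
      rw [dotProduct_sub, dotProduct_smul, dotProduct_single_one, dotProduct_single_one, smul_eq_mul,
        div_mul_cancel₀ _ hi, sub_self])
    have := image_mem ω ev h0 h1 c hc w
    rw [hw] at this
    simpa [sub_mul, Pi.single_apply, Finset.sum_sub_distrib, apply_ite (algebraMap k B)] using this
  have hJq : (J ⊔ q ^ 2) * q ≤ J ⊔ q ^ 3 := by
    rw [Ideal.sup_mul, ← pow_succ]
    exact sup_le_sup Ideal.mul_le_left le_rfl
  have hσq : ∀ l, σ l ∈ q := h0
  have hsq : σ i * σ i ∈ J ⊔ q ^ 3 := by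
    have hQ : VanCyc.quadEval c t ≠ 0 := fun hz => by
      have : t = (v i)⁻¹ • v := funext fun l => by simp [t, div_eq_inv_mul]
      rw [this, QA.quadEval_smul, mul_eq_zero] at hz
      exact hi (congrFun (hord v (hz.resolve_left (pow_ne_zero _ (inv_ne_zero hi))) hv) i)
    have hdiff : MvPolynomial.aeval σ (VanCyc.quadPoly c) -
        algebraMap k B (VanCyc.quadEval c t) * (σ i * σ i) ∈ J ⊔ q ^ 3 := by
      simp only [VanCyc.quadPoly, VanCyc.quadEval, map_sum, Finset.sum_mul, ← Finset.sum_sub_distrib]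
      refine sum_mem fun a _ => sum_mem fun b _ => ?_
      split_ifs
      swap
      · simp
      rw [show MvPolynomial.aeval σ (MvPolynomial.C (c a b) * MvPolynomial.X a * MvPolynomial.X b) -
          algebraMap k B (c a b * t a * t b) * (σ i * σ i) = algebraMap k B (c a b) *
            ((σ a - algebraMap k B (t a) * σ i) * σ b + (σ b - algebraMap k B (t b) * σ i) * (algebraMap k B (t a) * σ i)) by
        simp; ring]
      exact Ideal.mul_mem_left _ _ (add_mem (hJq (Ideal.mul_mem_mul (hσ a) (hσq b)))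
        (hJq (Ideal.mul_mem_mul (hσ b) (Ideal.mul_mem_left _ _ (hσq i)))))
    have h2 : algebraMap k B (VanCyc.quadEval c t) * (σ i * σ i) ∈ J ⊔ q ^ 3 := by
      have := sub_mem (Submodule.mem_sup_left (eq_mem_critIdeal ω h) : h ∈ J ⊔ q ^ 3)
        (add_mem hdiff (Submodule.mem_sup_right hc))
      convert this using 1
      ring
    have := Ideal.mul_mem_left _ (algebraMap k B (VanCyc.quadEval c t)⁻¹) h2
    rwa [← mul_assoc, ← map_mul, inv_mul_cancel₀ hQ, map_one, one_mul] at this
  have hspan : q ≤ (J ⊔ Ideal.span {σ i}) ⊔ q ^ 2 := by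
    refine (ker_le_span ω ev h0 h1).trans (sup_le (Ideal.span_le.2 ?_) le_sup_right)
    rintro _ ⟨l, rfl⟩
    rw [SetLike.mem_coe, ← sub_add_cancel (σ l) (algebraMap k B (t l) * σ i)]
    refine add_mem ?_ (Submodule.mem_sup_left (Submodule.mem_sup_right
      (Ideal.mul_mem_left _ _ (Ideal.mem_span_singleton_self _))))
    exact (sup_le_sup_right (le_sup_left : J ≤ J ⊔ Ideal.span {σ i}) (q ^ 2) : J ⊔ q ^ 2 ≤ _) (hσ l)
  have hq2 : q ^ 2 ≤ J := by
    refine le_of_le_sup_mul (IsNoetherian.noetherian _) huniq ?_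
    rw [← pow_succ']
    have h3 := Ideal.mul_mono hspan hspan
    rw [← pow_two] at h3
    refine h3.trans ?_
    have hA : J ⊔ Ideal.span {σ i} ≤ J ⊔ q :=
      sup_le_sup_left ((Ideal.span_singleton_le_iff_mem _).2 (hσq i)) J
    have h23 : (J ⊔ q) * q ^ 2 ≤ J ⊔ q ^ 3 := by
      rw [Ideal.sup_mul, ← pow_succ']
      exact sup_le_sup Ideal.mul_le_left le_rfl
    refine Ideal.mul_le.2 fun x hx y hy => ?_
    obtain ⟨x₁, hx₁, x₂, hx₂, rfl⟩ := Submodule.mem_sup.1 hx
    obtain ⟨y₁, hy₁, y₂, hy₂, rfl⟩ := Submodule.mem_sup.1 hy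
    have e11 : x₁ * y₁ ∈ J ⊔ q ^ 3 := by
      obtain ⟨a, ha, b, hb, rfl⟩ := Submodule.mem_sup.1 hx₁
      obtain ⟨a', ha', b', hb', rfl⟩ := Submodule.mem_sup.1 hy₁
      obtain ⟨z, rfl⟩ := Ideal.mem_span_singleton'.1 hb
      obtain ⟨z', rfl⟩ := Ideal.mem_span_singleton'.1 hb'
      rw [show (a + z * σ i) * (a' + z' * σ i) = a * (a' + z' * σ i) + z * σ i * a' + z * z' * (σ i * σ i) by ring]
      exact add_mem (add_mem (Submodule.mem_sup_left (J.mul_mem_right _ ha)) (Submodule.mem_sup_left (J.mul_mem_left _ ha')))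
        (Ideal.mul_mem_left _ _ hsq)
    have hq : J ⊔ q ^ 2 ≤ J ⊔ q := sup_le_sup_left (Ideal.pow_le_self two_ne_zero) J
    have hy : y₁ + y₂ ∈ J ⊔ q := add_mem (hA hy₁) (hq (Submodule.mem_sup_right hy₂))
    rw [show (x₁ + x₂) * (y₁ + y₂) = x₁ * y₁ + x₁ * y₂ + (y₁ + y₂) * x₂ by ring]
    exact add_mem (add_mem e11 (h23 (Ideal.mul_mem_mul (hA hx₁) hy₂))) (h23 (Ideal.mul_mem_mul hy hx₂))
  have hlin : ∀ a ∈ q, a ∈ Submodule.span k ({1, σ i} : Set B) ⊔ J.restrictScalars k := fun a ha => by
    rw [← sub_add_cancel a (∑ l, algebraMap k B (ev (ω.coord l (D k B a))) * σ l)]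
    refine add_mem (Submodule.mem_sup_right (hq2 (mem_span_coords ω ev h0 h1 ha))) (sum_mem fun l _ => ?_)
    rw [← sub_add_cancel (σ l) (algebraMap k B (t l) * σ i), mul_add]
    refine add_mem (Submodule.mem_sup_right (Ideal.mul_mem_left _ _ ((sup_le le_rfl hq2 : J ⊔ q ^ 2 ≤ J) (hσ l)))) ?_
    rw [← mul_assoc, ← map_mul, ← Algebra.smul_def]
    exact
      (Submodule.mem_sup_left (Submodule.smul_mem _ _ (Submodule.subset_span (Set.mem_insert_of_mem _ rfl))))
  rw [← sub_add_cancel b (algebraMap k B (ev b))]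
  refine add_mem (hlin _ (sub_const_mem ev b)) (Submodule.mem_sup_left ?_)
  rw [Algebra.algebraMap_eq_smul_one]
  exact Submodule.smul_mem _ _ (Submodule.subset_span (Set.mem_insert _ _))

/-- The derivative along a vector at a point. -/
def dir (v : Fin n → k) : B →ₗ[k] k :=
  ∑ l, v l • (ev.toLinearMap ∘ₗ ((ω.coord l).restrictScalars k ∘ₗ (D k B).toLinearMap))

omit [IsAlgClosed k] [Algebra.FormallySmooth k B] [Algebra.FiniteType k B] in
theorem dir_apply (v : Fin n → k) (a : B) : dir ω ev v a = ∑ l, v l * ev (ω.coord l (D k B a)) := by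
  simp [dir]

omit [IsAlgClosed k] [Algebra.FormallySmooth k B] [Algebra.FiniteType k B] in
theorem dir_mul (v : Fin n → k) (a b : B) : dir ω ev v (a * b) = ev a * dir ω ev v b + ev b * dir ω ev v a := by
  simp only [dir_apply, Derivation.leibniz, map_add, map_smul, smul_eq_mul, map_mul, Finset.mul_sum,
    ← Finset.sum_add_distrib]
  exact Finset.sum_congr rfl fun l _ => by ring

include h1 h0 hc in
/-- Along the kernel of the polar form the derivative kills the singular locus. -/
theorem dir_eq_zero {v : Fin n → k} (hv : VanCyc.polarMatrix c *ᵥ v = 0) (hJ : critIdeal ω h ≤ RingHom.ker ev)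
    {a : B} (ha : a ∈ critIdeal ω h) : dir ω ev v a = 0 := by
  classical
  induction ha using Submodule.span_induction with
  | mem a ha =>
    rcases ha with rfl | ⟨r, rfl⟩
    · rw [dir_apply]
      exact Finset.sum_eq_zero fun l _ => mul_eq_zero_of_right _ (hJ (coord_mem_critIdeal ω _ l))
    · have hsq : ∀ z ∈ RingHom.ker ev ^ 2, dir ω ev v z = 0 := fun z hz => by
        rw [pow_two] at hz
        refine Submodule.mul_induction_on hz (fun x hx y hy => ?_) fun x y hx hy => ?_
        · rw [dir_mul, RingHom.mem_ker.1 hx, RingHom.mem_ker.1 hy, zero_mul, zero_mul, add_zero]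
        · rw [map_add, hx, hy, add_zero]
      show dir ω ev v (ω.coord r (D k B h)) = 0
      rw [← sub_add_cancel (ω.coord r (D k B h)) (∑ l, algebraMap k B (VanCyc.polarMatrix c r l) * σ l), map_add,
        hsq _ (coord_D_eq ω ev h0 h1 c hc r), zero_add, map_sum]
      have : ∀ l, dir ω ev v (algebraMap k B (VanCyc.polarMatrix c r l) * σ l) = VanCyc.polarMatrix c r l * v l := by
        intro l
        rw [dir_mul, h0 l, zero_mul, add_zero, ev.commutes, dir_apply]
        simp [h1, -Module.Basis.coord_apply]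
      simp only [this]
      exact congrFun hv r
  | zero => exact map_zero _
  | add x y _ _ hx hy => rw [map_add, hx, hy, add_zero]
  | smul x y hy' hy =>
    rw [smul_eq_mul, dir_mul, hy, mul_zero, zero_add, RingHom.mem_ker.1 (hJ hy'), zero_mul]

include h1 in
theorem dir_coord (v : Fin n → k) (i : Fin n) : dir ω ev v (σ i) = v i := by
  simp [dir_apply, h1, -Module.Basis.coord_apply]

omit [Algebra.FormallySmooth k B] [Algebra.FiniteType k B] in
/-- A space spanned modulo an ideal by `e` separates at most `e.card` functionals vanishing on the ideal. -/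
theorem card_bound {V : Type u} [AddCommGroup V] [Module k V] (Φ : B →ₗ[k] V) (J : Ideal B) (hJ : ∀ a ∈ J, Φ a = 0)
    (e : Finset B) (he : ∀ b : B, b ∈ Submodule.span k (e : Set B) ⊔ J.restrictScalars k)
    (hΦ : LinearMap.range Φ = ⊤) : Module.finrank k V ≤ e.card := by
  classical
  have h1 : (⊤ : Submodule k V) ≤ Submodule.span k ((e.image Φ : Finset V) : Set V) := by
    rw [← hΦ, Finset.coe_image, ← Submodule.map_span]
    rintro _ ⟨b, rfl⟩
    obtain ⟨y, hy, z, hz, rfl⟩ := Submodule.mem_sup.1 (he b)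
    rw [map_add, hJ z hz, add_zero]
    exact Submodule.mem_map_of_mem hy
  rw [← finrank_top k V, ← top_le_iff.1 h1]
  exact (finrank_span_finset_le_card _).trans Finset.card_image_le

end Groth.Agent.H9LefPen.Hess

end
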