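import Groth.Agent.H9LefPen.Chart
import Groth.Agent.Hensel.NoethCriterion
import Mathlib.RingTheory.MvPolynomial.Ideal
import Mathlib.LinearAlgebra.Determinant

/-! The transversal hypersurfaces form an open set. -/

set_option autoImplicit false
set_option linter.style.haveILetI false
set_option backward.isDefEq.respectTransparency false
set_option backward.isDefEq.respectTransparency.types false
set_option maxHeartbeats 1000000

universe u

open CategoryTheory CategoryTheory.Limits AlgebraicGeometry TopologicalSpace Opposite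
open KaehlerDifferential (D)

noncomputable section

namespace Groth.Agent.H9LefPen

open Groth.Agent

/-- Polynomials in the coordinates give polynomial functions. -/
theorem isPolyFun_eval {k : Type u} [Field k] {V : Type u} [AddCommGroup V] [Module k V] {m : ℕ}
    (b : Module.Basis (Fin m) k V) (p : MvPolynomial (Fin m) k) :
    LefPen.IsPolyFun k (fun v => MvPolynomial.eval (fun l => b.repr v l) p) := by
  let S := Algebra.adjoin k (Set.range (fun l : Module.Dual k V => (l : V → k)))
  show (fun v => MvPolynomial.eval (fun l => b.repr v l) p) ∈ S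
  induction p using MvPolynomial.induction_on with
  | C c =>
    have : (fun v : V => MvPolynomial.eval (fun l => b.repr v l) (MvPolynomial.C c)) = algebraMap k (V → k) c :=
      funext fun v => MvPolynomial.eval_C c
    rw [this]
    exact S.algebraMap_mem c
  | add p q hp hq => simp only [map_add]; exact S.add_mem hp hq
  | mul_X p l hp =>
    simp only [map_mul, MvPolynomial.eval_X]
    exact S.mul_mem hp (Algebra.subset_adjoin ⟨b.coord l, rfl⟩)

variable {k : Type u} [Field k] {r : ℕ} {X : Scheme.{u}} {i : X ⟶ CohB1.ProjSpace r k}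

theorem finite_form (d : ℕ) : Module.Finite k (LefPen.Form r k d) :=
  Module.Finite.of_injective (Submodule.inclusion
    (fun p hp => (MvPolynomial.mem_restrictTotalDegree _ _ _).2 ((MvPolynomial.IsHomogeneous.totalDegree_le hp))) :
    LefPen.Form r k d →ₗ[k] MvPolynomial.restrictTotalDegree (Fin (r + 1)) k d) (Submodule.inclusion_injective _)

/-- An affine family of forms over the forms of degree `d`. -/
structure Fam (r m : ℕ) (k : Type u) [Field k] where
  e : ℕ
  G₀ : LefPen.Form r k e
  G : Fin m → LefPen.Form r k e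

/-- The member of a family. -/
def Fam.val {m : ℕ} (F : Fam r m k) (c : Fin m → k) : LefPen.Form r k F.e := F.G₀ + ∑ p, c p • F.G p

variable [IsAlgClosed k] [X.Over (Spec (CommRingCat.of k))] {n d : ℕ}

/-- The family vanishes at all singular points of sections. -/
def Fam.Kills (i : X ⟶ CohB1.ProjSpace r k) {m : ℕ} (b : Module.Basis (Fin m) k (LefPen.Form r k d)) (F : Fam r m k) : Prop :=
  ∀ (x : X) (c : Fin m → k), IsClosed ({x} : Set X) → BadAt i (∑ p, c p • b p) x →
    (F.val c).1 ∈ (i x).asHomogeneousIdeal.toIdeal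

variable [IsClosedImmersion i] [hsmX : SmoothOfRelativeDimension n (i ≫ CohB1.ProjSpace.toSpec r k)]
  (hi : X ↘ Spec (CommRingCat.of k) = i ≫ CohB1.ProjSpace.toSpec r k)

include hi hsmX in
/-- Away from the singular points some killing family does not vanish. -/
theorem exists_kills {m : ℕ} (b : Module.Basis (Fin m) k (LefPen.Form r k d)) (c₀ : Fin m → k)
    (y : CohB1.ProjSpace r k) (hy : IsClosed ({y} : Set (CohB1.ProjSpace r k)))
    (hgood : ∀ x : X, IsClosed ({x} : Set X) → i x = y → ¬ BadAt i (∑ p, c₀ p • b p) x) :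
    ∃ F : Fam r m k, F.Kills i b ∧ (F.val c₀).1 ∉ y.asHomogeneousIdeal.toIdeal := by
  classical
  haveI hsm : SmoothOfRelativeDimension n (X ↘ Spec (CommRingCat.of k)) := hi ▸ ‹_›
  by_cases hyr : y ∈ Set.range i
  swap
  · obtain ⟨j, hj⟩ := Opens.mem_iSup.1 ((HypCurve.iSup_chart r k).ge (Set.mem_univ y))
    let O : (CohB1.ProjSpace r k).Opens := ⟨(Set.range i)ᶜ, (IsClosedImmersion.isClosedEmbedding (f := i)).isClosed_range.isOpen_compl⟩
    obtain ⟨g, hgO, hyg⟩ := (HypCurve.isAffineOpen_chart r k j).exists_basicOpen_le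
      (V := O) ⟨y, hyr⟩ hj
    obtain ⟨e, F, hF⟩ := HypCurve.exists_form_dehom j g
    let G₀ : LefPen.Form r k (e + 1) := ⟨F.1 * MvPolynomial.X j, (MvPolynomial.mem_homogeneousSubmodule _ _).2
      (((MvPolynomial.mem_homogeneousSubmodule _ _).1 F.2).mul (MvPolynomial.isHomogeneous_X k j))⟩
    refine ⟨⟨e + 1, G₀, 0⟩, fun x c hx _ => ?_, ?_⟩
    · simp only [Fam.val, Pi.zero_apply, smul_zero, Finset.sum_const_zero, add_zero, G₀]
      by_cases hxj : MvPolynomial.X j ∈ (i x).asHomogeneousIdeal.toIdeal
      · exact Ideal.mul_mem_left _ _ hxj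
      refine Ideal.mul_mem_right _ _ ?_
      by_contra hne
      have h1 := (WCI.mem_basicOpen_dehom F j (i x) hxj).2 hne
      rw [hF] at h1
      exact (hgO h1) ⟨x, rfl⟩
    · simp only [Fam.val, Pi.zero_apply, smul_zero, Finset.sum_const_zero, add_zero, G₀]
      intro hmem
      rcases y.isPrime.mem_or_mem hmem with h | h
      · refine (WCI.mem_basicOpen_dehom F j y hj).1 ?_ h
        rw [hF]; exact hyg
      · exact hj h
  obtain ⟨x, rfl⟩ := hyr
  have hxc : IsClosed ({x} : Set X) := by
    have := hy.preimage i.continuous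
    rwa [show i ⁻¹' {i x} = {x} from Set.ext fun z =>
      ⟨fun h => (IsClosedImmersion.isClosedEmbedding (f := i)).injective h, fun h => by rw [Set.mem_singleton_iff.1 h]; rfl⟩] at this
  obtain ⟨C, hxC, t, ht⟩ := exists_chart' i (n := n) x
  haveI := isMaximal_of_closed hxC hxc
  let nx := (C.U.2.primeIdealOf ⟨x, hxC⟩).asIdeal
  have hlinb : ∀ c : Fin m → k, C.pull (∑ p, c p • b p : LefPen.Form r k d).1 =
      ∑ p, algebraMap k C.B (c p) * C.pull (b p).1 := fun c => by
    rw [Submodule.coe_sum, map_sum]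
    exact Finset.sum_congr rfl fun p _ => by rw [Submodule.coe_smul, MvPolynomial.smul_eq_C_mul, map_mul, C.pull_C hi]
  by_cases hval : C.pull (∑ p, c₀ p • b p : LefPen.Form r k d).1 ∈ nx
  swap
  · refine ⟨⟨d, 0, fun p => b p⟩, fun z c hz hbad => ?_, ?_⟩
    · simp only [Fam.val, zero_add]
      obtain ⟨C', hzC, -⟩ := exists_chart' i (n := n) z
      exact (C'.pull_mem_iff _ hzC).1 (Ideal.pow_le_self two_ne_zero ((C'.badAt_iff _ hzC hz).1 hbad))
    · simp only [Fam.val, zero_add]
      exact fun h => hval ((C.pull_mem_iff _ hxC).2 h)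
  haveI : Nontrivial C.B := (Ideal.Quotient.mk nx).domain_nontrivial
  let ω : Module.Basis (Fin n) C.B Ω[C.B⁄k] := Module.finBasisOfFinrankEq C.B _ (BertiniAff.finrank_kaehler n)
  obtain ⟨l, hl⟩ : ∃ l, ω.coord l (D k C.B (C.pull (∑ p, c₀ p • b p : LefPen.Form r k d).1)) ∉ nx := by
    by_contra! hall
    exact hgood x hxc rfl ((C.badAt_iff _ hxC hxc).2 (mem_sq_of_functional_mem nx ω hval hall))
  let β : Fin m → C.B := fun p => ω.coord l (D k C.B (C.pull (b p).1))
  let V := i ⁻¹ᵁ LefPen.chart r k C.j
  have hV : IsAffineOpen V := (HypCurve.isAffineOpen_chart r k C.j).preimage i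
  have hUV : C.U.1 ≤ V := C.le
  letI : Algebra Γ(X, V) C.B := (AModX.resR hUV).toAlgebra
  haveI : IsLocalization.Away t C.B := hV.isLocalization_of_eq_basicOpen t (homOfLE hUV) ht.symm
  obtain ⟨⟨_, N, rfl⟩, hN⟩ := IsLocalization.exist_integer_multiples_of_finite (Submonoid.powers t) β
  choose z hz using hN
  let A : MvPolynomial (Fin (r + 1)) k →+* Γ(X, V) :=
    ((i.app (LefPen.chart r k C.j)).hom.comp
      (Proj.awayToSection (CohB1.polyGrading r k) (MvPolynomial.X C.j)).hom).comp (ZetaLib.dehom r k C.j)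
  have hAres : ∀ P, AModX.resR hUV (A P) = C.pull P := fun P => rfl
  have hAform : ∀ {e : ℕ} (G : LefPen.Form r k e), A G.1 = (i.app (LefPen.chart r k C.j)).hom (LefPen.dehom G C.j) :=
    fun G => by rw [HypCurve.dehom_eq]; rfl
  have hAX : A (MvPolynomial.X C.j) = 1 := by
    show (i.app _).hom ((Proj.awayToSection _ _).hom (ZetaLib.dehom r k C.j (MvPolynomial.X C.j))) = _
    rw [ZetaLib.dehom, MvPolynomial.eval₂Hom_X']
    have : ZetaLib.coord r k C.j C.j = 1 := HomogeneousLocalization.val_injective _ (by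
      rw [ZetaLib.coord, HomogeneousLocalization.Away.val_mk, HomogeneousLocalization.val_one, ← Localization.mk_one,
        Localization.mk_eq_mk_iff, Localization.r_iff_exists]
      exact ⟨1, by simp⟩)
    rw [this, map_one, map_one]
  have hrep : ∀ p, ∃ (e : ℕ) (F : LefPen.Form r k e), A F.1 = t * z p := fun p => by
    obtain ⟨w, hw⟩ := i.app_surjective (LefPen.chart r k C.j) (HypCurve.isAffineOpen_chart r k C.j) (t * z p)
    obtain ⟨e, F, hF⟩ := HypCurve.exists_form_dehom C.j w
    exact ⟨e, F, by rw [hAform, hF]; exact hw⟩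
  choose e F hF using hrep
  let E := Finset.univ.sup e + 1
  let G : Fin m → LefPen.Form r k E := fun p =>
    ⟨(F p).1 * MvPolynomial.X C.j ^ (E - e p), (MvPolynomial.mem_homogeneousSubmodule _ _).2 (by
      have hle : e p ≤ Finset.univ.sup e := Finset.le_sup (Finset.mem_univ p)
      have := ((MvPolynomial.mem_homogeneousSubmodule _ _).1 (F p).2).mul
        ((MvPolynomial.isHomogeneous_X k C.j).pow (E - e p))
      rwa [one_mul, show e p + (E - e p) = E by omega] at this)⟩
  have hT : algebraMap Γ(X, V) C.B t = AModX.resR hUV t := rfl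
  let T := algebraMap Γ(X, V) C.B t
  have hGc : ∀ c : Fin m → k, C.pull (∑ p, c p • G p : LefPen.Form r k E).1 =
      T ^ (N + 1) * ω.coord l (D k C.B (C.pull (∑ p, c p • b p : LefPen.Form r k d).1)) := fun c => by
    rw [hlinb, Submodule.coe_sum, map_sum, map_sum, map_sum, Finset.mul_sum]
    refine Finset.sum_congr rfl fun p _ => ?_
    rw [Submodule.coe_smul, MvPolynomial.smul_eq_C_mul, map_mul, C.pull_C hi, Derivation.leibniz,
      Derivation.map_algebraMap, smul_zero, add_zero, map_smul, smul_eq_mul]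
    have h1 : C.pull (G p).1 = T ^ (N + 1) * β p := by
      show C.pull ((F p).1 * MvPolynomial.X C.j ^ (E - e p)) = _
      rw [map_mul, map_pow, C.pull_X_self, one_pow, mul_one, ← hAres, hF, map_mul, pow_succ' T N, mul_assoc]
      refine congrArg (T * ·) ?_
      show algebraMap Γ(X, V) C.B (z p) = T ^ N * β p
      rw [hz p, Algebra.smul_def, map_pow]
    rw [h1]
    ring
  refine ⟨⟨E, 0, G⟩, fun x' c hx' hbad => ?_, ?_⟩
  · simp only [Fam.val, zero_add]
    by_cases hxj : MvPolynomial.X C.j ∈ (i x').asHomogeneousIdeal.toIdeal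
    · rw [Submodule.coe_sum]
      refine sum_mem fun p _ => ?_
      rw [Submodule.coe_smul, MvPolynomial.smul_eq_C_mul]
      refine Ideal.mul_mem_left _ _ (Ideal.mul_mem_left _ _ ?_)
      exact Ideal.pow_mem_of_mem _ hxj _ (by
        have hle : e p ≤ Finset.univ.sup e := Finset.le_sup (Finset.mem_univ p)
        omega)
    by_cases hxU : x' ∈ C.U.1
    · haveI := isMaximal_of_closed hxU hx'
      refine (C.pull_mem_iff _ hxU).1 ?_
      rw [hGc]
      exact Ideal.mul_mem_left _ _ (functional_mem_of_mem_sq _ ((C.badAt_iff _ hxU hx').1 hbad) _)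
    · by_contra hne
      have h1 := (WCI.mem_basicOpen_dehom (∑ p, c p • G p : LefPen.Form r k E) C.j (i x') hxj).2 hne
      have h2 : x' ∈ X.basicOpen (A (∑ p, c p • G p : LefPen.Form r k E).1) := by
        rw [hAform, ← Scheme.preimage_basicOpen]
        exact h1
      refine hxU (ht ▸ ?_ : x' ∈ C.U.1)
      obtain ⟨w, hw⟩ : t ∣ A (∑ p, c p • G p : LefPen.Form r k E).1 := by
        rw [Submodule.coe_sum, map_sum]
        refine Finset.dvd_sum fun p _ => ?_
        rw [Submodule.coe_smul, MvPolynomial.smul_eq_C_mul, map_mul, map_mul, hF]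
        exact ((dvd_mul_right t (z p)).mul_right _).mul_left _
      rw [hw, Scheme.basicOpen_mul] at h2
      exact h2.1
  · simp only [Fam.val, zero_add]
    intro h
    have h1 := (C.pull_mem_iff _ hxC).2 h
    rw [hGc] at h1
    have hTn : T ∉ nx := fun hh => (inferInstance : nx.IsMaximal).ne_top
      (Ideal.eq_top_of_isUnit_mem _ hh (IsLocalization.Away.algebraMap_isUnit t))
    rcases (inferInstance : nx.IsMaximal).isPrime.mem_or_mem h1 with h2 | h2
    · exact hTn ((inferInstance : nx.IsMaximal).isPrime.mem_of_pow_mem _ h2)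
    · exact hl h2

include hi hsmX in
theorem isZOpen_transversal (hn : 1 ≤ n) :
    LefPen.IsZOpen k {H : LefPen.Form r k d |
      LefPen.Transversal k n 1 (LefPen.secToSpec i ({H} : Set (LefPen.Form r k d)))} := by
  classical
  intro H₀ hH₀
  haveI := finite_form (k := k) (r := r) d
  let b := Module.finBasis k (LefPen.Form r k d)
  let m := Module.finrank k (LefPen.Form r k d)
  let c₀ : Fin m → k := fun p => b.repr H₀ p
  have hgood : ∀ x : X, IsClosed ({x} : Set X) → ¬ BadAt i (∑ p, c₀ p • b p) x := by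
    rw [b.sum_repr]; exact (transversal_iff hi hn H₀).1 hH₀
  let S := {F : Fam r m k // F.Kills i b}
  let J : Ideal (MvPolynomial (Fin (r + 1)) k) := Ideal.span (Set.range fun F : S => (F.1.val c₀).1)
  have hrad : MvPolynomial.idealOfVars (Fin (r + 1)) k ≤ J.radical := by
    refine Ideal.span_le.2 ?_
    rintro _ ⟨j, rfl⟩
    rw [SetLike.mem_coe, Ideal.radical_eq_sInf, Submodule.mem_sInf]
    rintro P ⟨hJP, hP⟩
    by_contra hjP
    let z : CohB1.ProjSpace r k :=
      (show ProjectiveSpectrum (CohB1.polyGrading r k) from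
        ⟨Ideal.homogeneousCore (CohB1.polyGrading r k) P, Ideal.IsPrime.homogeneousCore hP, fun hle =>
          hjP (Ideal.toIdeal_homogeneousCore_le _ P (hle (HomogeneousIdeal.mem_irrelevant_of_mem _ one_pos
            (LefPen.X_mem r k j))))⟩)
    haveI : CompactSpace (CohB1.ProjSpace r k) := by
      haveI := PnCoh.Chow.isProper_toSpec r k
      exact QuasiCompact.compactSpace_of_compactSpace (CohB1.ProjSpace.toSpec r k)
    obtain ⟨y, hyz, hy⟩ := (isClosed_closure (s := ({z} : Set (CohB1.ProjSpace r k)))).exists_closed_singleton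
      ⟨z, subset_closure rfl⟩
    obtain ⟨F, hF, hFy⟩ := exists_kills (n := n) hi b c₀ y hy (fun x hx _ => hgood x hx)
    have hzy : z ∈ Proj.basicOpen (CohB1.polyGrading r k) (F.val c₀).1 :=
      (specializes_iff_mem_closure.2 hyz).mem_open (Proj.basicOpen _ _).2 hFy
    exact hzy (Ideal.mem_homogeneousCore_of_homogeneous_of_mem ⟨_, (F.val c₀).2⟩
      (hJP (Ideal.subset_span ⟨⟨F, hF⟩, rfl⟩)))
  obtain ⟨N, hN⟩ := Ideal.exists_pow_le_of_le_radical_of_fg hrad (MvPolynomial.idealOfVars_fg _ _)
  haveI := finite_form (k := k) (r := r) N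
  let b' := Module.finBasis k (LefPen.Form r k N)
  let M := Module.finrank k (LefPen.Form r k N)
  have hexp : ∀ β : Fin M, ∃ (E₀ : LefPen.Form r k N) (E : Fin m → LefPen.Form r k N),
      E₀ + ∑ p, c₀ p • E p = b' β ∧ ∀ (x : X) (c : Fin m → k), IsClosed ({x} : Set X) →
        BadAt i (∑ p, c p • b p) x → (E₀ + ∑ p, c p • E p).1 ∈ (i x).asHomogeneousIdeal.toIdeal := by
    intro β
    have hmem : (b' β).1 ∈ J := hN ((MvPolynomial.mem_pow_idealOfVars_iff _ _).2 fun a ha => by
      have h1 := (b' β).2 (MvPolynomial.mem_support_iff.1 ha)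
      rw [Finsupp.weight_apply] at h1
      simpa [Finsupp.degree_apply, Finsupp.sum] using h1.ge)
    obtain ⟨q, hq⟩ := (Finsupp.mem_ideal_span_range_iff_exists_finsupp).1 hmem
    let Q : S → MvPolynomial (Fin (r + 1)) k := fun s =>
      if s.1.e ≤ N then MvPolynomial.homogeneousComponent (N - s.1.e) (q s) else 0
    have hQ : ∀ (s : S) (G : LefPen.Form r k s.1.e), Q s * G.1 ∈ CohB1.polyGrading r k N := fun s G => by
      by_cases hs : s.1.e ≤ N
      · simp only [Q, if_pos hs]
        have := (MvPolynomial.homogeneousComponent_isHomogeneous (N - s.1.e) (q s)).mul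
          ((MvPolynomial.mem_homogeneousSubmodule _ _).1 G.2)
        rw [Nat.sub_add_cancel hs] at this
        exact (MvPolynomial.mem_homogeneousSubmodule _ _).2 this
      · simp only [Q, if_neg hs, zero_mul]
        exact zero_mem _
    refine ⟨⟨∑ s ∈ q.support, Q s * (s.1.G₀).1, sum_mem fun s _ => hQ s _⟩,
      fun p => ⟨∑ s ∈ q.support, Q s * (s.1.G p).1, sum_mem fun s _ => hQ s _⟩, ?_, ?_⟩
    all_goals
      have hval : ∀ c : Fin m → k, (∑ s ∈ q.support, Q s * (s.1.G₀).1) +
          ∑ p, c p • ∑ s ∈ q.support, Q s * (s.1.G p).1 = ∑ s ∈ q.support, Q s * (s.1.val c).1 := fun c => by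
        simp only [Fam.val, Submodule.coe_add, Submodule.coe_sum, Submodule.coe_smul, mul_add, Finset.mul_sum,
          Finset.smul_sum, Finset.sum_add_distrib, mul_smul_comm]
        rw [Finset.sum_comm (s := (Finset.univ : Finset (Fin m)))]
    · apply Subtype.ext
      simp only [Submodule.coe_add, Submodule.coe_sum, Submodule.coe_smul]
      rw [hval, ← MvPolynomial.homogeneousComponent_eq_self ((MvPolynomial.mem_homogeneousSubmodule _ _).1 (b' β).2),
        ← hq, Finsupp.sum, map_sum]
      refine Finset.sum_congr rfl fun s _ => ?_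
      rw [Hensel.homogeneousComponent_mul_of_isHomogeneous (q s) ((MvPolynomial.mem_homogeneousSubmodule _ _).1 (s.1.val c₀).2)]
      by_cases hs : s.1.e ≤ N
      · simp only [Q, if_pos hs]
      · simp only [Q, if_neg hs, zero_mul]
    · intro x c hx hbad
      simp only [Submodule.coe_add, Submodule.coe_sum, Submodule.coe_smul]
      rw [hval]
      exact sum_mem fun s _ => Ideal.mul_mem_left _ _ (s.2 x c hx hbad)
  choose E₀ E hE hEbad using hexp
  let Mat : Matrix (Fin M) (Fin M) (MvPolynomial (Fin m) k) := fun γ β =>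
    MvPolynomial.C (b'.repr (E₀ β) γ) + ∑ p, MvPolynomial.C (b'.repr (E β p) γ) * MvPolynomial.X p
  have hev : ∀ c : Fin m → k, MvPolynomial.eval c Mat.det = b'.det (fun β => E₀ β + ∑ p, c p • E β p) := fun c => by
    rw [RingHom.map_det, Module.Basis.det_apply]
    refine congrArg Matrix.det (Matrix.ext fun γ β => ?_)
    simp [Mat, Module.Basis.toMatrix_apply, mul_comm]
  refine ⟨fun H => MvPolynomial.eval (fun p => b.repr H p) Mat.det, isPolyFun_eval b _, ?_, fun H hH => ?_⟩
  · show MvPolynomial.eval c₀ Mat.det ≠ 0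
    rw [hev, show (fun β => E₀ β + ∑ p, c₀ p • E β p) = ⇑b' from funext hE, b'.det_self]
    exact one_ne_zero
  · refine (transversal_iff hi hn H).2 fun x hx hbad => hH ?_
    by_contra hne
    have hne' : IsUnit (b'.det (fun β => E₀ β + ∑ p, b.repr H p • E β p)) := by
      rw [← hev]; exact isUnit_iff_ne_zero.2 hne
    have hspan := ((Module.Basis.is_basis_iff_det b').2 hne').2
    obtain ⟨j, hj⟩ := Opens.mem_iSup.1 ((HypCurve.iSup_chart r k).ge (Set.mem_univ (i x)))
    let P : LefPen.Form r k N := ⟨MvPolynomial.X j ^ N, (MvPolynomial.mem_homogeneousSubmodule _ _).2 (by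
      have := (MvPolynomial.isHomogeneous_X k j).pow N
      rwa [one_mul] at this)⟩
    let W : Submodule k (LefPen.Form r k N) :=
      ((i x).asHomogeneousIdeal.toIdeal.restrictScalars k).comap (Submodule.subtype _)
    have hW : Submodule.span k (Set.range fun β => E₀ β + ∑ p, b.repr H p • E β p) ≤ W := by
      rw [Submodule.span_le]
      rintro _ ⟨β, rfl⟩
      exact hEbad β x (fun p => b.repr H p) hx (by rw [b.sum_repr]; exact hbad)
    rw [hspan] at hW
    exact hj ((i x).isPrime.mem_of_pow_mem N (hW (Submodule.mem_top (x := P))))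

end Groth.Agent.H9LefPen

end
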