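import Groth.Agent.H9LefPen.JetsChart
import Groth.Agent.H9LefPen.Closed
import Groth.Agent.GrpSchLib.SmoothReduced

/-! The forms with a singular section form an irreducible set. -/

set_option autoImplicit false
set_option linter.style.haveILetI false
set_option backward.isDefEq.respectTransparency false
set_option backward.isDefEq.respectTransparency.types false
set_option maxHeartbeats 1000000

universe u

open CategoryTheory CategoryTheory.Limits AlgebraicGeometry TopologicalSpace Opposite Matrix
open KaehlerDifferential (D)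

noncomputable section

namespace Groth.Agent.H9LefPen

open Groth.Agent

/-- Polynomial functions are polynomials in the coordinates. -/
theorem exists_eval_of_isPolyFun {k : Type u} [Field k] {V : Type u} [AddCommGroup V] [Module k V] {m : ℕ}
    (b : Module.Basis (Fin m) k V) {f : V → k} (hf : LefPen.IsPolyFun k f) :
    ∃ p : MvPolynomial (Fin m) k, ∀ v, f v = MvPolynomial.eval (fun l => b.repr v l) p := by
  classical
  change f ∈ Algebra.adjoin k (Set.range (fun l : Module.Dual k V => (l : V → k))) at hf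
  induction hf using Algebra.adjoin_induction with
  | mem x hx =>
    obtain ⟨l, rfl⟩ := hx
    refine ⟨∑ p, MvPolynomial.C (l (b p)) * MvPolynomial.X p, fun v => ?_⟩
    simp only [map_sum, map_mul, MvPolynomial.eval_C, MvPolynomial.eval_X]
    conv_lhs => rw [← b.sum_repr v, map_sum]
    exact Finset.sum_congr rfl fun p _ => by rw [map_smul, smul_eq_mul, mul_comm]
  | algebraMap c => exact ⟨MvPolynomial.C c, fun v => by simp⟩
  | add x y _ _ hx hy =>
    obtain ⟨p, hp⟩ := hx; obtain ⟨q, hq⟩ := hy
    exact ⟨p + q, fun v => by simp [hp, hq]⟩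
  | mul x y _ _ hx hy =>
    obtain ⟨p, hp⟩ := hx; obtain ⟨q, hq⟩ := hy
    exact ⟨p * q, fun v => by simp [hp, hq]⟩

variable {k : Type u} [Field k] [IsAlgClosed k] {r d : ℕ} {X : Scheme.{u}} {i : X ⟶ CohB1.ProjSpace r k}
  [IsClosedImmersion i] [X.Over (Spec (CommRingCat.of k))] {n m : ℕ}

/-- A basis of the differentials on a chart. -/
def Chart.ω (C : Chart i n) [Nontrivial C.B] : Module.Basis (Fin n) C.B Ω[C.B⁄k] :=
  Module.finBasisOfFinrankEq C.B _ (BertiniAff.finrank_kaehler n)

/-- The values and differentials of a family of forms on a chart. -/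
def Chart.jetMat (C : Chart i n) [Nontrivial C.B] (G : Fin m → LefPen.Form r k d) :
    Matrix (Option (Fin n)) (Fin m) C.B :=
  fun j p => Option.elim j (C.pull (G p).1) (fun l => C.ω.coord l (D k C.B (C.pull (G p).1)))

variable (hi : X ↘ Spec (CommRingCat.of k) = i ≫ CohB1.ProjSpace.toSpec r k)

include hi in
theorem Chart.mulVec_const (C : Chart i n) [Nontrivial C.B] (G : Fin m → LefPen.Form r k d) (c : Fin m → k) :
    C.jetMat G *ᵥ (fun p => algebraMap k C.B (c p)) = fun j => Option.elim j
      (C.pull (∑ p, c p • G p : LefPen.Form r k d).1)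
      (fun l => C.ω.coord l (D k C.B (C.pull (∑ p, c p • G p : LefPen.Form r k d).1))) := by
  have h1 : C.pull (∑ p, c p • G p : LefPen.Form r k d).1 = ∑ p, algebraMap k C.B (c p) * C.pull (G p).1 := by
    rw [Submodule.coe_sum, map_sum]
    exact Finset.sum_congr rfl fun p _ => by rw [Submodule.coe_smul, MvPolynomial.smul_eq_C_mul, map_mul, C.pull_C hi]
  funext j
  rcases j with _ | l
  · simp only [mulVec, dotProduct, Chart.jetMat, Option.elim_none, h1]
    exact Finset.sum_congr rfl fun p _ => mul_comm _ _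
  · simp only [mulVec, dotProduct, Chart.jetMat, Option.elim_some, h1, map_sum, Derivation.leibniz,
      Derivation.map_algebraMap, smul_zero, add_zero, map_smul, smul_eq_mul]
    exact Finset.sum_congr rfl fun p _ => mul_comm _ _

include hi in
theorem Chart.exists_rightInv (hd : 1 ≤ d) (C : Chart i n) [Nontrivial C.B]
    (t : Γ(X, i ⁻¹ᵁ LefPen.chart r k C.j)) (ht : X.basicOpen t = C.U.1)
    (b : Module.Basis (Fin m) k (LefPen.Form r k d)) :
    ∃ N : Matrix (Fin m) (Option (Fin n)) C.B, C.jetMat b * N = 1 := by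
  classical
  refine Matrix.mulVec_surjective_iff_exists_right_inverse.1 ?_
  let M := C.jetMat b
  suffices LinearMap.range M.mulVecLin = ⊤ by exact LinearMap.range_eq_top.1 this
  refine BertiniSec.eq_top_of_sup_smul _ fun q hq => eq_top_iff.2 fun y _ => ?_
  haveI := hq
  have hconst := exists_const (k := k) q
  have hD : ∀ w : Ω[C.B⁄k], ∃ e ∈ q, w - D k C.B e ∈ q • (⊤ : Submodule C.B Ω[C.B⁄k]) := by
    intro w
    have hw : w ∈ Submodule.span C.B (Set.range (D k C.B)) := by
      rw [KaehlerDifferential.span_range_derivation]; trivial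
    induction hw using Submodule.span_induction with
    | mem _ hw =>
      obtain ⟨w, rfl⟩ := hw
      obtain ⟨c, hc⟩ := hconst w
      exact ⟨_, hc, by rw [map_sub, Derivation.map_algebraMap, sub_zero, sub_self]; exact zero_mem _⟩
    | zero => exact ⟨0, zero_mem _, by simp⟩
    | add x z _ _ hx hz =>
      obtain ⟨e, he, he'⟩ := hx
      obtain ⟨f, hf, hf'⟩ := hz
      exact ⟨e + f, add_mem he hf, by rw [map_add, add_sub_add_comm]; exact add_mem he' hf'⟩
    | smul u x _ hx =>
      obtain ⟨e, he, he'⟩ := hx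
      obtain ⟨c, hc⟩ := hconst u
      refine ⟨algebraMap k C.B c * e, Ideal.mul_mem_left _ _ he, ?_⟩
      rw [Derivation.leibniz, Derivation.map_algebraMap, smul_zero, add_zero]
      have : u • x - algebraMap k C.B c • D k C.B e =
          u • (x - D k C.B e) + (u - algebraMap k C.B c) • D k C.B e := by
        rw [smul_sub, sub_smul]; abel
      rw [this]
      exact add_mem (Submodule.smul_mem _ _ he') (Submodule.smul_mem_smul hc trivial)
  obtain ⟨e, he, he'⟩ := hD (∑ l, y (some l) • C.ω l)
  obtain ⟨t₀, ht₀⟩ := hconst (y none)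
  obtain ⟨G, hG⟩ := C.hjet hi hd t ht q hq (algebraMap k C.B t₀ + e)
  refine Submodule.mem_sup.2 ⟨M *ᵥ (fun p => algebraMap k C.B (b.repr G p)), ⟨_, rfl⟩, _, ?_, add_sub_cancel _ _⟩
  rw [pi_eq_sum_univ (y - M *ᵥ fun p => algebraMap k C.B (b.repr G p))]
  refine sum_mem fun j _ => Submodule.smul_mem_smul ?_ trivial
  rw [Pi.sub_apply, C.mulVec_const hi, b.sum_repr]
  rcases j with _ | l
  · show y none - C.pull G.1 ∈ q
    rw [show y none - C.pull G.1 =
      (y none - algebraMap k C.B t₀) - e - (C.pull G.1 - (algebraMap k C.B t₀ + e)) by ring]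
    exact sub_mem (sub_mem ht₀ he) (Ideal.pow_le_self two_ne_zero hG)
  · show y (some l) - C.ω.coord l (D k C.B (C.pull G.1)) ∈ q
    have h1 := functional_mem_of_mem_sq q hG (C.ω.coord l)
    have h2 : C.ω.coord l ((∑ l, y (some l) • C.ω l) - D k C.B e) ∈ q • (⊤ : Submodule C.B C.B) :=
      Submodule.smul_top_le_comap_smul_top q (C.ω.coord l) he'
    rw [Ideal.smul_eq_mul, Ideal.mul_top, map_sub, map_sum] at h2
    rw [map_sub, map_add, Derivation.map_algebraMap, zero_add, map_sub] at h1
    have := sub_mem h2 h1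
    convert this using 1
    simp [Module.Basis.coord_apply, Finsupp.single_apply]

/-- The universal singular member over a chart, substituted into a polynomial. -/
def Chart.sub (C : Chart i n) [Nontrivial C.B] (G : Fin m → LefPen.Form r k d)
    (N : Matrix (Fin m) (Option (Fin n)) C.B) : MvPolynomial (Fin m) k →+* MvPolynomial (Fin m) C.B :=
  MvPolynomial.eval₂Hom (MvPolynomial.C.comp (algebraMap k C.B))
    (fun p => MvPolynomial.X p - (N.map MvPolynomial.C *ᵥ ((C.jetMat G).map MvPolynomial.C *ᵥ MvPolynomial.X)) p)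

omit [IsAlgClosed k] [IsClosedImmersion i] in
theorem Chart.jetMat_sub (C : Chart i n) [Nontrivial C.B] (G : Fin m → LefPen.Form r k d)
    (N : Matrix (Fin m) (Option (Fin n)) C.B) (hN : C.jetMat G * N = 1) :
    (C.jetMat G).map MvPolynomial.C *ᵥ (fun p => C.sub G N (MvPolynomial.X p)) = 0 := by
  classical
  let T : Fin m → MvPolynomial (Fin m) C.B := MvPolynomial.X
  have e : (fun p => C.sub G N (MvPolynomial.X p)) =
      T - N.map MvPolynomial.C *ᵥ ((C.jetMat G).map MvPolynomial.C *ᵥ T) := funext fun p => by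
    rw [Chart.sub, MvPolynomial.eval₂Hom_X']; rfl
  rw [e, mulVec_sub, mulVec_mulVec _ ((C.jetMat G).map MvPolynomial.C) (N.map MvPolynomial.C), ← Matrix.map_mul, hN,
    Matrix.map_one _ (map_zero _) (map_one _), one_mulVec, sub_self]

variable [IrreducibleSpace X] [hX : SmoothOfRelativeDimension n (X ↘ Spec (CommRingCat.of k))]

omit [IsAlgClosed k] [IsClosedImmersion i] in
include hX in
theorem Chart.isDomain (C : Chart i n) {x : X} (hx : x ∈ C.U.1) : IsDomain C.B := by
  haveI : Smooth (X ↘ Spec (CommRingCat.of k)) := hX.smooth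
  haveI := GrpSchLib.isReduced_of_smooth_field (X ↘ Spec (CommRingCat.of k))
  haveI : AlgebraicGeometry.IsIntegral X := isIntegral_of_irreducibleSpace_of_isReduced X
  haveI : Nonempty C.U.1 := ⟨⟨x, hx⟩⟩
  exact IsIntegral.component_integral C.U.1

include hi in
/-- A polynomial killing the singular members over a dense part of a chart dies there. -/
theorem Chart.sub_eq_zero (C : Chart i n) [IsDomain C.B] (b : Module.Basis (Fin m) k (LefPen.Form r k d))
    (N : Matrix (Fin m) (Option (Fin n)) C.B) (hN : C.jetMat b * N = 1) (p : MvPolynomial (Fin m) k) (s : C.B)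
    (hs : s ≠ 0)
    (hp : ∀ x ∈ X.basicOpen s, IsClosed ({x} : Set X) → ∀ H : LefPen.Form r k d, BadAt i H x →
      MvPolynomial.eval (fun l => b.repr H l) p = 0) :
    C.sub b N p = 0 := by
  classical
  haveI : Smooth (X ↘ Spec (CommRingCat.of k)) := hX.smooth
  haveI : JacobsonSpace X := LocallyOfFiniteType.jacobsonSpace (X ↘ Spec (CommRingCat.of k))
  haveI : Algebra.FiniteType k C.B := inferInstance
  haveI : Algebra.FiniteType k (MvPolynomial (Fin m) C.B) := Algebra.FiniteType.trans (S := C.B) inferInstance inferInstance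
  haveI : IsJacobsonRing (MvPolynomial (Fin m) C.B) := isJacobsonRing_of_finiteType (A := k)
  suffices MvPolynomial.C s * C.sub b N p = 0 from
    (mul_eq_zero.1 this).resolve_left fun h => hs (MvPolynomial.C_eq_zero.1 h)
  have hbot : (⊥ : Ideal (MvPolynomial (Fin m) C.B)).jacobson = ⊥ :=
    IsJacobsonRing.out inferInstance (Ideal.isPrime_bot).isRadical
  rw [← Ideal.mem_bot, ← hbot, Ideal.jacobson, Submodule.mem_sInf]
  rintro P ⟨-, hP⟩
  haveI := hP
  let K := MvPolynomial (Fin m) C.B ⧸ P
  letI : Field K := Ideal.Quotient.field P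
  haveI : Module.Finite k K := finite_of_finite_type_of_isJacobsonRing k _
  haveI : Algebra.IsIntegral k K := Algebra.IsIntegral.of_finite k _
  let e : K ≃ₐ[k] k := (AlgEquiv.ofBijective (Algebra.ofId k K)
    (IsAlgClosed.algebraMap_bijective_of_isIntegral (k := k) (K := K))).symm
  let ev : MvPolynomial (Fin m) C.B →ₐ[k] k := e.toAlgHom.comp (Ideal.Quotient.mkₐ k P)
  have hevP : ∀ a, ev a = 0 → a ∈ P := fun a ha =>
    Ideal.Quotient.eq_zero_iff_mem.1 (e.injective (ha.trans (map_zero e).symm))
  refine hevP _ ?_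
  rw [map_mul]
  let evB : C.B →ₐ[k] k := ev.comp (IsScalarTower.toAlgHom k C.B (MvPolynomial (Fin m) C.B))
  have hsurj : Function.Surjective evB := fun c => ⟨algebraMap k C.B c, evB.commutes c⟩
  by_cases hsv : evB s = 0
  · exact mul_eq_zero_of_left hsv _
  haveI hq : (RingHom.ker evB.toRingHom).IsMaximal := RingHom.ker_isMaximal_of_surjective _ hsurj
  obtain ⟨x, hx, hxc, hxq⟩ := exists_closed_of_prime hq
  have hxs : x ∈ X.basicOpen s := (QCoh.mem_basicOpen_iff_notMem C.U.2 hx s).2 (by rw [hxq]; exact hsv)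
  let v : Fin m → k := fun l => ev (C.sub b N (MvPolynomial.X l))
  let H : LefPen.Form r k d := ∑ l, v l • b l
  have hz : C.jetMat b *ᵥ (fun l => algebraMap k C.B (v l)) ∈ {u : Option (Fin n) → C.B | ∀ j, evB (u j) = 0} := by
    intro j
    simp only [mulVec, dotProduct, map_sum, map_mul, AlgHom.commutes, Algebra.algebraMap_self, RingHom.id_apply]
    have h1 := congrArg ev (congrFun (C.jetMat_sub b N hN) j)
    simp only [mulVec, dotProduct, map_sum, map_mul, Matrix.map_apply, Pi.zero_apply, map_zero] at h1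
    exact h1
  rw [C.mulVec_const hi] at hz
  have hbad : BadAt i H x := (C.badAt_iff H hx hxc).2 (by
    rw [hxq]
    exact mem_sq_of_functional_mem _ C.ω (hz none) fun l => hz (some l))
  have h2 := hp x hxs hxc H hbad
  rw [b.repr_sum_self] at h2
  have key : ev.toRingHom.comp (C.sub b N) = MvPolynomial.eval v := by
    refine MvPolynomial.ringHom_ext (fun c => ?_) fun l => (MvPolynomial.eval_X (f := v) l).symm
    rw [MvPolynomial.eval_C, RingHom.comp_apply, Chart.sub, MvPolynomial.eval₂Hom_C, RingHom.comp_apply]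
    exact evB.commutes c
  exact mul_eq_zero_of_right _ ((congrArg (fun f => f p) key).trans h2)

include hi in
theorem Chart.eval_eq_zero (C : Chart i n) [Nontrivial C.B] (b : Module.Basis (Fin m) k (LefPen.Form r k d))
    (N : Matrix (Fin m) (Option (Fin n)) C.B) (p : MvPolynomial (Fin m) k) (hp : C.sub b N p = 0)
    {x : X} (hx : x ∈ C.U.1) (hxc : IsClosed ({x} : Set X)) (H : LefPen.Form r k d) (hH : BadAt i H x) :
    MvPolynomial.eval (fun l => b.repr H l) p = 0 := by
  classical
  let q := (C.U.2.primeIdealOf ⟨x, hx⟩).asIdeal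
  haveI : q.IsMaximal := isMaximal_of_closed hx hxc
  choose c hc using exists_const (k := k) q
  let K := C.B ⧸ q
  letI : Field K := Ideal.Quotient.field q
  haveI : Module.Finite k K := finite_of_finite_type_of_isJacobsonRing k _
  haveI : Algebra.IsIntegral k K := Algebra.IsIntegral.of_finite k _
  let e : K ≃ₐ[k] k := (AlgEquiv.ofBijective (Algebra.ofId k K)
    (IsAlgClosed.algebraMap_bijective_of_isIntegral (k := k) (K := K))).symm
  let evB : C.B →ₐ[k] k := e.toAlgHom.comp (Ideal.Quotient.mkₐ k q)
  have hevB : ∀ a ∈ q, evB a = 0 := fun a ha => by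
    show e (Ideal.Quotient.mk q a) = 0
    rw [Ideal.Quotient.eq_zero_iff_mem.2 ha, map_zero]
  let v : Fin m → k := fun l => b.repr H l
  let E : MvPolynomial (Fin m) C.B →+* k := MvPolynomial.eval₂Hom evB.toRingHom v
  have hbad := (C.badAt_iff H hx hxc).1 hH
  have hM : ∀ j, evB ((C.jetMat b *ᵥ fun l => algebraMap k C.B (v l)) j) = 0 := by
    intro j
    rw [C.mulVec_const hi, b.sum_repr]
    rcases j with _ | l
    · exact hevB _ (Ideal.pow_le_self two_ne_zero hbad)
    · exact hevB _ (functional_mem_of_mem_sq q hbad _)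
  have key : E.comp (C.sub b N) = MvPolynomial.eval v := by
    refine MvPolynomial.ringHom_ext (fun c => ?_) fun l => ?_
    · rw [MvPolynomial.eval_C, RingHom.comp_apply, Chart.sub, MvPolynomial.eval₂Hom_C, RingHom.comp_apply,
        MvPolynomial.eval₂Hom_C]
      exact evB.commutes c
    · have hMT : ∀ j, E (((C.jetMat b).map MvPolynomial.C *ᵥ MvPolynomial.X) j) = 0 := fun j => by
        have h1 := hM j
        simp only [mulVec, dotProduct, map_sum, map_mul, AlgHom.commutes, Algebra.algebraMap_self, RingHom.id_apply] at h1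
        simp only [mulVec, dotProduct, map_sum, map_mul, Matrix.map_apply, E, MvPolynomial.eval₂Hom_C,
          MvPolynomial.eval₂Hom_X']
        exact h1
      rw [MvPolynomial.eval_X, RingHom.comp_apply, Chart.sub, MvPolynomial.eval₂Hom_X', map_sub, RingHom.map_mulVec,
        show E ∘ ((C.jetMat b).map MvPolynomial.C *ᵥ MvPolynomial.X) = 0 from funext hMT, mulVec_zero, Pi.zero_apply,
        sub_zero, MvPolynomial.eval₂Hom_X']
  rw [show MvPolynomial.eval (fun l => b.repr H l) p = MvPolynomial.eval v p from rfl, ← key, RingHom.comp_apply, hp,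
    map_zero]

end Groth.Agent.H9LefPen

end
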