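import Groth.Agent.H9LefPen.Closed
import Groth.Agent.H9LefPen.Irred
import Groth.Agent.H9LefPen.BadAlg

/-! The singular points of nearby sections form a finite scheme over the space of forms. -/

set_option autoImplicit false
set_option linter.style.haveILetI false
set_option backward.isDefEq.respectTransparency false
set_option backward.isDefEq.respectTransparency.types false
set_option maxHeartbeats 1000000

universe u

open CategoryTheory CategoryTheory.Limits AlgebraicGeometry TopologicalSpace Opposite Matrix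
open KaehlerDifferential (D)

noncomputable section

namespace Groth.Agent.H9LefPen

open Groth.Agent

variable {k : Type u} [Field k] [IsAlgClosed k] {r d : ℕ} {X : Scheme.{u}} {i : X ⟶ CohB1.ProjSpace r k}
  [IsClosedImmersion i] [X.Over (Spec (CommRingCat.of k))] {n : ℕ}

/-- A chart cut out of `X` by the nonvanishing of a single form. -/
theorem exists_pChart [SmoothOfRelativeDimension n (X ↘ Spec (CommRingCat.of k))]
    (hi : X ↘ Spec (CommRingCat.of k) = i ≫ CohB1.ProjSpace.toSpec r k) (x₀ : X) :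
    ∃ (C : Chart i n) (e : ℕ) (T : LefPen.Form r k e), x₀ ∈ C.U.1 ∧ 1 ≤ e ∧
      (∀ x : X, x ∈ C.U.1 ↔ T.1 ∉ (i x).asHomogeneousIdeal.toIdeal) ∧ IsUnit (C.pull T.1) ∧
      Algebra.adjoin k (Set.range fun G : LefPen.Form r k e => C.pull G.1 * Ring.inverse (C.pull T.1)) = ⊤ := by
  obtain ⟨C, hx, t, ht⟩ := exists_chart' i (n := n) x₀
  obtain ⟨w, hw⟩ := i.app_surjective (LefPen.chart r k C.j) (HypCurve.isAffineOpen_chart r k C.j) t
  obtain ⟨e₀, F, hF⟩ := HypCurve.exists_form_dehom C.j w
  let T : LefPen.Form r k (e₀ + 1) := ⟨F.1 * MvPolynomial.X C.j, (MvPolynomial.mem_homogeneousSubmodule _ _).2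
    (((MvPolynomial.mem_homogeneousSubmodule _ _).1 F.2).mul (MvPolynomial.isHomogeneous_X k C.j))⟩
  have hmem : ∀ x : X, x ∈ C.U.1 ↔ T.1 ∉ (i x).asHomogeneousIdeal.toIdeal := by
    intro x
    rw [← ht, ← hw, ← Scheme.preimage_basicOpen]
    show i x ∈ (CohB1.ProjSpace r k).basicOpen w ↔ _
    constructor
    · intro h hmem
      have hj : i x ∈ LefPen.chart r k C.j := (CohB1.ProjSpace r k).basicOpen_le w h
      rcases (i x).isPrime.mem_or_mem hmem with h1 | h1
      · exact (WCI.mem_basicOpen_dehom F C.j (i x) hj).1 (hF ▸ h) h1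
      · exact hj h1
    · intro h
      have hj : i x ∈ LefPen.chart r k C.j := fun hm => h (Ideal.mul_mem_left _ _ hm)
      rw [← hF]
      exact (WCI.mem_basicOpen_dehom F C.j (i x) hj).2 fun hm => h (Ideal.mul_mem_right _ _ hm)
  haveI : JacobsonSpace X := by
    haveI : IsProper (CohB1.ProjSpace.toSpec r k) := PnCoh.Chow.isProper_toSpec r k
    exact LocallyOfFiniteType.jacobsonSpace (i ≫ CohB1.ProjSpace.toSpec r k)
  have hunit : IsUnit (C.pull T.1) := by
    by_contra hnu
    obtain ⟨q, hq, hTq⟩ := exists_max_ideal_of_mem_nonunits hnu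
    obtain ⟨x, hxU, -, hxq⟩ := exists_closed_of_prime hq
    exact (hmem x).1 hxU ((C.pull_mem_iff T hxU).1 (hxq.symm ▸ hTq))
  refine ⟨C, e₀ + 1, T, hx, by omega, hmem, hunit, ?_⟩
  let S := Algebra.adjoin k (Set.range fun G : LefPen.Form r k (e₀ + 1) => C.pull G.1 * Ring.inverse (C.pull T.1))
  have hTF : C.pull T.1 = C.pull F.1 := by
    show C.pull (F.1 * MvPolynomial.X C.j) = _
    rw [map_mul, C.pull_X_self, mul_one]
  have hinv : Ring.inverse (C.pull T.1) ∈ S := by
    refine Algebra.subset_adjoin ⟨⟨MvPolynomial.X C.j ^ (e₀ + 1), (MvPolynomial.mem_homogeneousSubmodule _ _).2 (by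
      have := (MvPolynomial.isHomogeneous_X k C.j).pow (e₀ + 1)
      rwa [one_mul] at this)⟩, ?_⟩
    show C.pull (MvPolynomial.X C.j ^ (e₀ + 1)) * _ = _
    rw [map_pow, C.pull_X_self, one_pow, one_mul]
  have hpoly : ∀ P, C.pull P ∈ S := by
    intro P
    induction P using MvPolynomial.induction_on with
    | C c => rw [C.pull_C hi]; exact S.algebraMap_mem c
    | add p q hp hq => rw [map_add]; exact S.add_mem hp hq
    | mul_X p l hp =>
      rw [map_mul]
      refine S.mul_mem hp (Algebra.subset_adjoin ⟨⟨MvPolynomial.X l * F.1, (MvPolynomial.mem_homogeneousSubmodule _ _).2 (by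
        have := (MvPolynomial.isHomogeneous_X k l).mul ((MvPolynomial.mem_homogeneousSubmodule _ _).1 F.2)
        rwa [Nat.add_comm 1 e₀] at this)⟩, ?_⟩)
      show C.pull (MvPolynomial.X l * F.1) * Ring.inverse (C.pull T.1) = _
      rw [map_mul, ← hTF, mul_assoc, Ring.mul_inverse_cancel _ hunit, mul_one]
  refine eq_top_iff.2 fun y _ => ?_
  have hV : IsAffineOpen (i ⁻¹ᵁ LefPen.chart r k C.j) := (HypCurve.isAffineOpen_chart r k C.j).preimage i
  letI : Algebra Γ(X, i ⁻¹ᵁ LefPen.chart r k C.j) C.B := (AModX.resR C.le).toAlgebra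
  haveI : IsLocalization.Away t C.B := hV.isLocalization_of_eq_basicOpen t (homOfLE C.le) ht.symm
  have hlarge : ∀ z : Γ(X, i ⁻¹ᵁ LefPen.chart r k C.j),
      ∃ p, algebraMap Γ(X, i ⁻¹ᵁ LefPen.chart r k C.j) C.B z = C.pull p := fun z => by
    obtain ⟨w, hw⟩ := i.app_surjective (LefPen.chart r k C.j) (HypCurve.isAffineOpen_chart r k C.j) z
    obtain ⟨v, rfl⟩ := (HypCurve.awayToSection_bijective C.j).2 w
    obtain ⟨p, rfl⟩ := ZetaLib.surjective_dehom r k C.j v
    exact ⟨p, by rw [← hw]; rfl⟩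
  obtain ⟨z, ⟨_, N, rfl⟩, rfl⟩ := IsLocalization.exists_mk'_eq (Submonoid.powers t) y
  obtain ⟨p, hp⟩ := hlarge z
  have ht' : algebraMap Γ(X, i ⁻¹ᵁ LefPen.chart r k C.j) C.B t = C.pull T.1 := by
    rw [hTF, C.pull_form, hF, ← hw]
    rfl
  have : IsLocalization.mk' C.B z (⟨t ^ N, N, rfl⟩ : Submonoid.powers t) = C.pull p * Ring.inverse (C.pull T.1) ^ N := by
    rw [IsLocalization.mk'_eq_iff_eq_mul, map_pow, ht', mul_assoc, ← mul_pow, Ring.inverse_mul_cancel _ hunit, one_pow,
      mul_one, hp]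
  rw [this]
  exact S.mul_mem (hpoly p) (S.pow_mem hinv N)

variable {m : ℕ}

/-- A maximal point of a chart is a closed point of the scheme. -/
theorem Chart.exists_closed (C : Chart i n) (evB : C.B →ₐ[k] k) :
    ∃ (x : X) (hx : x ∈ C.U.1), IsClosed ({x} : Set X) ∧ (C.U.2.primeIdealOf ⟨x, hx⟩).asIdeal = RingHom.ker evB := by
  haveI : IsProper (CohB1.ProjSpace.toSpec r k) := PnCoh.Chow.isProper_toSpec r k
  haveI : JacobsonSpace X := LocallyOfFiniteType.jacobsonSpace (i ≫ CohB1.ProjSpace.toSpec r k)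
  exact exists_closed_of_prime (RingHom.ker_isMaximal_of_surjective _ fun c => ⟨algebraMap k C.B c, evB.commutes c⟩)

variable (hi : X ↘ Spec (CommRingCat.of k) = i ≫ CohB1.ProjSpace.toSpec r k)

include hi in
theorem Chart.bad_iff_point (C : Chart i n) [Nontrivial C.B] (G : Fin m → LefPen.Form r k d) (c : Fin m → k)
    {x : X} (hx : x ∈ C.U.1) (hxc : IsClosed ({x} : Set X)) (evB : C.B →ₐ[k] k)
    (hev : (C.U.2.primeIdealOf ⟨x, hx⟩).asIdeal = RingHom.ker evB) :
    BadAt i (∑ p, c p • G p) x ↔ ∀ j, evB ((C.jetMat G *ᵥ fun p => algebraMap k C.B (c p)) j) = 0 := by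
  haveI := isMaximal_of_closed hx hxc
  rw [C.badAt_iff _ hx hxc, C.mulVec_const hi]
  constructor
  · rintro h (_ | l)
    · exact RingHom.mem_ker.1 (hev ▸ Ideal.pow_le_self two_ne_zero h)
    · exact RingHom.mem_ker.1 (hev ▸ functional_mem_of_mem_sq _ h _)
  · intro h
    refine mem_sq_of_functional_mem _ C.ω ?_ fun l => ?_
    · rw [hev]; exact h none
    · rw [hev]; exact h (some l)

variable [SmoothOfRelativeDimension n (i ≫ CohB1.ProjSpace.toSpec r k)]

include hi in
/-- A relation modulo `T` among the forms of a large degree at the singular points gives finiteness. -/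
theorem finite_of_relation (C : Chart i n) [Nontrivial C.B] {e q : ℕ} (T : LefPen.Form r k e)
    (hunit : IsUnit (C.pull T.1))
    (hgen : Algebra.adjoin k (Set.range fun G : LefPen.Form r k e => C.pull G.1 * Ring.inverse (C.pull T.1)) = ⊤)
    (b : Fin m → LefPen.Form r k d) (c₀ : Fin m → k) (g : MvPolynomial (Fin m) k) (hg : MvPolynomial.eval c₀ g ≠ 0)
    {K : ℕ} (b₂ : Module.Basis (Fin K) k (LefPen.Form r k (q * e)))
    (L : LefPen.Form r k (q * e + e) → Fin K → MvPolynomial (Fin m) k)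
    (hL : ∀ (x : X) (c : Fin m → k) (P : LefPen.Form r k (q * e + e)), IsClosed ({x} : Set X) →
      BadAt i (∑ p, c p • b p) x →
      MvPolynomial.eval c g • P.1 - T.1 * ∑ ν, MvPolynomial.eval c (L P ν) • (b₂ ν).1 ∈
        (i x).asHomogeneousIdeal.toIdeal) :
    (∀ e : Finset C.B,
      (∀ y : C.B, y ∈ Submodule.span k (e : Set C.B) ⊔
        (Ideal.span (Set.range (BadAlg.val (C.jetMat b) c₀))).restrictScalars k) →
      ∃ g' : MvPolynomial (Fin m) k, MvPolynomial.eval c₀ g' ≠ 0 ∧ ∀ c, MvPolynomial.eval c g' ≠ 0 →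
        ∀ y : C.B, y ∈ Submodule.span k (e : Set C.B) ⊔
          (Ideal.span (Set.range (BadAlg.val (C.jetMat b) c))).restrictScalars k) ∧
    ∀ D : MvPolynomial (Fin m) C.B,
      (∀ ev : C.B →ₐ[k] k, (∀ j, ev (BadAlg.val (C.jetMat b) c₀ j) = 0) → ev (BadAlg.spec c₀ D) ≠ 0) →
      ∃ g' : MvPolynomial (Fin m) k, MvPolynomial.eval c₀ g' ≠ 0 ∧ ∀ (ev : C.B →ₐ[k] k) (c : Fin m → k),
        (∀ j, ev (BadAlg.val (C.jetMat b) c j) = 0) → MvPolynomial.eval c g' ≠ 0 → ev (BadAlg.spec c D) ≠ 0 := by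
  classical
  haveI := finite_form (k := k) (r := r) e
  let b₁ := Module.finBasis k (LefPen.Form r k e)
  let inv := Ring.inverse (C.pull T.1)
  have hTi : C.pull T.1 * inv = 1 := Ring.mul_inverse_cancel _ hunit
  let u : ULift.{u} (Fin (Module.finrank k (LefPen.Form r k e))) → C.B := fun γ => C.pull (b₁ γ.down).1 * inv
  let w : ULift.{u} (Fin K) → C.B := fun ν => C.pull (b₂ ν.down).1 * inv ^ q
  let prod : ULift.{u} (Fin (Module.finrank k (LefPen.Form r k e))) → ULift.{u} (Fin K) → LefPen.Form r k (q * e + e) :=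
    fun γ μ => ⟨(b₁ γ.down).1 * (b₂ μ.down).1, (MvPolynomial.mem_homogeneousSubmodule _ _).2 (by
      have := ((MvPolynomial.mem_homogeneousSubmodule _ _).1 (b₁ γ.down).2).mul
        ((MvPolynomial.mem_homogeneousSubmodule _ _).1 (b₂ μ.down).2)
      exact (Nat.add_comm e (q * e)).subst
        (motive := fun t => MvPolynomial.IsHomogeneous ((b₁ γ.down).1 * (b₂ μ.down).1) t) this)⟩
  let Λ : ULift.{u} (Fin (Module.finrank k (LefPen.Form r k e))) →
      Matrix (ULift.{u} (Fin K)) (ULift.{u} (Fin K)) (MvPolynomial (Fin m) k) := fun γ μ ν => L (prod γ μ) ν.down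
  have hu : Algebra.adjoin k (Set.range u) = ⊤ := by
    refine eq_top_iff.2 (hgen ▸ Algebra.adjoin_le ?_)
    rintro _ ⟨G, rfl⟩
    show C.pull G.1 * inv ∈ Algebra.adjoin k (Set.range u)
    rw [← b₁.sum_repr G]
    simp only [Submodule.coe_sum, Submodule.coe_smul, MvPolynomial.smul_eq_C_mul, map_sum, map_mul, C.pull_C hi,
      Finset.sum_mul, mul_assoc]
    exact Subalgebra.sum_mem _ fun γ _ =>
      Subalgebra.mul_mem _ (Subalgebra.algebraMap_mem _ _) (Algebra.subset_adjoin ⟨⟨γ⟩, rfl⟩)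
  refine BadAlg.main (C.jetMat b) g c₀ hg u hu w Λ (fun evB c _ => ?_) fun evB c hbadc γ μ => ?_
  · by_contra! hall
    let G₁ : LefPen.Form r k (q * e) := ⟨MvPolynomial.X C.j ^ (q * e), (MvPolynomial.mem_homogeneousSubmodule _ _).2 (by
      have := (MvPolynomial.isHomogeneous_X k C.j).pow (q * e)
      rwa [one_mul] at this)⟩
    have h2 : evB (C.pull G₁.1 * inv ^ q) = 0 := by
      rw [← b₂.sum_repr G₁]
      simp only [Submodule.coe_sum, Submodule.coe_smul, MvPolynomial.smul_eq_C_mul, map_sum, map_mul, C.pull_C hi,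
        Finset.sum_mul, mul_assoc]
      exact Finset.sum_eq_zero fun ν _ => by rw [← map_mul evB]; exact mul_eq_zero_of_right _ (hall ⟨ν⟩)
    rw [show C.pull G₁.1 = 1 by show C.pull (_ ^ _) = 1; rw [map_pow, C.pull_X_self, one_pow], one_mul] at h2
    have := congrArg evB (show C.pull T.1 ^ q * inv ^ q = 1 by rw [← mul_pow, hTi, one_pow])
    rw [map_mul, h2, mul_zero, map_one] at this
    exact zero_ne_one this
  · obtain ⟨x, hxU, hxc, hxq⟩ := C.exists_closed evB
    have hbad := (C.bad_iff_point hi b c hxU hxc evB hxq).2 hbadc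
    let D₀ : LefPen.Form r k (q * e + e) := ⟨_, Submodule.sub_mem _
      (Submodule.smul_mem _ (MvPolynomial.eval c g) (prod γ μ).2)
      ((MvPolynomial.mem_homogeneousSubmodule _ _).2 ((Nat.add_comm e (q * e)).subst
        (motive := fun t => MvPolynomial.IsHomogeneous (T.1 * ∑ ν, MvPolynomial.eval c (L (prod γ μ) ν) • (b₂ ν).1) t)
        (((MvPolynomial.mem_homogeneousSubmodule _ _).1 T.2).mul ((MvPolynomial.mem_homogeneousSubmodule _ _).1
          (Submodule.sum_mem _ fun ν _ => Submodule.smul_mem _ _ (b₂ ν).2)))))⟩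
    have h4 := (C.pull_mem_iff D₀ hxU).2 (hL x c (prod γ μ) hxc hbad)
    rw [hxq, RingHom.mem_ker] at h4
    simp only [D₀, prod, MvPolynomial.smul_eq_C_mul, map_sub, map_mul, map_sum, C.pull_C hi, evB.commutes,
      Algebra.algebraMap_self, RingHom.id_apply] at h4
    have hT1 : evB (C.pull T.1) * evB inv = 1 := by rw [← map_mul, hTi, map_one]
    rw [sub_eq_zero] at h4
    have e4 : ∑ ν : ULift.{u} (Fin K), MvPolynomial.eval c (Λ γ μ ν) * evB (w ν) =
        (∑ ν : Fin K, MvPolynomial.eval c (L (prod γ μ) ν) * evB (C.pull (b₂ ν).1)) * evB inv ^ q := by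
      rw [← Equiv.ulift.symm.sum_comp, Finset.sum_mul]
      refine Finset.sum_congr rfl fun ν _ => ?_
      simp only [Λ, w, map_mul, map_pow, Equiv.ulift_symm_apply, mul_assoc]
    show MvPolynomial.eval c g * evB (C.pull (b₁ γ.down).1 * inv) * evB (C.pull (b₂ μ.down).1 * inv ^ q) =
      ∑ ν, MvPolynomial.eval c (Λ γ μ ν) * evB (w ν)
    rw [e4, map_mul, map_mul, map_pow]
    calc _ = (MvPolynomial.eval c g * (evB (C.pull (b₁ γ.down).1) * evB (C.pull (b₂ μ.down).1))) *
          (evB inv * evB inv ^ q) := by ring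
      _ = _ := by rw [h4, mul_comm (evB (C.pull T.1)), mul_assoc, ← mul_assoc (evB (C.pull T.1)), hT1, one_mul]

include hi in
/-- Near a form with one singular point the singular points form a finite family. -/
theorem exists_finite_nbhd (C : Chart i n) [Nontrivial C.B] {e : ℕ} (T : LefPen.Form r k e) (he : 1 ≤ e)
    (hT : ∀ x : X, x ∈ C.U.1 ↔ T.1 ∉ (i x).asHomogeneousIdeal.toIdeal) (hunit : IsUnit (C.pull T.1))
    (hgen : Algebra.adjoin k (Set.range fun G : LefPen.Form r k e => C.pull G.1 * Ring.inverse (C.pull T.1)) = ⊤)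
    (b : Module.Basis (Fin m) k (LefPen.Form r k d)) (c₀ : Fin m → k) (x₀ : X) (hx₀ : x₀ ∈ C.U.1)
    (honly : ∀ x : X, IsClosed ({x} : Set X) → BadAt i (∑ p, c₀ p • b p) x → x = x₀) :
    ∃ g : MvPolynomial (Fin m) k, MvPolynomial.eval c₀ g ≠ 0 ∧
      (∀ (x : X) (c : Fin m → k), IsClosed ({x} : Set X) → BadAt i (∑ p, c p • b p) x → MvPolynomial.eval c g ≠ 0 →
        x ∈ C.U.1) ∧
      (∀ e : Finset C.B,
        (∀ y : C.B, y ∈ Submodule.span k (e : Set C.B) ⊔
          (Ideal.span (Set.range (BadAlg.val (C.jetMat b) c₀))).restrictScalars k) →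
        ∃ g' : MvPolynomial (Fin m) k, MvPolynomial.eval c₀ g' ≠ 0 ∧ ∀ c, MvPolynomial.eval c g' ≠ 0 →
          ∀ y : C.B, y ∈ Submodule.span k (e : Set C.B) ⊔
            (Ideal.span (Set.range (BadAlg.val (C.jetMat b) c))).restrictScalars k) ∧
      ∀ D : MvPolynomial (Fin m) C.B,
        (∀ ev : C.B →ₐ[k] k, (∀ j, ev (BadAlg.val (C.jetMat b) c₀ j) = 0) → ev (BadAlg.spec c₀ D) ≠ 0) →
        ∃ g' : MvPolynomial (Fin m) k, MvPolynomial.eval c₀ g' ≠ 0 ∧ ∀ (ev : C.B →ₐ[k] k) (c : Fin m → k),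
          (∀ j, ev (BadAlg.val (C.jetMat b) c j) = 0) → MvPolynomial.eval c g' ≠ 0 → ev (BadAlg.spec c D) ≠ 0 := by
  classical
  let S := {F : Fam r m k // F.Kills i b}
  let J : Ideal (MvPolynomial (Fin (r + 1)) k) :=
    Ideal.span (Set.range fun F : S => (F.1.val c₀).1) ⊔ Ideal.span {T.1}
  have hrad : MvPolynomial.idealOfVars (Fin (r + 1)) k ≤ J.radical := by
    refine Ideal.span_le.2 ?_
    rintro _ ⟨j, rfl⟩
    rw [SetLike.mem_coe, Ideal.radical_eq_sInf, Submodule.mem_sInf]
    rintro P ⟨hJP, hP⟩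
    by_contra hjP
    let z : CohB1.ProjSpace r k :=
      (show ProjectiveSpectrum (CohB1.polyGrading r k) from
        ⟨Ideal.homogeneousCore (CohB1.polyGrading r k) P, Ideal.IsPrime.homogeneousCore hP, fun hle =>
          hjP (Ideal.toIdeal_homogeneousCore_le _ P (hle (HomogeneousIdeal.mem_irrelevant_of_mem _ one_pos
            (LefPen.X_mem r k j))))⟩)
    haveI : CompactSpace (CohB1.ProjSpace r k) := by
      haveI := PnCoh.Chow.isProper_toSpec r k
      exact QuasiCompact.compactSpace_of_compactSpace (CohB1.ProjSpace.toSpec r k)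
    obtain ⟨y, hyz, hy⟩ := (isClosed_closure (s := ({z} : Set (CohB1.ProjSpace r k)))).exists_closed_singleton
      ⟨z, subset_closure rfl⟩
    by_cases hy0 : y = i x₀
    · have hzy : z ∈ Proj.basicOpen (CohB1.polyGrading r k) T.1 :=
        (specializes_iff_mem_closure.2 hyz).mem_open (Proj.basicOpen _ _).2 (hy0 ▸ (hT x₀).1 hx₀)
      exact hzy (Ideal.mem_homogeneousCore_of_homogeneous_of_mem ⟨_, T.2⟩
        (hJP (Submodule.mem_sup_right (Ideal.mem_span_singleton_self _))))
    · obtain ⟨F, hF, hFy⟩ := exists_kills (n := n) hi b c₀ y hy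
        (fun x hx hxy hbad => hy0 (hxy ▸ congrArg i (honly x hx hbad)))
      have hzy : z ∈ Proj.basicOpen (CohB1.polyGrading r k) (F.val c₀).1 :=
        (specializes_iff_mem_closure.2 hyz).mem_open (Proj.basicOpen _ _).2 hFy
      exact hzy (Ideal.mem_homogeneousCore_of_homogeneous_of_mem ⟨_, (F.val c₀).2⟩
        (hJP (Submodule.mem_sup_left (Ideal.subset_span ⟨⟨F, hF⟩, rfl⟩))))
  obtain ⟨q, hq⟩ := Ideal.exists_pow_le_of_le_radical_of_fg hrad (MvPolynomial.idealOfVars_fg _ _)
  let N := q * e + e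
  have hqN : q ≤ N := (Nat.le_mul_of_pos_right q (by omega)).trans (Nat.le_add_right _ _)
  haveI := finite_form (k := k) (r := r) N
  haveI := finite_form (k := k) (r := r) (q * e)
  haveI := finite_form (k := k) (r := r) e
  let b' := Module.finBasis k (LefPen.Form r k N)
  let M := Module.finrank k (LefPen.Form r k N)
  let b₂ := Module.finBasis k (LefPen.Form r k (q * e))
  let b₁ := Module.finBasis k (LefPen.Form r k e)
  let mulT : LefPen.Form r k (q * e) → LefPen.Form r k N := fun R => ⟨T.1 * R.1, (MvPolynomial.mem_homogeneousSubmodule _ _).2 (by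
    have := ((MvPolynomial.mem_homogeneousSubmodule _ _).1 T.2).mul ((MvPolynomial.mem_homogeneousSubmodule _ _).1 R.2)
    exact (Nat.add_comm e (q * e)).subst (motive := fun t => MvPolynomial.IsHomogeneous (T.1 * R.1) t) this)⟩
  have hexp : ∀ β : Fin M, ∃ (E₀ : LefPen.Form r k N) (E : Fin m → LefPen.Form r k N) (R : LefPen.Form r k (q * e)),
      E₀ + ∑ p, c₀ p • E p + mulT R = b' β ∧ ∀ (x : X) (c : Fin m → k), IsClosed ({x} : Set X) →
        BadAt i (∑ p, c p • b p) x → (E₀ + ∑ p, c p • E p).1 ∈ (i x).asHomogeneousIdeal.toIdeal := by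
    intro β
    have hmem : (b' β).1 ∈ J := hq ((MvPolynomial.mem_pow_idealOfVars_iff _ _).2 fun a ha => by
      have h1 := (b' β).2 (MvPolynomial.mem_support_iff.1 ha)
      rw [Finsupp.weight_apply] at h1
      exact le_trans hqN (by simpa [Finsupp.degree_apply, Finsupp.sum] using h1.ge))
    obtain ⟨j₁, hj₁, j₂, hj₂, hsum⟩ := Submodule.mem_sup.1 hmem
    obtain ⟨coef, hcoef⟩ := (Finsupp.mem_ideal_span_range_iff_exists_finsupp).1 hj₁
    obtain ⟨p, hp⟩ := Ideal.mem_span_singleton'.1 hj₂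
    let Q : S → MvPolynomial (Fin (r + 1)) k := fun s =>
      if s.1.e ≤ N then MvPolynomial.homogeneousComponent (N - s.1.e) (coef s) else 0
    have hQ : ∀ (s : S) (G : LefPen.Form r k s.1.e), Q s * G.1 ∈ CohB1.polyGrading r k N := fun s G => by
      by_cases hs : s.1.e ≤ N
      · simp only [Q, if_pos hs]
        have := (MvPolynomial.homogeneousComponent_isHomogeneous (N - s.1.e) (coef s)).mul
          ((MvPolynomial.mem_homogeneousSubmodule _ _).1 G.2)
        rw [Nat.sub_add_cancel hs] at this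
        exact (MvPolynomial.mem_homogeneousSubmodule _ _).2 this
      · simp only [Q, if_neg hs, zero_mul]
        exact zero_mem _
    refine ⟨⟨∑ s ∈ coef.support, Q s * (s.1.G₀).1, sum_mem fun s _ => hQ s _⟩,
      fun p => ⟨∑ s ∈ coef.support, Q s * (s.1.G p).1, sum_mem fun s _ => hQ s _⟩,
      ⟨MvPolynomial.homogeneousComponent (q * e) p, (MvPolynomial.mem_homogeneousSubmodule _ _).2
        (MvPolynomial.homogeneousComponent_isHomogeneous _ _)⟩, ?_, ?_⟩
    all_goals
      have hval : ∀ c : Fin m → k, (∑ s ∈ coef.support, Q s * (s.1.G₀).1) +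
          ∑ p, c p • ∑ s ∈ coef.support, Q s * (s.1.G p).1 = ∑ s ∈ coef.support, Q s * (s.1.val c).1 := fun c => by
        simp only [Fam.val, Submodule.coe_add, Submodule.coe_sum, Submodule.coe_smul, mul_add, Finset.mul_sum,
          Finset.smul_sum, Finset.sum_add_distrib, mul_smul_comm]
        rw [Finset.sum_comm (s := (Finset.univ : Finset (Fin m)))]
    · apply Subtype.ext
      simp only [mulT, Submodule.coe_add, Submodule.coe_sum, Submodule.coe_smul]
      rw [hval, ← MvPolynomial.homogeneousComponent_eq_self ((MvPolynomial.mem_homogeneousSubmodule _ _).1 (b' β).2),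
        ← hsum, map_add, ← hcoef, ← hp, Finsupp.sum, map_sum,
        Hensel.homogeneousComponent_mul_of_isHomogeneous p ((MvPolynomial.mem_homogeneousSubmodule _ _).1 T.2),
        if_pos (Nat.le_add_left e (q * e)), Nat.add_sub_cancel, mul_comm T.1]
      congr 1
      refine Finset.sum_congr rfl fun s _ => ?_
      rw [Hensel.homogeneousComponent_mul_of_isHomogeneous (coef s) ((MvPolynomial.mem_homogeneousSubmodule _ _).1 (s.1.val c₀).2)]
      by_cases hs : s.1.e ≤ N
      · simp only [Q, if_pos hs]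
      · simp only [Q, if_neg hs, zero_mul]
    · intro x c hx hbad
      simp only [Submodule.coe_add, Submodule.coe_sum, Submodule.coe_smul]
      rw [hval]
      exact sum_mem fun s _ => Ideal.mul_mem_left _ _ (s.2 x c hx hbad)
  choose E₀ E R hE hEbad using hexp
  let Mat : Matrix (Fin M) (Fin M) (MvPolynomial (Fin m) k) := fun γ β =>
    MvPolynomial.C (b'.repr (E₀ β + mulT (R β)) γ) + ∑ p, MvPolynomial.C (b'.repr (E β p) γ) * MvPolynomial.X p
  let E' : (Fin m → k) → Fin M → LefPen.Form r k N := fun c β => E₀ β + ∑ p, c p • E β p + mulT (R β)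
  have hev : ∀ c : Fin m → k, (MvPolynomial.eval c).mapMatrix Mat = b'.toMatrix (E' c) := fun c => by
    refine Matrix.ext fun γ β => ?_
    rw [RingHom.mapMatrix_apply, Matrix.map_apply, Module.Basis.toMatrix_apply]
    simp only [Mat, E', map_add, map_sum, map_smul, map_mul, MvPolynomial.eval_C, MvPolynomial.eval_X, Finsupp.add_apply,
      Finsupp.smul_apply, Finsupp.coe_finset_sum, Finset.sum_apply, smul_eq_mul]
    rw [add_right_comm, Finset.sum_congr rfl fun p _ => mul_comm (b'.repr (E β p) γ) (c p)]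
  refine ⟨Mat.det, ?_, ?_, ?_⟩
  · rw [RingHom.map_det, hev, show E' c₀ = ⇑b' from funext hE, Module.Basis.toMatrix_self, Matrix.det_one]
    exact one_ne_zero
  all_goals
    have hcramer : ∀ (c : Fin m → k) (P : LefPen.Form r k N),
        ∑ β, ((MvPolynomial.eval c).mapMatrix Mat.adjugate *ᵥ fun γ => b'.repr P γ) β • E' c β =
          MvPolynomial.eval c Mat.det • P := by
      intro c P
      refine b'.ext_elem fun γ => ?_
      have h1 : (b'.toMatrix (E' c) *ᵥ ((MvPolynomial.eval c).mapMatrix Mat.adjugate *ᵥ fun γ => b'.repr P γ)) γ =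
          MvPolynomial.eval c Mat.det * b'.repr P γ := by
        rw [mulVec_mulVec, ← hev, ← map_mul, Matrix.mul_adjugate, RingHom.mapMatrix_apply,
          Matrix.map_smul' _ _ _ (map_mul _), Matrix.map_one _ (map_zero _) (map_one _), smul_mulVec, one_mulVec]
        rfl
      rw [map_smul, Finsupp.smul_apply, smul_eq_mul, ← h1]
      simp only [map_sum, map_smul, Finsupp.coe_finset_sum, Finset.sum_apply, Finsupp.smul_apply, smul_eq_mul, mulVec,
        dotProduct, Module.Basis.toMatrix_apply]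
      exact Finset.sum_congr rfl fun β _ => by ring
    have hvan : ∀ (x : X) (c : Fin m → k) (P : LefPen.Form r k N), IsClosed ({x} : Set X) →
        BadAt i (∑ p, c p • b p) x →
        MvPolynomial.eval c Mat.det • P.1 - T.1 * ∑ β,
          ((MvPolynomial.eval c).mapMatrix Mat.adjugate *ᵥ fun γ => b'.repr P γ) β • (R β).1 ∈
          (i x).asHomogeneousIdeal.toIdeal := by
      intro x c P hx hbad
      have h1 := congrArg Subtype.val (hcramer c P)
      simp only [Submodule.coe_sum, Submodule.coe_smul] at h1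
      rw [← h1, Finset.mul_sum, ← Finset.sum_sub_distrib]
      refine sum_mem fun β _ => ?_
      rw [mul_smul_comm, ← smul_sub, MvPolynomial.smul_eq_C_mul]
      refine Ideal.mul_mem_left _ _ ?_
      have : (E' c β).1 - T.1 * (R β).1 = (E₀ β + ∑ p, c p • E β p).1 := by
        simp only [E', mulT, Submodule.coe_add]
        ring
      rw [this]
      exact hEbad β x c hx hbad
  · intro x c hx hbad hg
    rw [hT]
    intro hTx
    obtain ⟨j, hj⟩ := Opens.mem_iSup.1 ((HypCurve.iSup_chart r k).ge (Set.mem_univ (i x)))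
    let P : LefPen.Form r k N := ⟨MvPolynomial.X j ^ N, (MvPolynomial.mem_homogeneousSubmodule _ _).2 (by
      have := (MvPolynomial.isHomogeneous_X k j).pow N
      rwa [one_mul] at this)⟩
    have h1 := add_mem (hvan x c P hx hbad) (Ideal.mul_mem_right
      (∑ β, ((MvPolynomial.eval c).mapMatrix Mat.adjugate *ᵥ fun γ => b'.repr P γ) β • (R β).1) _ hTx)
    rw [sub_add_cancel, MvPolynomial.smul_eq_C_mul] at h1
    rcases (i x).isPrime.mem_or_mem h1 with h2 | h2
    · refine (i x).isPrime.ne_top (Ideal.eq_top_of_isUnit_mem _ h2 ((isUnit_iff_ne_zero.2 hg).map MvPolynomial.C))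
    · exact hj ((i x).isPrime.mem_of_pow_mem N h2)
  · refine finite_of_relation hi C T hunit hgen b c₀ Mat.det ?_ b₂
      (fun P ν => ∑ β, (Mat.adjugate *ᵥ fun δ => MvPolynomial.C (b'.repr P δ)) β * MvPolynomial.C (b₂.repr (R β) ν))
      fun x c P hxc hbad => ?_
    · rw [RingHom.map_det, hev, show E' c₀ = ⇑b' from funext hE, Module.Basis.toMatrix_self, Matrix.det_one]
      exact one_ne_zero
    · suffices hs : ∑ ν, MvPolynomial.eval c
          (∑ β, (Mat.adjugate *ᵥ fun δ => MvPolynomial.C (b'.repr P δ)) β * MvPolynomial.C (b₂.repr (R β) ν)) • (b₂ ν).1 =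
          ∑ β, ((MvPolynomial.eval c).mapMatrix Mat.adjugate *ᵥ fun δ => b'.repr P δ) β • (R β).1 by
        rw [hs]
        exact hvan x c P hxc hbad
      have e1 : ∀ β, MvPolynomial.eval c ((Mat.adjugate *ᵥ fun δ => MvPolynomial.C (b'.repr P δ)) β) =
          ((MvPolynomial.eval c).mapMatrix Mat.adjugate *ᵥ fun δ => b'.repr P δ) β := fun β => by
        simp only [mulVec, dotProduct, map_sum, map_mul, MvPolynomial.eval_C, RingHom.mapMatrix_apply, Matrix.map_apply]
      simp only [map_sum, map_mul, MvPolynomial.eval_C, e1, Finset.sum_smul, mul_smul]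
      rw [Finset.sum_comm]
      refine Finset.sum_congr rfl fun β _ => ?_
      conv_rhs => rw [← b₂.sum_repr (R β)]
      simp only [Submodule.coe_sum, Submodule.coe_smul, Finset.smul_sum]

end Groth.Agent.H9LefPen

end
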