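import Groth.Agent.H9LefPen.SmoothPt
import Groth.Agent.H9LefPen.BadScheme

/-! Singular points of a section and points of second order. -/

set_option autoImplicit false
set_option linter.style.haveILetI false
set_option backward.isDefEq.respectTransparency false
set_option backward.isDefEq.respectTransparency.types false
set_option maxHeartbeats 1000000

universe u

open CategoryTheory CategoryTheory.Limits AlgebraicGeometry TopologicalSpace Opposite Matrix
open KaehlerDifferential (D)

noncomputable section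

namespace Groth.Agent.H9LefPen

open Groth.Agent

variable {k : Type u} [Field k] [IsAlgClosed k] {r d : ℕ} {X : Scheme.{u}} {i : X ⟶ CohB1.ProjSpace r k}
  [IsClosedImmersion i] [X.Over (Spec (CommRingCat.of k))] {n : ℕ}

omit [IsAlgClosed k] [IsClosedImmersion i] in
/-- The points of a chart at which the equation vanishes are points of the section. -/
theorem Chart.exists_secPoint (C : Chart i n) (H : LefPen.Form r k d) {x : X} (hx : x ∈ C.U.1)
    (h : C.pull H.1 ∈ (C.U.2.primeIdealOf ⟨x, hx⟩).asIdeal) :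
    ∃ z : LefPen.Sec i ({H} : Set (LefPen.Form r k d)), LefPen.secι i ({H} : Set (LefPen.Form r k d)) z = x := by
  change x ∈ Set.range (LefPen.secIdeal i ({H} : Set (LefPen.Form r k d))).subschemeι
  rw [Scheme.IdealSheafData.range_subschemeι]
  refine ((Scheme.IdealSheafData.coe_support_inter _ C.U).ge ⟨?_, hx⟩).1
  rw [C.ideal_sec, Scheme.zeroLocus_span, Scheme.zeroLocus_singleton, Set.mem_compl_iff, SetLike.mem_coe,
    QCoh.mem_basicOpen_iff_notMem C.U.2 hx, not_not]
  exact h

omit [IsAlgClosed k] [IsClosedImmersion i] in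
/-- The equation vanishes at the points of the section. -/
theorem Chart.pull_mem_of_secPoint (C : Chart i n) (H : LefPen.Form r k d)
    (z : LefPen.Sec i ({H} : Set (LefPen.Form r k d))) (hz : LefPen.secι i ({H} : Set (LefPen.Form r k d)) z ∈ C.U.1) :
    C.pull H.1 ∈ (C.U.2.primeIdealOf ⟨_, hz⟩).asIdeal := by
  have h1 : LefPen.secι i ({H} : Set (LefPen.Form r k d)) z ∈
      ((LefPen.secIdeal i ({H} : Set (LefPen.Form r k d))).support : Set X) :=
    (Scheme.IdealSheafData.range_subschemeι _).le ⟨z, rfl⟩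
  have h2 := ((Scheme.IdealSheafData.coe_support_inter _ C.U).le ⟨h1, hz⟩).1
  rw [C.ideal_sec, Scheme.zeroLocus_span, Scheme.zeroLocus_singleton, Set.mem_compl_iff, SetLike.mem_coe,
    QCoh.mem_basicOpen_iff_notMem C.U.2 hz, not_not] at h2
  exact h2

variable [IrreducibleSpace X] [hX : SmoothOfRelativeDimension n (X ↘ Spec (CommRingCat.of k))]
  (hi : X ↘ Spec (CommRingCat.of k) = i ≫ CohB1.ProjSpace.toSpec r k)

/-- An equation zero on one chart is zero on all. -/
theorem Chart.pull_eq_zero_of (C C' : Chart i n) (H : LefPen.Form r k d) (hne : (C.U.1 : Set X).Nonempty)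
    (h : C.pull H.1 = 0) : C'.pull H.1 = 0 := by
  have hall : ∀ x : X, H.1 ∈ (i x).asHomogeneousIdeal.toIdeal := by
    intro x
    have hd : closure (C.U.1 : Set X) = Set.univ := (C.U.1.2.dense hne).closure_eq
    have hc : IsClosed {x : X | H.1 ∈ (i x).asHomogeneousIdeal.toIdeal} := by
      let W : (CohB1.ProjSpace r k).Opens := Proj.basicOpen (CohB1.polyGrading r k) H.1
      have hc2 : IsClosed (i ⁻¹' ((W : Set (CohB1.ProjSpace r k))ᶜ)) := W.2.isClosed_compl.preimage i.continuous
      convert hc2 using 1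
      ext x
      exact (not_not (a := H.1 ∈ (i x).asHomogeneousIdeal.toIdeal)).symm
    exact hc.closure_subset_iff.2 (fun y hy => (C.pull_mem_iff H hy).1 (h ▸ Ideal.zero_mem _)) (hd.ge trivial)
  by_contra hne'
  haveI : Nonempty C'.U.1 := by
    by_contra hempty
    rw [not_nonempty_iff] at hempty
    haveI : Subsingleton C'.B := by
      have : C'.U.1 = ⊥ := Opens.ext (Set.eq_empty_of_forall_notMem fun x hx => hempty.false ⟨x, hx⟩)
      show Subsingleton Γ(X, C'.U.1)
      rw [this]
      infer_instance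
    exact hne' (Subsingleton.elim _ _)
  obtain ⟨x, hx⟩ := ‹Nonempty C'.U.1›
  haveI := C'.isDomain hx
  refine hne' (IsNilpotent.eq_zero ((mem_nilradical).1 ?_))
  rw [nilradical_eq_sInf, Ideal.mem_sInf]
  intro P hP
  let y : X := C'.U.2.fromSpec ⟨P, hP⟩
  have hy : y ∈ C'.U.1 := C'.U.2.range_fromSpec.le ⟨_, rfl⟩
  have := (C'.pull_mem_iff H hy).2 (hall y)
  rwa [C'.U.2.fromSpec.isOpenEmbedding.injective ((C'.U.2.fromSpec_primeIdealOf ⟨y, hy⟩).trans rfl)] at this

include hi hX in
/-- The ideal of second order vanishing at a nonsmooth point of a section. -/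
theorem Chart.badIdeal_le_of_not_smoothAt (C : Chart i n) [Nontrivial C.B] (H : LefPen.Form r k d)
    (z : LefPen.Sec i ({H} : Set (LefPen.Form r k d))) (hz : LefPen.secι i ({H} : Set (LefPen.Form r k d)) z ∈ C.U.1)
    (h : ¬ LefPen.SmoothAt (LefPen.secToSpec i ({H} : Set (LefPen.Form r k d))) z) :
    C.pull H.1 ≠ 0 ∧ C.badIdeal H ≤ (C.U.2.primeIdealOf ⟨_, hz⟩).asIdeal := by
  refine ⟨fun h0 => h (C.smoothAt_of hi H z hz (Or.inl h0)), (C.badIdeal_le_iff H _).2
    ⟨C.pull_mem_of_secPoint H z hz, fun l => ?_⟩⟩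
  by_contra hl
  exact h (C.smoothAt_of hi H z hz (Or.inr ⟨l, hl⟩))

include hi hX in
/-- A section with a single point of second order is singular only there. -/
theorem eq_of_not_smoothAt (H : LefPen.Form r k d) {x : X}
    (honly : ∀ y : X, IsClosed ({y} : Set X) → BadAt i H y → y = x)
    (z : LefPen.Sec i ({H} : Set (LefPen.Form r k d)))
    (h : ¬ LefPen.SmoothAt (LefPen.secToSpec i ({H} : Set (LefPen.Form r k d))) z) :
    LefPen.secι i ({H} : Set (LefPen.Form r k d)) z = x := by
  obtain ⟨C, hz, -⟩ := exists_chart' i (n := n) (LefPen.secι i ({H} : Set (LefPen.Form r k d)) z)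
  haveI := C.isDomain hz
  haveI : Smooth (X ↘ Spec (CommRingCat.of k)) := hX.smooth
  haveI : JacobsonSpace X := LocallyOfFiniteType.jacobsonSpace (X ↘ Spec (CommRingCat.of k))
  haveI : IsJacobsonRing C.B := isJacobsonRing_of_finiteType (A := k)
  obtain ⟨-, hle⟩ := C.badIdeal_le_of_not_smoothAt hi H z hz h
  let v := (C.U.2.primeIdealOf ⟨_, hz⟩).asIdeal
  have hv : v.jacobson = v := IsJacobsonRing.out inferInstance (C.U.2.primeIdealOf ⟨_, hz⟩).2.isRadical
  have hmax : ∀ q : Ideal C.B, q.IsMaximal → v ≤ q → ∃ (hx : x ∈ C.U.1), (C.U.2.primeIdealOf ⟨x, hx⟩).asIdeal = q := by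
    intro q hq hvq
    obtain ⟨y, hy, hyc, hyq⟩ := exists_closed_of_prime hq
    obtain rfl := honly y hyc ((C.badAt_iff_le H hy hyc).2 (hyq ▸ hle.trans hvq))
    exact ⟨hy, hyq⟩
  obtain ⟨q, hq, hvq⟩ := Ideal.exists_le_maximal v (C.U.2.primeIdealOf ⟨_, hz⟩).2.ne_top
  obtain ⟨hx, hxq⟩ := hmax q hq hvq
  have hveq : v = q := by
    refine le_antisymm hvq ?_
    rw [← hv, Ideal.jacobson]
    exact le_sInf fun q' hq' => by obtain ⟨hx', hxq'⟩ := hmax q' hq'.2 hq'.1; rw [← hxq, ← hxq']
  have h1 : C.U.2.primeIdealOf ⟨_, hz⟩ = C.U.2.primeIdealOf ⟨x, hx⟩ := PrimeSpectrum.ext (hveq.trans hxq.symm)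
  have h2 := congrArg C.U.2.fromSpec h1
  rwa [C.U.2.fromSpec_primeIdealOf, C.U.2.fromSpec_primeIdealOf] at h2

end Groth.Agent.H9LefPen

end
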