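import Groth.Agent.H9LefPen.BadLocal
import Groth.Agent.H9LefPen.OneBad

/-! The forms with one ordinary quadratic point are open in the dual variety. -/

set_option autoImplicit false
set_option linter.style.haveILetI false
set_option backward.isDefEq.respectTransparency false
set_option backward.isDefEq.respectTransparency.types false
set_option maxHeartbeats 1000000

universe u

open CategoryTheory CategoryTheory.Limits AlgebraicGeometry TopologicalSpace Opposite Matrix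
open KaehlerDifferential (D)

noncomputable section

namespace Groth.Agent.H9LefPen

open Groth.Agent

variable {k : Type u} [Field k] [IsAlgClosed k] {r d m N : ℕ} {X : Scheme.{u}} {i : X ⟶ CohB1.ProjSpace r k}
  [IsClosedImmersion i] [X.Over (Spec (CommRingCat.of k))]
  (hi : X ↘ Spec (CommRingCat.of k) = i ≫ CohB1.ProjSpace.toSpec r k)

include hi in
theorem Chart.span_val (C : Chart i N) [Nontrivial C.B] (b : Fin m → LefPen.Form r k d) (c : Fin m → k) :
    Ideal.span (Set.range (BadAlg.val (C.jetMat b) c)) =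
      Hess.critIdeal C.ω (C.pull (∑ p, c p • b p : LefPen.Form r k d).1) := by
  rw [Hess.critIdeal, BadAlg.val, C.mulVec_const hi, Set.range_eq_iff _ _ |>.2 ⟨?_, ?_⟩]
  · rintro (_ | l)
    · exact Set.mem_insert _ _
    · exact Set.mem_insert_of_mem _ ⟨l, rfl⟩
  · rintro y (rfl | ⟨l, rfl⟩)
    · exact ⟨none, rfl⟩
    · exact ⟨some l, rfl⟩

/-- The second order coefficients of the members of a family, as functions of the parameters. -/
def Chart.tabPoly (C : Chart i N) [Nontrivial C.B] (b : Fin m → LefPen.Form r k d) (a a' : Fin N) :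
    MvPolynomial (Fin m) C.B :=
  ∑ p, MvPolynomial.C (Hess.tab C.ω a a' (C.pull (b p).1)) * MvPolynomial.X p

include hi in
theorem Chart.eval_tabPoly (C : Chart i N) [Nontrivial C.B] (b : Fin m → LefPen.Form r k d) (ev : C.B →ₐ[k] k)
    (c : Fin m → k) (a a' : Fin N) :
    ev (BadAlg.spec c (C.tabPoly b a a')) = C.hess ev (∑ p, c p • b p) a a' := by
  have h1 : C.pull (∑ p, c p • b p : LefPen.Form r k d).1 = ∑ p, c p • C.pull (b p).1 := by
    rw [Submodule.coe_sum, map_sum]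
    exact Finset.sum_congr rfl fun p _ => by
      rw [Submodule.coe_smul, MvPolynomial.smul_eq_C_mul, map_mul, C.pull_C hi, Algebra.smul_def]
  rw [Chart.hess, h1]
  simp only [Chart.tabPoly, BadAlg.spec, map_sum, map_mul, map_smul, MvPolynomial.aeval_C, MvPolynomial.aeval_X,
    ev.commutes, Algebra.algebraMap_self, RingHom.id_apply, smul_eq_mul]
  exact Finset.sum_congr rfl fun p _ => mul_comm _ _

/-- The determinant of the polar form of the members. -/
def Chart.detPoly (C : Chart i N) [Nontrivial C.B] (b : Fin m → LefPen.Form r k d) : MvPolynomial (Fin m) C.B :=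
  (VanCyc.polarMatrix fun a a' => C.tabPoly b a a').det

/-- The value of the members on a column of the adjugate of their polar form. -/
def Chart.adjPoly (C : Chart i N) [Nontrivial C.B] (b : Fin m → LefPen.Form r k d) (j : Fin N) :
    MvPolynomial (Fin m) C.B :=
  VanCyc.quadEval (fun a a' => C.tabPoly b a a')
    fun l => (VanCyc.polarMatrix fun a a' => C.tabPoly b a a').adjugate l j

omit [IsAlgClosed k] [IsClosedImmersion i] in
theorem polar_map {R S : Type u} [CommRing R] [CommRing S] (φ : R →+* S) (a : Fin N → Fin N → R) :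
    φ.mapMatrix (VanCyc.polarMatrix a) = VanCyc.polarMatrix fun i j => φ (a i j) := by
  ext i j
  simp only [RingHom.mapMatrix_apply, Matrix.map_apply, VanCyc.polarMatrix]
  split_ifs <;> simp [map_ofNat]

omit [IsAlgClosed k] [IsClosedImmersion i] in
theorem quadEval_map {R S : Type u} [CommRing R] [CommRing S] (φ : R →+* S) (a : Fin N → Fin N → R) (v : Fin N → R) :
    φ (VanCyc.quadEval a v) = VanCyc.quadEval (fun i j => φ (a i j)) fun i => φ (v i) := by
  simp only [VanCyc.quadEval, map_sum]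
  refine Finset.sum_congr rfl fun i _ => Finset.sum_congr rfl fun j _ => ?_
  split_ifs <;> simp

include hi in
theorem Chart.eval_detPoly (C : Chart i N) [Nontrivial C.B] (b : Fin m → LefPen.Form r k d) (ev : C.B →ₐ[k] k)
    (c : Fin m → k) :
    ev (BadAlg.spec c (C.detPoly b)) = (VanCyc.polarMatrix (C.hess ev (∑ p, c p • b p))).det := by
  rw [show ev (BadAlg.spec c (C.detPoly b)) = ((ev : C.B →+* k).comp (BadAlg.spec c).toRingHom) (C.detPoly b) from rfl,
    Chart.detPoly, RingHom.map_det, polar_map]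
  congr 2
  funext a a'
  exact C.eval_tabPoly hi b ev c a a'

include hi in
theorem Chart.eval_adjPoly (C : Chart i N) [Nontrivial C.B] (b : Fin m → LefPen.Form r k d) (ev : C.B →ₐ[k] k)
    (c : Fin m → k) (j : Fin N) :
    ev (BadAlg.spec c (C.adjPoly b j)) = VanCyc.quadEval (C.hess ev (∑ p, c p • b p))
      fun l => (VanCyc.polarMatrix (C.hess ev (∑ p, c p • b p))).adjugate l j := by
  let φ := (ev : C.B →+* k).comp (BadAlg.spec (B := C.B) c).toRingHom
  show φ (C.adjPoly b j) = _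
  have e : (fun a a' => φ (C.tabPoly b a a')) = C.hess ev (∑ p, c p • b p) :=
    funext fun a => funext fun a' => C.eval_tabPoly hi b ev c a a'
  rw [Chart.adjPoly, quadEval_map, ← e, ← polar_map, ← RingHom.map_adjugate]
  rfl

variable [IrreducibleSpace X]

include hi in
/-- The forms with one ordinary quadratic point are open among those with a singular section. -/
theorem oneOrdQuad_open {n : ℕ} [SmoothOfRelativeDimension (n + 1) (i ≫ CohB1.ProjSpace.toSpec r k)]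
    (H₀ : LefPen.Form r k d) (hH₀ : LefPen.OneOrdQuad k (n + 1) i H₀) :
    ∃ f : LefPen.Form r k d → k, LefPen.IsPolyFun k f ∧ f H₀ ≠ 0 ∧
      ∀ H : LefPen.Form r k d, ¬ LefPen.Transversal k (n + 1) 1 (LefPen.secToSpec i ({H} : Set (LefPen.Form r k d))) →
        f H ≠ 0 → LefPen.OneOrdQuad k (n + 1) i H := by
  classical
  haveI hsm : SmoothOfRelativeDimension (n + 1) (X ↘ Spec (CommRingCat.of k)) := hi ▸ ‹_›
  haveI : IsProper (CohB1.ProjSpace.toSpec r k) := PnCoh.Chow.isProper_toSpec r k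
  haveI : JacobsonSpace X := LocallyOfFiniteType.jacobsonSpace (i ≫ CohB1.ProjSpace.toSpec r k)
  haveI := finite_form (k := k) (r := r) d
  obtain ⟨y₀, hy₀, hord₀⟩ := hH₀
  have hsing₀ : ∀ z, ¬ LefPen.SmoothAt (LefPen.secToSpec i ({H₀} : Set (LefPen.Form r k d))) z ↔ z = y₀ := fun z => by
    rw [iff_comm, ← not_iff_not, not_not]
    exact (Set.ext_iff.1 hy₀ z).symm
  let ι₀ := LefPen.secι i ({H₀} : Set (LefPen.Form r k d))
  let x₀ : X := ι₀ y₀
  have hx₀c : IsClosed ({x₀} : Set X) := by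
    have h := ι₀.isClosedEmbedding.isClosedMap _ hord₀.1
    rwa [Set.image_singleton] at h
  obtain ⟨C, e, T, hx₀, he, hT, hunit, hgen⟩ := exists_pChart hi (n := n + 1) x₀
  haveI := C.isDomain hx₀
  obtain ⟨hpull₀, hle₀⟩ := C.badIdeal_le_of_not_smoothAt hi H₀ y₀ hx₀ ((hsing₀ y₀).2 rfl)
  have hbad₀ : BadAt i H₀ x₀ := (C.badAt_iff_le H₀ hx₀ hx₀c).2 hle₀
  have honly₀ : ∀ x : X, IsClosed ({x} : Set X) → BadAt i H₀ x → x = x₀ := by
    intro x hxc hbad
    obtain ⟨C', hx', -⟩ := exists_chart' i (n := n + 1) x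
    obtain ⟨z, rfl⟩ := C'.exists_secPoint H₀ hx' (Ideal.pow_le_self two_ne_zero ((C'.badAt_iff H₀ hx' hxc).1 hbad))
    have hne' : C'.pull H₀.1 ≠ 0 := fun h0 => hpull₀ (Chart.pull_eq_zero_of C' C H₀ ⟨_, hx'⟩ h0)
    exact congrArg ι₀ ((hsing₀ z).1 (C'.not_smoothAt hi H₀ hne' z hx' hxc hbad))
  let b := Module.finBasis k (LefPen.Form r k d)
  let c₀ : Fin (Module.finrank k (LefPen.Form r k d)) → k := fun l => b.repr H₀ l
  have hc₀ : ∑ p, c₀ p • b p = H₀ := b.sum_repr H₀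
  obtain ⟨g, hg, hgU, hspan, havoid⟩ := exists_finite_nbhd (n := n + 1) hi C T he hT hunit hgen b c₀ x₀ hx₀
    (fun x hx hbad => honly₀ x hx (hc₀ ▸ hbad))
  let ev₀ := C.evAt hx₀ hx₀c
  obtain ⟨σ, h0, h1⟩ := Hess.exists_coords C.ω ev₀
  obtain ⟨a₀, ha₀⟩ := Hess.exists_table C.ω ev₀ h0 h1 (h := C.pull H₀.1)
    (C.ker_evAt hx₀ hx₀c ▸ (C.badAt_iff H₀ hx₀ hx₀c).1 hbad₀)
  have hord : VanCyc.QuadOrd a₀ :=
    (quadOrd_congr fun a a' hab => Hess.tab_eq C.ω ev₀ h0 h1 a₀ ha₀ hab).1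
      ((C.isOrdQuadSing_iff (m := n) hi H₀ y₀ hx₀ hx₀c hbad₀).1 hord₀)
  have huniq : ∀ v : Ideal C.B, v.IsMaximal → Hess.critIdeal C.ω (C.pull H₀.1) ≤ v → RingHom.ker ev₀ ≤ v := by
    intro v hv hle
    obtain ⟨x, hx, hxc, hxv⟩ := exists_closed_of_prime hv
    obtain rfl := honly₀ x hxc ((C.badAt_iff_le H₀ hx hxc).2 (hxv ▸ hle))
    exact le_of_eq ((C.ker_evAt hx₀ hx₀c).trans hxv)
  have hev₀ : ∀ ev : C.B →ₐ[k] k, (∀ j, ev (BadAlg.val (C.jetMat b) c₀ j) = 0) →
      ∀ a, ev a = ev₀ a := by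
    intro ev hev a
    have hle : Hess.critIdeal C.ω (C.pull H₀.1) ≤ RingHom.ker ev := by
      rw [← hc₀, ← C.span_val hi b c₀, Ideal.span_le]
      rintro _ ⟨j, rfl⟩
      exact hev j
    have := huniq _ (Hess.isMaximal_ker ev) hle (Hess.sub_const_mem ev₀ a)
    rwa [RingHom.mem_ker, map_sub, ev.commutes, sub_eq_zero] at this
  have hspan₀ : ∀ (S : Set C.B), (∀ y, y ∈ Submodule.span k S ⊔ (Hess.critIdeal C.ω (C.pull H₀.1)).restrictScalars k) →
      ∀ y, y ∈ Submodule.span k S ⊔ (Ideal.span (Set.range (BadAlg.val (C.jetMat b) c₀))).restrictScalars k := by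
    intro S hS
    rwa [C.span_val hi b c₀, hc₀]
  -- the neighbourhood
  obtain ⟨g₁, hg₁, huniq₁⟩ : ∃ g₁ : MvPolynomial (Fin (Module.finrank k (LefPen.Form r k d))) k,
      MvPolynomial.eval c₀ g₁ ≠ 0 ∧ ∀ c, MvPolynomial.eval c g₁ ≠ 0 → ∀ (x₁ : X) (hx₁ : x₁ ∈ C.U.1)
        (hx₁c : IsClosed ({x₁} : Set X)), BadAt i (∑ p, c p • b p) x₁ →
        VanCyc.QuadOrd (C.hess (C.evAt hx₁ hx₁c) (∑ p, c p • b p)) ∧
          ∀ (x₂ : X) (hx₂ : x₂ ∈ C.U.1), IsClosed ({x₂} : Set X) → BadAt i (∑ p, c p • b p) x₂ → x₂ = x₁ := by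
    have hbadval : ∀ (c : Fin (Module.finrank k (LefPen.Form r k d)) → k) (x : X) (hx : x ∈ C.U.1)
        (hxc : IsClosed ({x} : Set X)), BadAt i (∑ p, c p • b p) x →
        (∀ j, C.evAt hx hxc (BadAlg.val (C.jetMat b) c j) = 0) ∧
          Hess.critIdeal C.ω (C.pull (∑ p, c p • b p : LefPen.Form r k d).1) ≤ RingHom.ker (C.evAt hx hxc) :=
      fun c x hx hxc hbad => by
        refine ⟨(C.bad_iff_point hi b c hx hxc _ (C.ker_evAt hx hxc).symm).1 hbad, ?_⟩
        rw [C.ker_evAt hx hxc]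
        exact (C.badAt_iff_le _ hx hxc).1 hbad
    have hsep : ∀ (x₁ x₂ : X) (hx₁ : x₁ ∈ C.U.1) (hx₁c : IsClosed ({x₁} : Set X)) (hx₂ : x₂ ∈ C.U.1)
        (hx₂c : IsClosed ({x₂} : Set X)), x₂ ≠ x₁ → ∃ a, C.evAt hx₁ hx₁c a = 0 ∧ C.evAt hx₂ hx₂c a = 1 := by
      intro x₁ x₂ hx₁ hx₁c hx₂ hx₂c hne
      obtain ⟨a, ha₁, ha₂⟩ : ∃ a, C.evAt hx₁ hx₁c a = 0 ∧ C.evAt hx₂ hx₂c a ≠ 0 := by
        by_contra! hc
        have hle : RingHom.ker (C.evAt hx₁ hx₁c) ≤ RingHom.ker (C.evAt hx₂ hx₂c) := fun a ha => hc a ha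
        have h2 := (Hess.isMaximal_ker (C.evAt hx₁ hx₁c)).eq_of_le (Hess.isMaximal_ker (C.evAt hx₂ hx₂c)).ne_top hle
        rw [C.ker_evAt, C.ker_evAt] at h2
        have h3 := congrArg C.U.2.fromSpec (PrimeSpectrum.ext h2)
        rw [C.U.2.fromSpec_primeIdealOf, C.U.2.fromSpec_primeIdealOf] at h3
        exact hne h3.symm
      exact ⟨algebraMap k C.B (C.evAt hx₂ hx₂c a)⁻¹ * a, by simp [ha₁], by simp [ha₂]⟩
    by_cases hdet : (VanCyc.polarMatrix a₀).det = 0
    · obtain ⟨v, hv0, hv⟩ := Matrix.exists_mulVec_eq_zero_iff.2 hdet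
      obtain ⟨l, hl⟩ : ∃ l, v l ≠ 0 := by
        by_contra! hc
        exact hv0 (funext hc)
      obtain ⟨j, hj⟩ := QA.exists_adj_col hord hdet
      obtain ⟨g₁, hg₁, hsp⟩ := hspan {1, σ l} (by
        simpa only [Finset.coe_insert, Finset.coe_singleton] using
          hspan₀ _ (Hess.span_of_sing C.ω ev₀ h0 h1 a₀ ha₀ huniq hord hv hl))
      obtain ⟨g₂, hg₂, hav⟩ := havoid (C.adjPoly b j) (fun ev hev => by
        rw [C.eval_adjPoly hi b ev c₀ j, hc₀, show C.hess ev H₀ = C.hess ev₀ H₀ from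
          funext fun a => funext fun a' => hev₀ ev hev _]
        have hcongr : ∀ a a', a ≤ a' → C.hess ev₀ H₀ a a' = a₀ a a' :=
          fun a a' h => Hess.tab_eq C.ω ev₀ h0 h1 a₀ ha₀ h
        rw [PSQuad.polarMatrix_congr hcongr]
        intro hz
        refine hj (Eq.trans ?_ hz)
        refine Finset.sum_congr rfl fun a _ => Finset.sum_congr rfl fun a' _ => ?_
        split_ifs with h
        · rw [hcongr a a' h]
        · rfl)
      refine ⟨g₁ * g₂, by rw [map_mul]; exact mul_ne_zero hg₁ hg₂, fun c hc x₁ hx₁ hx₁c hbad₁ => ?_⟩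
      rw [map_mul] at hc
      obtain ⟨hval₁, hker₁⟩ := hbadval c x₁ hx₁ hx₁c hbad₁
      have hord₁ : VanCyc.QuadOrd (C.hess (C.evAt hx₁ hx₁c) (∑ p, c p • b p)) := by
        refine QA.quadOrd_of_adj _ (QA.det_eq_zero_of_singular hord hdet _) j ?_
        rw [← C.eval_adjPoly hi b _ c j]
        exact hav _ c hval₁ (right_ne_zero_of_mul hc)
      refine ⟨hord₁, fun x₂ hx₂ hx₂c hbad₂ => ?_⟩
      by_contra hne
      obtain ⟨hval₂, hker₂⟩ := hbadval c x₂ hx₂ hx₂c hbad₂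
      let ev := C.evAt hx₁ hx₁c
      obtain ⟨τ, t0, t1⟩ := Hess.exists_coords C.ω ev
      obtain ⟨a₁, ha₁⟩ := Hess.exists_table C.ω ev t0 t1 (h := C.pull (∑ p, c p • b p : LefPen.Form r k d).1)
        (C.ker_evAt hx₁ hx₁c ▸ (C.badAt_iff _ hx₁ hx₁c).1 hbad₁)
      obtain ⟨w, hw0, hw⟩ := Matrix.exists_mulVec_eq_zero_iff.2
        (QA.det_eq_zero_of_singular hord hdet a₁)
      obtain ⟨l', hl'⟩ : ∃ l, w l ≠ 0 := by
        by_contra! hc
        exact hw0 (funext hc)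
      obtain ⟨a, ha₁', ha₂'⟩ := hsep x₁ x₂ hx₁ hx₁c hx₂ hx₂c hne
      let Φ : C.B →ₗ[k] k × k × k :=
        ev.toLinearMap.prod ((C.evAt hx₂ hx₂c).toLinearMap.prod (Hess.dir C.ω ev w))
      have hΦJ : ∀ z ∈ Ideal.span (Set.range (BadAlg.val (C.jetMat b) c)), Φ z = 0 := by
        intro z hz
        rw [C.span_val hi b c] at hz
        exact Prod.ext (hker₁ hz) (Prod.ext (hker₂ hz) (Hess.dir_eq_zero C.ω ev t0 t1 a₁ ha₁ hw hker₁ hz))
      have hcard := Hess.card_bound Φ _ hΦJ _ (hsp c (left_ne_zero_of_mul hc)) (by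
        have ea : Φ (a * a) = (0, 1, 0) := Prod.ext (by simp [Φ, ev, ha₁']) (Prod.ext (by simp [Φ, ha₂'])
          (by simp [Φ, Hess.dir_mul, ev, ha₁']))
        have eτ : ∃ t : k, Φ (τ l') = (0, t, w l') :=
          ⟨C.evAt hx₂ hx₂c (τ l'), Prod.ext (t0 l') (Prod.ext rfl (Hess.dir_coord C.ω ev t1 w l'))⟩
        obtain ⟨t, eτ⟩ := eτ
        have e1 : Φ 1 = (1, 1, 0) := Prod.ext (map_one ev) (Prod.ext (map_one (C.evAt hx₂ hx₂c))
          (by simp [Φ, Hess.dir_apply]))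
        refine LinearMap.range_eq_top.2 fun p => ⟨p.1 • 1 + (p.2.1 - p.1 - p.2.2 / w l' * t) • (a * a) +
          (p.2.2 / w l') • τ l', ?_⟩
        rw [map_add, map_add, map_smul, map_smul, map_smul, e1, ea, eτ]
        refine Prod.ext ?_ (Prod.ext ?_ ?_) <;> simp [div_mul_cancel₀ _ hl']
        ring)
      simp only [Module.finrank_prod, Module.finrank_self] at hcard
      have := hcard.trans (Finset.card_insert_le _ _)
      simp at this
    · obtain ⟨g₁, hg₁, hsp⟩ := hspan {1} (by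
        simpa only [Finset.coe_singleton] using hspan₀ _ (Hess.span_of_det C.ω ev₀ h0 h1 a₀ ha₀ huniq hdet))
      obtain ⟨g₂, hg₂, hav⟩ := havoid (C.detPoly b) (fun ev hev => by
        rw [C.eval_detPoly hi b ev c₀, hc₀, show C.hess ev H₀ = C.hess ev₀ H₀ from
          funext fun a => funext fun a' => hev₀ ev hev _,
          PSQuad.polarMatrix_congr (q := C.hess ev₀ H₀) (q' := a₀)
            (fun a a' h => Hess.tab_eq C.ω ev₀ h0 h1 a₀ ha₀ h)]
        exact hdet)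
      refine ⟨g₁ * g₂, by rw [map_mul]; exact mul_ne_zero hg₁ hg₂, fun c hc x₁ hx₁ hx₁c hbad₁ => ?_⟩
      rw [map_mul] at hc
      obtain ⟨hval₁, hker₁⟩ := hbadval c x₁ hx₁ hx₁c hbad₁
      refine ⟨QA.quadOrd_of_det _ (by rw [← C.eval_detPoly hi b _ c]; exact hav _ c hval₁ (right_ne_zero_of_mul hc)),
        fun x₂ hx₂ hx₂c hbad₂ => ?_⟩
      by_contra hne
      obtain ⟨hval₂, hker₂⟩ := hbadval c x₂ hx₂ hx₂c hbad₂
      obtain ⟨a, ha₁, ha₂⟩ := hsep x₁ x₂ hx₁ hx₁c hx₂ hx₂c hne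
      let Φ : C.B →ₗ[k] k × k := (C.evAt hx₁ hx₁c).toLinearMap.prod (C.evAt hx₂ hx₂c).toLinearMap
      have hΦJ : ∀ z ∈ Ideal.span (Set.range (BadAlg.val (C.jetMat b) c)), Φ z = 0 := by
        intro z hz
        rw [C.span_val hi b c] at hz
        exact Prod.ext (hker₁ hz) (hker₂ hz)
      have hcard := Hess.card_bound Φ _ hΦJ _ (hsp c (left_ne_zero_of_mul hc)) (by
        refine LinearMap.range_eq_top.2 fun p => ⟨p.1 • 1 + (p.2 - p.1) • a, ?_⟩
        refine Prod.ext ?_ ?_ <;> simp [Φ, ha₁, ha₂])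
      simp [Module.finrank_prod] at hcard
  obtain ⟨φ, hφ⟩ : ∃ φ : Module.Dual k C.B, φ (C.pull H₀.1) ≠ 0 := by
    by_contra! hc
    exact hpull₀ ((Module.forall_dual_apply_eq_zero_iff k _).1 hc)
  let g₃ : MvPolynomial (Fin (Module.finrank k (LefPen.Form r k d))) k :=
    ∑ p, MvPolynomial.C (φ (C.pull (b p).1)) * MvPolynomial.X p
  have hg₃ : ∀ c, MvPolynomial.eval c g₃ = φ (C.pull (∑ p, c p • b p : LefPen.Form r k d).1) := fun c => by
    simp only [g₃, map_sum, map_mul, MvPolynomial.eval_C, MvPolynomial.eval_X, Submodule.coe_sum, Submodule.coe_smul,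
      MvPolynomial.smul_eq_C_mul, C.pull_C hi, ← Algebra.smul_def, map_smul, smul_eq_mul]
    exact Finset.sum_congr rfl fun p _ => mul_comm _ _
  refine ⟨fun H => MvPolynomial.eval (fun l => b.repr H l) (g * g₁ * g₃), isPolyFun_eval b _, ?_, fun H hH hf => ?_⟩
  · show MvPolynomial.eval c₀ (g * g₁ * g₃) ≠ 0
    rw [map_mul, map_mul, hg₃, hc₀]
    exact mul_ne_zero (mul_ne_zero hg hg₁) hφ
  let c : Fin (Module.finrank k (LefPen.Form r k d)) → k := fun l => b.repr H l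
  have hc : ∑ p, c p • b p = H := b.sum_repr H
  change MvPolynomial.eval c (g * g₁ * g₃) ≠ 0 at hf
  rw [map_mul, map_mul] at hf
  have hpull : C.pull H.1 ≠ 0 := fun h0 => right_ne_zero_of_mul hf (by rw [hg₃, hc, h0, map_zero])
  rw [transversal_iff hi (by omega) H] at hH
  push Not at hH
  obtain ⟨x, hxc, hbad⟩ := hH
  have hinU : ∀ y : X, IsClosed ({y} : Set X) → BadAt i H y → y ∈ C.U.1 := fun y hyc hy =>
    hgU y c hyc (hc.symm ▸ hy) (left_ne_zero_of_mul (left_ne_zero_of_mul hf))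
  have hxU := hinU x hxc hbad
  obtain ⟨hord', honly⟩ := huniq₁ c (right_ne_zero_of_mul (left_ne_zero_of_mul hf)) x hxU hxc (hc.symm ▸ hbad)
  rw [hc] at hord'
  obtain ⟨z, rfl⟩ := C.exists_secPoint H hxU (Ideal.pow_le_self two_ne_zero ((C.badAt_iff H hxU hxc).1 hbad))
  refine ⟨z, ?_, (C.isOrdQuadSing_iff (m := n) hi H z hxU hxc hbad).2 hord'⟩
  ext z'
  constructor
  · rintro hs rfl
    exact C.not_smoothAt hi H hpull z' hxU hxc hbad hs
  · intro hne
    by_contra hs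
    refine hne ((LefPen.secι i ({H} : Set (LefPen.Form r k d))).isEmbedding.injective
      (eq_of_not_smoothAt (n := n + 1) hi H (fun y hyc hy => honly y (hinU y hyc hy) hyc (hc.symm ▸ hy)) z' hs))

end Groth.Agent.H9LefPen

end
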