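import Groth.Agent.H9LefPen.Transversal
import Groth.Agent.WCI.CISupport
import Mathlib.Topology.JacobsonSpace

/-! The points where a hypersurface section fails to be transversal. -/

set_option autoImplicit false
set_option linter.style.haveILetI false
set_option backward.isDefEq.respectTransparency false
set_option backward.isDefEq.respectTransparency.types false
set_option maxHeartbeats 1000000

universe u

open CategoryTheory CategoryTheory.Limits AlgebraicGeometry TopologicalSpace Opposite
open KaehlerDifferential (D)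
open IsLocalRing (maximalIdeal)
open scoped TensorProduct

noncomputable section

namespace Groth.Agent.H9LefPen

open Groth.Agent

section Ring

variable {k B : Type u} [Field k] [CommRing B] [Algebra k B]

theorem exists_const [IsAlgClosed k] [Algebra.FiniteType k B] (n : Ideal B) [n.IsMaximal] (w : B) :
    ∃ c : k, w - algebraMap k B c ∈ n := by
  letI := Ideal.Quotient.field n
  haveI : Module.Finite k (B ⧸ n) := finite_of_finite_type_of_isJacobsonRing k _
  haveI : Algebra.IsIntegral k (B ⧸ n) := Algebra.IsIntegral.of_finite k _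
  obtain ⟨c, hc⟩ := (IsAlgClosed.algebraMap_bijective_of_isIntegral (k := k) (K := B ⧸ n)).2 (Ideal.Quotient.mk n w)
  exact ⟨c, Ideal.Quotient.eq.1 (by rw [← hc]; rfl)⟩

theorem functional_mem_of_mem_sq (n : Ideal B) {a : B} (ha : a ∈ n ^ 2) (φ : Ω[B⁄k] →ₗ[B] B) :
    φ (D k B a) ∈ n := by
  rw [pow_two] at ha
  refine Submodule.mul_induction_on ha (fun p hp q hq => ?_) fun x z hx hz => ?_
  · rw [Derivation.leibniz, map_add, map_smul, map_smul, smul_eq_mul, smul_eq_mul]
    exact add_mem (Ideal.mul_mem_right _ _ hp) (Ideal.mul_mem_right _ _ hq)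
  · rw [map_add, map_add]; exact add_mem hx hz

/-- A function vanishing with its differential at a rational point vanishes to second order. -/
theorem mem_sq_of_functional_mem [IsAlgClosed k] [Algebra.FiniteType k B] (n : Ideal B) [hn : n.IsMaximal] {ι : Type*} [Fintype ι]
    (b : Module.Basis ι B Ω[B⁄k]) {a : B} (ha : a ∈ n) (h : ∀ l, b.coord l (D k B a) ∈ n) : a ∈ n ^ 2 := by
  classical
  choose c hc using exists_const (k := k) n
  have hcu : ∀ {w : B} {t : k}, w - algebraMap k B t ∈ n → c w = t := fun {w t} ht => by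
    by_contra hne
    have h1 : algebraMap k B (c w - t) ∈ n := by
      rw [map_sub, show algebraMap k B (c w) - algebraMap k B t = (w - algebraMap k B t) - (w - algebraMap k B (c w)) by ring]
      exact sub_mem ht (hc w)
    exact hn.ne_top (Ideal.eq_top_of_isUnit_mem _ h1 ((isUnit_iff_ne_zero.2 (sub_ne_zero.2 hne)).map _))
  have hc_add : ∀ x y, c (x + y) = c x + c y := fun x y => hcu (by
    rw [map_add, show x + y - (algebraMap k B (c x) + algebraMap k B (c y)) =
      (x - algebraMap k B (c x)) + (y - algebraMap k B (c y)) by ring]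
    exact add_mem (hc x) (hc y))
  have hc_smul : ∀ (t : k) x, c (t • x) = t * c x := fun t x => hcu (by
    rw [map_mul, Algebra.smul_def, ← mul_sub]
    exact Ideal.mul_mem_left _ _ (hc x))
  have hc_mul : ∀ x y, c (x * y) = c x * c y := fun x y => hcu (by
    rw [map_mul, show x * y - algebraMap k B (c x) * algebraMap k B (c y) =
      x * (y - algebraMap k B (c y)) + algebraMap k B (c y) * (x - algebraMap k B (c x)) by ring]
    exact add_mem (Ideal.mul_mem_left _ _ (hc y)) (Ideal.mul_mem_left _ _ (hc x)))
  let M := B ⧸ n ^ 2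
  let δ : B →ₗ[k] M :=
    { toFun := fun w => Ideal.Quotient.mk (n ^ 2) (w - algebraMap k B (c w))
      map_add' := fun x y => by rw [← map_add, hc_add, map_add]; congr 1; ring
      map_smul' := fun t x => by
        rw [RingHom.id_apply, hc_smul, map_mul, Algebra.smul_def, ← mul_sub, map_mul, Algebra.smul_def]
        rfl }
  let der : Derivation k B M := Derivation.mk' δ fun x y => by
    show Ideal.Quotient.mk (n ^ 2) (x * y - algebraMap k B (c (x * y))) =
      x • Ideal.Quotient.mk (n ^ 2) (y - algebraMap k B (c y)) + y • Ideal.Quotient.mk (n ^ 2) (x - algebraMap k B (c x))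
    rw [hc_mul, Algebra.smul_def, Algebra.smul_def, show algebraMap B M = Ideal.Quotient.mk (n ^ 2) from rfl,
      ← map_mul (Ideal.Quotient.mk (n ^ 2)), ← map_mul (Ideal.Quotient.mk (n ^ 2)), ← map_add (Ideal.Quotient.mk (n ^ 2)),
      Ideal.Quotient.eq, map_mul]
    have : x * y - algebraMap k B (c x) * algebraMap k B (c y) -
        (x * (y - algebraMap k B (c y)) + y * (x - algebraMap k B (c x))) =
        -((x - algebraMap k B (c x)) * (y - algebraMap k B (c y))) := by ring
    rw [this, pow_two]
    exact neg_mem (Ideal.mul_mem_mul (hc x) (hc y))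
  let L := der.liftKaehlerDifferential
  have hL : ∀ ω : Ω[B⁄k], L ω ∈ n.map (Ideal.Quotient.mk (n ^ 2)) := fun ω => by
    have hω : ω ∈ Submodule.span B (Set.range (D k B)) := by
      rw [KaehlerDifferential.span_range_derivation]; trivial
    induction hω using Submodule.span_induction with
    | mem _ hy =>
      obtain ⟨w, rfl⟩ := hy
      rw [show L (D k B w) = der w from der.liftKaehlerDifferential_comp_D w]
      exact Ideal.mem_map_of_mem _ (hc w)
    | zero => rw [map_zero]; exact zero_mem _
    | add x y _ _ hx hy => rw [map_add]; exact add_mem hx hy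
    | smul t x _ hx => rw [map_smul, Algebra.smul_def]; exact Ideal.mul_mem_left _ _ hx
  have h0 : L (D k B a) = 0 := by
    rw [← b.sum_repr (D k B a), map_sum]
    refine Finset.sum_eq_zero fun l _ => ?_
    rw [map_smul]
    obtain ⟨w, hw, hwl⟩ := (Ideal.mem_map_iff_of_surjective _ Ideal.Quotient.mk_surjective).1 (hL (b l))
    rw [← hwl, Algebra.smul_def]
    show Ideal.Quotient.mk (n ^ 2) _ * Ideal.Quotient.mk (n ^ 2) w = 0
    rw [← map_mul, Ideal.Quotient.eq_zero_iff_mem, pow_two]
    exact Ideal.mul_mem_mul (h l) hw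
  rw [show L (D k B a) = der a from der.liftKaehlerDifferential_comp_D a] at h0
  have ha0 : c a = 0 := hcu (by rwa [map_zero, sub_zero])
  have h1 : Ideal.Quotient.mk (n ^ 2) (a - algebraMap k B (c a)) = 0 := h0
  rwa [ha0, map_zero, sub_zero, Ideal.Quotient.eq_zero_iff_mem] at h1

/-- A quotient by a function vanishing to second order is not smooth of one dimension less. -/
theorem not_locally_quotient [IsAlgClosed k] (m : ℕ) (hm : 1 ≤ m) [Algebra.IsStandardSmoothOfRelativeDimension m k B]
    (n : Ideal B) [hn : n.IsMaximal] {h : B} (hh : h ∈ n ^ 2) :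
    ¬ RingHom.Locally (RingHom.IsStandardSmoothOfRelativeDimension (m - 1))
      ((Ideal.Quotient.mk (Ideal.span {h})).comp (algebraMap k B)) := by
  classical
  rw [RingHom.locally_iff_span_eq_top]
  intro htop
  haveI : Algebra.IsStandardSmooth k B := Algebra.IsStandardSmoothOfRelativeDimension.isStandardSmooth m
  haveI : Algebra.FiniteType k B := inferInstance
  haveI : Nontrivial B := by
    by_contra hB
    rw [not_nontrivial_iff_subsingleton] at hB
    exact hn.ne_top (Ideal.eq_top_iff_one _ |>.2 (Subsingleton.elim (0 : B) 1 ▸ n.zero_mem))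
  let C := B ⧸ Ideal.span {h}
  let K := B ⧸ n
  letI : Field K := Ideal.Quotient.field n
  have hle : Ideal.span {h} ≤ n := (Ideal.span_singleton_le_iff_mem _).2 (Ideal.pow_le_self two_ne_zero hh)
  let ev : C →+* K := Ideal.Quotient.factor hle
  obtain ⟨t, htmem, ht⟩ : ∃ t ∈ {g : C | RingHom.IsStandardSmoothOfRelativeDimension (m - 1)
      ((algebraMap C (Localization.Away g)).comp ((Ideal.Quotient.mk (Ideal.span {h})).comp (algebraMap k B)))},
      ev t ≠ 0 := by
    by_contra! hc
    have : Ideal.span _ ≤ RingHom.ker ev := Ideal.span_le.2 fun g hg => hc g hg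
    rw [htop] at this
    exact one_ne_zero ((map_one ev).symm.trans (this (Submodule.mem_top (x := (1 : C)))))
  let G := Localization.Away t
  haveI : Algebra.IsStandardSmoothOfRelativeDimension (m - 1) k G := by
    rw [← RingHom.isStandardSmoothOfRelativeDimension_algebraMap, IsScalarTower.algebraMap_eq k C G,
      IsScalarTower.algebraMap_eq k B C]
    exact htmem
  haveI : Algebra.IsStandardSmooth k G := Algebra.IsStandardSmoothOfRelativeDimension.isStandardSmooth (m - 1)
  letI : Algebra C K := ev.toAlgebra
  haveI : IsScalarTower B C K := IsScalarTower.of_algebraMap_eq fun b => rfl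
  haveI : IsScalarTower k C K := IsScalarTower.of_algebraMap_eq fun b => rfl
  let evG : G →ₐ[C] K :=
    IsLocalization.liftAlgHom (M := Submonoid.powers t) (f := Algebra.ofId C K) (by
      rintro ⟨_, i, rfl⟩
      exact (isUnit_iff_ne_zero.2 ht).pow i |> fun hu => by
        rw [show (Algebra.ofId C K) (t ^ i) = ev t ^ i from map_pow ev t i]; exact hu)
  letI : Algebra G K := evG.toRingHom.toAlgebra
  haveI : IsScalarTower C G K := IsScalarTower.of_algebraMap_eq fun b => (evG.commutes b).symm
  haveI : IsScalarTower B G K := IsScalarTower.of_algebraMap_eq fun b => by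
    rw [IsScalarTower.algebraMap_apply B C K, IsScalarTower.algebraMap_apply B C G,
      IsScalarTower.algebraMap_apply C G K]
  haveI : Nontrivial G := (algebraMap G K).domain_nontrivial
  let bB : Module.Basis (Fin m) B Ω[B⁄k] := Module.finBasisOfFinrankEq B _ (BertiniAff.finrank_kaehler m)
  let bG : Module.Basis (Fin (m - 1)) G Ω[G⁄k] := Module.finBasisOfFinrankEq G _ (BertiniAff.finrank_kaehler (m - 1))
  haveI : Algebra.FormallyEtale C G := Algebra.FormallyEtale.of_isLocalization (Submonoid.powers t)
  let eG : G ⊗[C] Ω[C⁄k] ≃ₗ[G] Ω[G⁄k] := KaehlerDifferential.tensorKaehlerEquivOfFormallyEtale k C G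
  let v : Fin m → Fin (m - 1) → K := fun l j => 0
  -- the functionals
  have key : ∀ l : Fin m, ∃ ψ : Ω[G⁄k] →ₗ[G] K, ∀ b : B,
      ψ (D k G (algebraMap B G b)) = algebraMap B K (bB.coord l (D k B b)) := by
    intro l
    let δ : Derivation k B K :=
      ((Algebra.linearMap B K).comp (bB.coord l)).compDer (D k B)
    have hker : ∀ z : C, ∀ b b' : B, Ideal.Quotient.mk _ b = z → Ideal.Quotient.mk _ b' = z → δ b = δ b' := by
      intro z b b' hb hb'
      obtain ⟨s, hs⟩ := Ideal.mem_span_singleton'.1 (Ideal.Quotient.eq.1 (hb.trans hb'.symm))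
      have h1 : δ (b - b') = 0 := by
        rw [← hs]
        show algebraMap B K (bB.coord l (D k B (s * h))) = 0
        refine Ideal.Quotient.eq_zero_iff_mem.2 (functional_mem_of_mem_sq n ?_ _)
        exact Ideal.mul_mem_left _ _ hh
      rwa [map_sub, sub_eq_zero] at h1
    let δC : Derivation k C K := Derivation.mk'
      { toFun := fun z => δ (Function.surjInv Ideal.Quotient.mk_surjective z)
        map_add' := fun z w => by
          rw [← map_add δ]
          exact hker (z + w) _ _ (Function.surjInv_eq Ideal.Quotient.mk_surjective _)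
            (by rw [map_add, Function.surjInv_eq Ideal.Quotient.mk_surjective, Function.surjInv_eq Ideal.Quotient.mk_surjective])
        map_smul' := fun a z => by
          rw [RingHom.id_apply, ← Derivation.map_smul δ]
          exact hker (a • z) _ _ (Function.surjInv_eq Ideal.Quotient.mk_surjective _)
            (by rw [Algebra.smul_def, map_mul, Function.surjInv_eq Ideal.Quotient.mk_surjective, Algebra.smul_def]; rfl) }
      (fun z w => by
        let sz := Function.surjInv Ideal.Quotient.mk_surjective z
        let sw := Function.surjInv Ideal.Quotient.mk_surjective w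
        have hz : Ideal.Quotient.mk (Ideal.span {h}) sz = z := Function.surjInv_eq Ideal.Quotient.mk_surjective z
        have hw : Ideal.Quotient.mk (Ideal.span {h}) sw = w := Function.surjInv_eq Ideal.Quotient.mk_surjective w
        show δ (Function.surjInv Ideal.Quotient.mk_surjective (z * w)) = z • δ sw + w • δ sz
        rw [hker (z * w) _ (sz * sw) (Function.surjInv_eq Ideal.Quotient.mk_surjective _) (by rw [map_mul, hz, hw]),
          Derivation.leibniz, ← hz, ← hw]
        simp only [Algebra.smul_def]
        rfl)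
    let ψ : Ω[G⁄k] →ₗ[G] K := (δC.liftKaehlerDifferential.liftBaseChange G).comp eG.symm.toLinearMap
    refine ⟨ψ, fun b => ?_⟩
    have e1 : eG.symm (D k G (algebraMap B G b)) = 1 ⊗ₜ[C] D k C (Ideal.Quotient.mk _ b) := by
      rw [LinearEquiv.symm_apply_eq, IsScalarTower.algebraMap_apply B C G]
      simp [eG]
      rfl
    show δC.liftKaehlerDifferential.liftBaseChange G (eG.symm (D k G (algebraMap B G b))) = _
    rw [e1, LinearMap.liftBaseChange_tmul, one_smul, Derivation.liftKaehlerDifferential_comp_D]
    show δ (Function.surjInv Ideal.Quotient.mk_surjective (Ideal.Quotient.mk _ b)) = _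
    rw [hker _ _ b (Function.surjInv_eq Ideal.Quotient.mk_surjective _) rfl]
    rfl
  choose ψ hψ using key
  let w : Fin m → (Fin (m - 1) → K) := fun l j => ψ l (bG j)
  have hli : LinearIndependent K w := by
    refine Fintype.linearIndependent_iff.2 fun g hg l₀ => ?_
    have hzero : ∀ ω : Ω[G⁄k], ∑ l, g l * ψ l ω = 0 := fun ω => by
      rw [← bG.sum_repr ω]
      simp only [map_sum, map_smul, Finset.mul_sum]
      rw [Finset.sum_comm]
      refine Finset.sum_eq_zero fun j _ => ?_
      have hj := congrFun hg j
      simp only [w, Finset.sum_apply, Pi.smul_apply, smul_eq_mul, Pi.zero_apply] at hj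
      simp only [Algebra.smul_def]
      rw [show ∑ l, g l * (algebraMap G K (bG.repr ω j) * ψ l (bG j)) =
        algebraMap G K (bG.repr ω j) * ∑ l, g l * ψ l (bG j) by
          rw [Finset.mul_sum]; exact Finset.sum_congr rfl fun l _ => by ring, hj, mul_zero]
    let Φ : Ω[B⁄k] →ₗ[B] K := ∑ l, g l • (Algebra.linearMap B K).comp (bB.coord l)
    have hΦ : Φ = 0 := Derivation.liftKaehlerDifferential_unique _ _ (Derivation.ext fun b => by
      show Φ (D k B b) = 0
      simp only [Φ, LinearMap.sum_apply, LinearMap.smul_apply, smul_eq_mul]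
      rw [← hzero (D k G (algebraMap B G b))]
      exact Finset.sum_congr rfl fun l _ => by rw [hψ]; rfl)
    have h1 := LinearMap.congr_fun hΦ (bB l₀)
    simp only [Φ, LinearMap.sum_apply, LinearMap.smul_apply, smul_eq_mul, LinearMap.comp_apply,
      Module.Basis.coord_apply, Module.Basis.repr_self, Algebra.linearMap_apply, LinearMap.zero_apply] at h1
    rw [Finset.sum_eq_single l₀ (fun l _ hl => by rw [Finsupp.single_eq_of_ne (by first | exact hl | exact hl.symm), map_zero, mul_zero])
      (fun hh => absurd (Finset.mem_univ _) hh), Finsupp.single_eq_same, map_one, mul_one] at h1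
    exact h1
  have := hli.fintype_card_le_finrank
  rw [Fintype.card_fin, Module.finrank_fin_fun] at this
  omega

end Ring

variable {k : Type u} [Field k] {r d : ℕ} {X : Scheme.{u}} (i : X ⟶ CohB1.ProjSpace r k)

/-- The section by `H` is singular (or too big) at `x`: its equation vanishes to second order. -/
def BadAt (H : LefPen.Form r k d) (x : X) : Prop :=
  ∀ (U : X.affineOpens) (hx : x ∈ U.1), ∀ a ∈ (LefPen.secIdeal i ({H} : Set (LefPen.Form r k d))).ideal U,
    (X.presheaf.germ U.1 x hx).hom a ∈ maximalIdeal (X.presheaf.stalk x) ^ 2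

theorem germ_mem_sq_iff {U : X.Opens} (hU : IsAffineOpen U) {x : X} (hx : x ∈ U)
    (hmax : (hU.primeIdealOf ⟨x, hx⟩).asIdeal.IsMaximal) (a : Γ(X, U)) :
    (X.presheaf.germ U x hx).hom a ∈ maximalIdeal (X.presheaf.stalk x) ^ 2 ↔
      a ∈ (hU.primeIdealOf ⟨x, hx⟩).asIdeal ^ 2 := by
  letI : Algebra Γ(X, U) (X.presheaf.stalk x) := (X.presheaf.germ U x hx).hom.toAlgebra
  haveI : IsLocalization.AtPrime (X.presheaf.stalk x) (hU.primeIdealOf ⟨x, hx⟩).asIdeal :=
    hU.isLocalization_stalk ⟨x, hx⟩
  haveI := hmax
  rw [← IsLocalization.AtPrime.under_maximalIdeal_pow (hU.primeIdealOf ⟨x, hx⟩).asIdeal (X.presheaf.stalk x)]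
  exact Iff.rfl

/-- It suffices to test on the equation in one chart. -/
theorem badAt_iff {H : LefPen.Form r k d} {x : X} {U : X.affineOpens} (hx : x ∈ U.1) (a : Γ(X, U.1))
    (ha : (LefPen.secIdeal i ({H} : Set (LefPen.Form r k d))).ideal U = Ideal.span {a}) :
    BadAt i H x ↔ (X.presheaf.germ U.1 x hx).hom a ∈ maximalIdeal (X.presheaf.stalk x) ^ 2 := by
  refine ⟨fun h => h U hx a (ha ▸ Ideal.mem_span_singleton_self a), fun h V hxV b hb => ?_⟩
  obtain ⟨f, g, hfg, hxf⟩ := exists_basicOpen_le_affine_inter U.2 V.2 x ⟨hx, hxV⟩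
  let W : X.affineOpens := X.affineBasicOpen (U := U) f
  have hWV : W.1 ≤ V.1 := (le_of_eq (show W.1 = X.basicOpen g from hfg)).trans (X.basicOpen_le g)
  let I := LefPen.secIdeal i ({H} : Set (LefPen.Form r k d))
  have hb' : X.presheaf.map (homOfLE hWV).op b ∈ Ideal.span {X.presheaf.map (homOfLE (X.basicOpen_le f)).op a} := by
    have h1 : (I.ideal U).map (X.presheaf.map (homOfLE (X.basicOpen_le f)).op).hom = I.ideal W :=
      I.map_ideal_basicOpen U f
    rw [ha, Ideal.map_span, Set.image_singleton] at h1
    rw [h1, ← I.map_ideal (U := W) (V := V) hWV]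
    exact Ideal.mem_map_of_mem _ hb
  obtain ⟨c, hc⟩ := Ideal.mem_span_singleton'.1 hb'
  have hxW : x ∈ W.1 := hxf
  rw [← X.presheaf.germ_res_apply (homOfLE hWV) x hxW b, ← hc, map_mul]
  refine Ideal.mul_mem_left _ _ ?_
  exact (X.presheaf.germ_res_apply (homOfLE (X.basicOpen_le f)) x hxW a).symm ▸ h

end Groth.Agent.H9LefPen

end
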