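import Groth.Agent.H9LefPen.OneExists

/-! Existence of a section with a single ordinary quadratic point. -/

set_option autoImplicit false
set_option linter.style.haveILetI false
set_option backward.isDefEq.respectTransparency false
set_option backward.isDefEq.respectTransparency.types false
set_option maxHeartbeats 1000000

universe u

open CategoryTheory CategoryTheory.Limits AlgebraicGeometry TopologicalSpace Opposite Matrix
open KaehlerDifferential (D)

noncomputable section

namespace Groth.Agent.H9LefPen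

open Groth.Agent

/-- The chain rule for polynomials. -/
theorem derivation_aeval {k B M : Type u} [CommRing k] [CommRing B] [Algebra k B] [AddCommGroup M] [Module B M]
    [Module k M] {σ : Type*} [Fintype σ] (δ : Derivation k B M) (s : σ → B) (p : MvPolynomial σ k) :
    δ (MvPolynomial.aeval s p) = ∑ l, MvPolynomial.aeval s (MvPolynomial.pderiv l p) • δ (s l) := by
  classical
  induction p using MvPolynomial.induction_on with
  | C c => simp
  | add p q hp hq => simp [hp, hq, add_smul, Finset.sum_add_distrib]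
  | mul_X p l hp =>
    rw [map_mul, MvPolynomial.aeval_X, Derivation.leibniz, hp]
    simp only [MvPolynomial.pderiv_mul, MvPolynomial.pderiv_X, map_add, map_mul, MvPolynomial.aeval_X, add_smul,
      Finset.sum_add_distrib, Finset.smul_sum, smul_smul]
    rw [add_comm]
    congr 1
    · exact Finset.sum_congr rfl fun x _ => by rw [mul_comm]
    · rw [Finset.sum_eq_single l (fun x _ hx => by simp [Pi.single_eq_of_ne' hx]) (fun h => absurd (Finset.mem_univ _) h),
        Pi.single_eq_same, map_one, mul_one]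

/-- An ordinary quadratic table in each number of variables. -/
theorem exists_quadOrd (k : Type u) [Field k] [IsAlgClosed k] (m : ℕ) :
    ∃ c : Fin (m + 1) → Fin (m + 1) → k, VanCyc.QuadOrd c := by
  let Q : MvPowerSeries (Fin (m + 1)) k := (splitQuad k m : MvPolynomial (Fin (m + 1)) k)
  have h : LefPen.IsQuadPart k Q ⟨splitQuad k m, splitQuad_mem k m⟩ := fun e _ => (MvPolynomial.coeff_coe ..).symm
  refine ⟨VanCyc.quadPart Q, (nondegQuad_iff _).1 ?_⟩
  rw [← isQuadPart_quadPart h]
  exact ⟨splitQuad_ne_zero k m, Or.inr (smooth_splitQuad k m)⟩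

variable {k : Type u} [Field k] [IsAlgClosed k] {r d m : ℕ} {X : Scheme.{u}} {i : X ⟶ CohB1.ProjSpace r k}
  [IsClosedImmersion i] [X.Over (Spec (CommRingCat.of k))]
  (hi : X ↘ Spec (CommRingCat.of k) = i ≫ CohB1.ProjSpace.toSpec r k)

omit [IsClosedImmersion i] in
include hi in
theorem Chart.pull_aeval {q : ℕ} (C : Chart i q) {σ : Type*} (L : σ → MvPolynomial (Fin (r + 1)) k)
    (P : MvPolynomial σ k) : C.pull (MvPolynomial.aeval L P) = MvPolynomial.aeval (fun l => C.pull (L l)) P := by
  induction P using MvPolynomial.induction_on with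
  | C c => simp [C.pull_C hi, MvPolynomial.algebraMap_eq]
  | add p q hp hq => rw [map_add, map_add, map_add, hp, hq]
  | mul_X p l hp => rw [map_mul, map_mul, map_mul, hp, MvPolynomial.aeval_X, MvPolynomial.aeval_X]

variable [IrreducibleSpace X]

include hi in
/-- A chosen form with an ordinary point at a given closed point. -/
theorem exists_quad_form [SmoothOfRelativeDimension (m + 1) (X ↘ Spec (CommRingCat.of k))] (hd : 2 ≤ d)
    (C : Chart i (m + 1)) [Nontrivial C.B] (t : Γ(X, i ⁻¹ᵁ LefPen.chart r k C.j)) (ht : X.basicOpen t = C.U.1)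
    (ev : C.B →ₐ[k] k) :
    ∃ (c : Fin (m + 1) → Fin (m + 1) → k) (L : Fin (m + 1) → LefPen.Form r k 1) (H : LefPen.Form r k d),
      VanCyc.QuadOrd c ∧ (∀ l, C.jetAt hi ev (L l) = fun j => Option.elim j 0 (fun l' => if l' = l then 1 else 0)) ∧
      H.1 = MvPolynomial.aeval (fun l => (L l).1) (VanCyc.quadPoly c) * MvPolynomial.X C.j ^ (d - 2) ∧
      C.jetAt hi ev H = 0 ∧ ∀ a b, a ≤ b → C.hess ev H a b = c a b := by
  classical
  obtain ⟨c, hc⟩ := exists_quadOrd k m
  choose L hL using fun l : Fin (m + 1) => C.jetAt_surjective (d := 1) hi le_rfl t ht ev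
    (fun j => Option.elim j 0 (fun l' => if l' = l then 1 else 0))
  let P : MvPolynomial (Fin (r + 1)) k :=
    MvPolynomial.aeval (fun l => (L l).1) (VanCyc.quadPoly c) * MvPolynomial.X C.j ^ (d - 2)
  have hP : P ∈ CohB1.polyGrading r k d := (MvPolynomial.mem_homogeneousSubmodule _ _).2 (by
    have h := (((MvPolynomial.mem_homogeneousSubmodule _ _).1 (quadPoly_mem c)).aeval (fun l => (L l).1)
      (n := 1) fun l => (MvPolynomial.mem_homogeneousSubmodule _ _).1 (L l).2).mul
      ((MvPolynomial.isHomogeneous_X k C.j).pow (d - 2))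
    rwa [show 1 * 2 + 1 * (d - 2) = d by omega] at h)
  let s : Fin (m + 1) → C.B := fun l => C.pull (L l).1
  have h0 : ∀ l, ev (s l) = 0 := fun l => congrFun (hL l) none
  have h1 : ∀ j l, ev (C.ω.coord j (D k C.B (s l))) = if j = l then 1 else 0 := fun j l => congrFun (hL l) (some j)
  let H : LefPen.Form r k d := ⟨P, hP⟩
  have hpull : C.pull H.1 = MvPolynomial.aeval s (VanCyc.quadPoly c) := by
    show C.pull (_ * _) = _
    rw [map_mul, map_pow, C.pull_X_self, one_pow, mul_one, C.pull_aeval hi]
  have hc3 : C.pull H.1 - MvPolynomial.aeval s (VanCyc.quadPoly c) ∈ RingHom.ker ev ^ 3 := by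
    rw [hpull, sub_self]; exact zero_mem _
  have hsq : C.pull H.1 ∈ RingHom.ker ev ^ 2 := by
    rw [hpull]
    simp only [VanCyc.quadPoly, map_sum]
    refine sum_mem fun a _ => sum_mem fun b _ => ?_
    split_ifs
    · rw [map_mul, map_mul, MvPolynomial.aeval_C, MvPolynomial.aeval_X, MvPolynomial.aeval_X, mul_assoc, pow_two]
      exact Ideal.mul_mem_left _ _ (Ideal.mul_mem_mul (h0 a) (h0 b))
    · simp
  refine ⟨c, L, H, hc, hL, rfl, funext fun j => ?_, fun a b hab => Hess.tab_eq C.ω ev h0 h1 c hc3 hab⟩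
  rcases j with _ | l
  · exact Ideal.pow_le_self two_ne_zero hsq
  · exact functional_mem_of_mem_sq _ hsq (C.ω.coord l)

include hi in
/-- On a quadric-like section all of whose singular points are controlled by the linear coordinates. -/
theorem eq_of_bad_quad [SmoothOfRelativeDimension (m + 1) (X ↘ Spec (CommRingCat.of k))]
    (C₀ : Chart i (m + 1)) [Nontrivial C₀.B] {x₀ : X} (hx₀ : x₀ ∈ C₀.U.1) (hx₀c : IsClosed ({x₀} : Set X))
    {c : Fin (m + 1) → Fin (m + 1) → k} (hc : VanCyc.QuadOrd c) (L : Fin (m + 1) → LefPen.Form r k 1)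
    (hL : ∀ l, C₀.jetAt hi (C₀.evAt hx₀ hx₀c) (L l) =
      fun j => Option.elim j 0 (fun l' => if l' = l then 1 else 0))
    (hK : ∀ N : LefPen.Form r k 1, C₀.jetAt hi (C₀.evAt hx₀ hx₀c) N = 0 → C₀.pull N.1 = 0)
    (H : LefPen.Form r k d) (hH : H.1 = MvPolynomial.aeval (fun l => (L l).1) (VanCyc.quadPoly c))
    {y : X} (hyc : IsClosed ({y} : Set X)) (hbad : BadAt i H y) : y = x₀ := by
  classical
  by_contra hne
  obtain ⟨C, hy, t, ht⟩ := exists_chart' i (n := m + 1) y
  haveI := C.isDomain hy
  let ev := C.evAt hy hyc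
  let ev₀ := C₀.evAt hx₀ hx₀c
  let T₀ : LefPen.Form r k 1 := ⟨MvPolynomial.X C₀.j, LefPen.X_mem r k C₀.j⟩
  have hT₀ : C₀.jetAt hi ev₀ T₀ = fun j => Option.elim j 1 (fun _ => 0) := by
    funext j
    rcases j with _ | l
    · show ev₀ (C₀.pull _) = 1
      rw [C₀.pull_X_self, map_one]
    · show ev₀ (C₀.ω.coord l (D k C₀.B (C₀.pull _))) = 0
      rw [C₀.pull_X_self, Derivation.map_one_eq_zero, map_zero, map_zero]
  let basisV : Option (Fin (m + 1)) → Option (Fin (m + 1)) → k :=
    fun o => Option.elim o (C.jetAt hi ev T₀) fun l => C.jetAt hi ev (L l)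
  -- every linear form is a combination of these modulo forms vanishing on the scheme
  have hdec : ∀ M : LefPen.Form r k 1, C.jetAt hi ev M = C₀.jetAt hi ev₀ M none • C.jetAt hi ev T₀ +
      ∑ l, C₀.jetAt hi ev₀ M (some l) • C.jetAt hi ev (L l) := by
    intro M
    let N : LefPen.Form r k 1 := M - (C₀.jetAt hi ev₀ M none • T₀ + ∑ l, C₀.jetAt hi ev₀ M (some l) • L l)
    have hL' : ∀ l, C₀.jetAt hi ev₀ (L l) = fun j => Option.elim j 0 (fun l' => if l' = l then 1 else 0) := hL
    have hN : C₀.jetAt hi ev₀ N = 0 := by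
      simp only [N, map_sub, map_add, map_sum, map_smul, hT₀, hL']
      funext j
      simp only [Pi.sub_apply, Pi.add_apply, Finset.sum_apply, Pi.smul_apply, smul_eq_mul, Pi.zero_apply]
      rcases j with _ | l <;> simp
    have hNC : C.pull N.1 = 0 := Chart.pull_eq_zero_of C₀ C N ⟨x₀, hx₀⟩ (hK N hN)
    have h2 : C.jetAt hi ev N = 0 := by
      show C.jetVec ev (C.pull N.1) = 0
      rw [hNC]
      funext j
      rcases j with _ | l <;> simp [Chart.jetVec]
    simp only [N, map_sub, map_add, map_sum, map_smul, sub_eq_zero] at h2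
    exact h2
  have hspan : (⊤ : Submodule k (Option (Fin (m + 1)) → k)) ≤ Submodule.span k (Set.range basisV) := by
    intro v _
    obtain ⟨M, rfl⟩ := C.jetAt_surjective (d := 1) hi le_rfl t ht ev v
    rw [hdec M]
    refine add_mem (Submodule.smul_mem _ _ (Submodule.subset_span ⟨none, rfl⟩))
      (sum_mem fun l _ => Submodule.smul_mem _ _ (Submodule.subset_span ⟨some l, rfl⟩))
  have hli : LinearIndependent k basisV :=
    linearIndependent_of_top_le_span_of_card_eq_finrank hspan (by simp)
  -- the jet of the form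
  have hjet := (C.badAt_iff_jetAt hi H hy hyc ev (C.ker_evAt hy hyc)).1 hbad
  let s : Fin (m + 1) → C.B := fun l => C.pull (L l).1
  let v : Fin (m + 1) → k := fun l => ev (s l)
  have hpull : C.pull H.1 = MvPolynomial.aeval s (VanCyc.quadPoly c) := by rw [hH, C.pull_aeval hi]
  have hevp : ∀ p : MvPolynomial (Fin (m + 1)) k, ev (MvPolynomial.aeval s p) = MvPolynomial.eval v p := fun p => by
    rw [← MvPolynomial.aeval_eq_eval, ← AlgHom.comp_apply]
    exact congrArg (fun f : MvPolynomial (Fin (m + 1)) k →ₐ[k] k => f p) (MvPolynomial.comp_aeval s ev)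
  have hQ : VanCyc.quadEval c v = 0 := by
    have h : ev (C.pull H.1) = 0 := congrFun hjet none
    rwa [hpull, hevp, eval_quadPoly] at h
  have hvPv : v ⬝ᵥ VanCyc.polarMatrix c *ᵥ v = 0 := by
    have h := QA.quadEval_add c v v
    rw [← two_smul k v, QA.quadEval_smul, hQ, mul_zero, zero_add, zero_add] at h
    exact h.symm
  have hrel : ∑ o : Option (Fin (m + 1)), (Option.elim o 0 (fun l => (VanCyc.polarMatrix c *ᵥ v) l)) • basisV o = 0 := by
    rw [Fintype.sum_option]
    simp only [Option.elim_none, zero_smul, zero_add, Option.elim_some, basisV]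
    funext j
    rw [Finset.sum_apply]
    rcases j with _ | q
    · show ∑ l, (VanCyc.polarMatrix c *ᵥ v) l * v l = 0
      rw [← hvPv]
      exact Finset.sum_congr rfl fun l _ => mul_comm _ _
    · have h : ev (C.ω.coord q (D k C.B (C.pull H.1))) = 0 := congrFun hjet (some q)
      rw [hpull, derivation_aeval, map_sum, map_sum] at h
      show ∑ l, (VanCyc.polarMatrix c *ᵥ v) l * ev (C.ω.coord q (D k C.B (s l))) = 0
      rw [← h]
      refine Finset.sum_congr rfl fun l _ => ?_
      rw [map_smul, smul_eq_mul, map_mul, hevp, eval_pderiv_quadPoly]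
  have hv : v = 0 := hc v hQ (funext fun l => Fintype.linearIndependent_iff.1 hli _ hrel (some l))
  obtain ⟨M, hMx, hMy⟩ := exists_linear_sep hi (n := m + 1) hx₀c hne
  refine hMy ((C.pull_mem_iff M hy).1 ?_)
  rw [← C.ker_evAt hy hyc, RingHom.mem_ker]
  have hM0 : C₀.jetAt hi ev₀ M none = 0 := by
    show ev₀ (C₀.pull M.1) = 0
    rw [← RingHom.mem_ker, C₀.ker_evAt hx₀ hx₀c]
    exact (C₀.pull_mem_iff M hx₀).2 hMx
  have h := congrFun (hdec M) none
  rw [hM0, zero_smul, zero_add, Finset.sum_apply] at h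
  refine h.trans (Finset.sum_eq_zero fun l _ => ?_)
  rw [Pi.smul_apply, show C.jetAt hi ev (L l) none = v l from rfl, hv, Pi.zero_apply, smul_zero]

include hi in
/-- The singular forms with one ordinary quadratic point. -/
theorem oneOrdQuad_of [SmoothOfRelativeDimension (m + 1) (X ↘ Spec (CommRingCat.of k))]
    (C : Chart i (m + 1)) [Nontrivial C.B] {x : X} (hx : x ∈ C.U.1) (hxc : IsClosed ({x} : Set X))
    (H : LefPen.Form r k d) (hbad : BadAt i H x) (hord : VanCyc.QuadOrd (C.hess (C.evAt hx hxc) H))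
    (honly : ∀ y : X, IsClosed ({y} : Set X) → BadAt i H y → y = x) : LefPen.OneOrdQuad k (m + 1) i H := by
  have hpull : C.pull H.1 ≠ 0 := fun h0 => by
    have hv : (fun _ : Fin (m + 1) => (1 : k)) = 0 := by
      have hz : ∀ a b, C.hess (C.evAt hx hxc) H a b = 0 := fun a b => by
        rw [Chart.hess, h0, map_zero, map_zero]
      refine hord _ (Finset.sum_eq_zero fun a _ => Finset.sum_eq_zero fun b _ => by simp [hz]) (funext fun a => ?_)
      simp [Matrix.mulVec, dotProduct, VanCyc.polarMatrix, hz]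
    exact one_ne_zero (congrFun hv 0)
  obtain ⟨z, rfl⟩ := C.exists_secPoint H hx (Ideal.pow_le_self two_ne_zero ((C.badAt_iff H hx hxc).1 hbad))
  refine ⟨z, ?_, (C.isOrdQuadSing_iff (m := m) hi H z hx hxc hbad).2 hord⟩
  ext z'
  constructor
  · rintro hs rfl
    exact C.not_smoothAt hi H hpull z' hx hxc hbad hs
  · intro hne
    by_contra hs
    exact hne ((LefPen.secι i ({H} : Set (LefPen.Form r k d))).isEmbedding.injective
      (eq_of_not_smoothAt (n := m + 1) hi H honly z' hs))

end Groth.Agent.H9LefPen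

end
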