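import Groth.Agent.H9LefPen.RankAvoid
import Groth.Agent.H9LefPen.OneMain
import Groth.Agent.OmegaField.Basis

/-! The universal singular member in characteristic zero. -/

set_option autoImplicit false
set_option linter.style.haveILetI false
set_option backward.isDefEq.respectTransparency false
set_option backward.isDefEq.respectTransparency.types false
set_option maxHeartbeats 1000000

universe u

noncomputable section

namespace Groth.Agent.H9LefPen.Char0

open MvPolynomial Matrix
open KaehlerDifferential (D)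

theorem det_eq_of_map_eq {A A' : Type u} [CommRing A] [CommRing A'] {m : ℕ} (φ ψ : A →+* A')
    (H : Matrix (Fin m) (Fin m) A) (e : ∀ a b, φ (H a b) = ψ (H a b)) : φ H.det = ψ H.det := by
  rw [RingHom.map_det, RingHom.map_det]
  exact congrArg Matrix.det (Matrix.ext e)

/-- Almost algebraically independent elements have at most one linear relation among their differentials. -/
theorem no_two_relations {k K : Type u} [Field k] [CharZero k] [Field K] [Algebra k K] {M : ℕ} (θ : Fin M → K)
    (l₀ : Fin M) (hθ : AlgebraicIndependent k (fun q : {p : Fin M // p ≠ l₀} => θ q)) (w₁ w₂ : Fin M → K)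
    (hw : ∀ a b : K, a • w₁ + b • w₂ = 0 → a = 0 ∧ b = 0)
    (h1 : ∑ p, w₁ p • D k K (θ p) = 0) (h2 : ∑ p, w₂ p • D k K (θ p) = 0) : False := by
  classical
  obtain ⟨t, ht, hT⟩ := exists_isTranscendenceBasis_superset (hθ.to_subtype_range : AlgebraicIndepOn k id _)
  haveI := hT.isAlgebraic_field
  haveI : CharZero K := charZero_of_injective_algebraMap (algebraMap k K).injective
  obtain ⟨bΩ, hbΩ⟩ := OmegaField.exists_basis k K ((↑) : t → K) hT.1 inferInstance
  have hli : LinearIndependent K (fun q : {p : Fin M // p ≠ l₀} => D k K (θ q)) := by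
    have h := bΩ.linearIndependent.comp (fun q : {p : Fin M // p ≠ l₀} => (⟨θ q, ht ⟨q, rfl⟩⟩ : t))
      (fun a b h => hθ.injective (congrArg Subtype.val h))
    have e : (⇑bΩ ∘ fun q : {p : Fin M // p ≠ l₀} => (⟨θ q, ht ⟨q, rfl⟩⟩ : t)) = fun q : {p : Fin M // p ≠ l₀} => D k K (θ q.1) :=
      funext fun q => hbΩ _
    rw [e] at h
    exact h
  have hone : ∀ w : Fin M → K, w l₀ = 0 → ∑ p, w p • D k K (θ p) = 0 → w = 0 := by
    intro w hw0 hrel
    have hrel' : ∑ q : {p : Fin M // p ≠ l₀}, w q • D k K (θ q) = 0 := by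
      rw [← hrel, ← Finset.sum_subtype (Finset.univ.filter (fun p => p ≠ l₀)) (by simp) (fun p => w p • D k K (θ p)),
        Finset.sum_filter_of_ne]
      intro p _ hp hpl
      exact hp (by rw [hpl, hw0, zero_smul])
    funext p
    by_cases hp : p = l₀
    · rw [hp]; exact hw0
    · exact Fintype.linearIndependent_iff.1 hli _ hrel' ⟨p, hp⟩
  have h0 := hone (w₂ l₀ • w₁ + (-(w₁ l₀)) • w₂) (by simp [mul_comm]) (by
    simp only [Pi.add_apply, Pi.smul_apply, add_smul, smul_eq_mul, ← smul_smul, Finset.sum_add_distrib, ← Finset.smul_sum,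
      h1, h2, smul_zero, add_zero])
  obtain ⟨e1, e2⟩ := hw _ _ h0
  have h3 := hone w₁ (by simpa using e2) h1
  exact one_ne_zero (hw 1 0 (by rw [h3, smul_zero, zero_smul, add_zero])).1

variable {k B : Type u} [Field k] [CommRing B] [Algebra k B] {n M : ℕ}

/-- Values and differentials of a family of functions. -/
def jetm (ω : Module.Basis (Fin n) B Ω[B⁄k]) (f : Fin M → B) : Matrix (Option (Fin n)) (Fin M) B :=
  fun j p => Option.elim j (f p) (fun l => ω.coord l (D k B (f p)))

variable (ω : Module.Basis (Fin n) B Ω[B⁄k]) (f : Fin M → B) (N : Matrix (Fin M) (Option (Fin n)) B)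

/-- The universal singular member. -/
def univ (p : Fin M) : MvPolynomial (Fin M) B :=
  X p - (N.map C *ᵥ ((jetm ω f).map C *ᵥ X)) p

/-- The second derivatives of the universal singular member. -/
def hessU : Matrix (Fin n) (Fin n) (MvPolynomial (Fin M) B) := fun r l =>
  ∑ p, univ ω f N p * C (ω.coord l (D k B (jetm ω f (some r) p)))

theorem jetm_univ (hN : jetm ω f * N = 1) : (jetm ω f).map C *ᵥ univ ω f N = 0 := by
  classical
  let T : Fin M → MvPolynomial (Fin M) B := X
  have e : univ ω f N = T - N.map C *ᵥ ((jetm ω f).map C *ᵥ T) := rfl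
  rw [e, mulVec_sub, mulVec_mulVec _ ((jetm ω f).map C) (N.map C), ← Matrix.map_mul, hN,
    Matrix.map_one _ (map_zero _) (map_one _), one_mulVec, sub_self]

variable [CharZero k] [IsDomain B]

/-- If all but one coordinate of the universal singular member are independent the second derivatives are nondegenerate. -/
theorem det_hessU_ne_zero (hN : jetm ω f * N = 1) (l₀ : Fin M)
    (hind : AlgebraicIndependent k (fun q : {p : Fin M // p ≠ l₀} => univ ω f N q)) : (hessU ω f N).det ≠ 0 := by
  classical
  intro hdet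
  let R := MvPolynomial (Fin M) B
  let K := FractionRing R
  let θ : Fin M → R := univ ω f N
  let F : Option (Fin n) → Fin M → R := fun j p => C (jetm ω f j p)
  let DR : R → Ω[R⁄k] := D k R
  let w : Fin n → Ω[R⁄k] := fun l => KaehlerDifferential.map k k B R (ω l)
  have hDC : ∀ h : B, D k R (C h) = ∑ l, (C (ω.coord l (D k B h)) : R) • w l := by
    intro h
    have := congrArg (KaehlerDifferential.map k k B R) (ω.sum_repr (D k B h))
    rw [KaehlerDifferential.map_D, map_sum] at this
    rw [← MvPolynomial.algebraMap_eq, ← this]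
    refine Finset.sum_congr rfl fun l _ => ?_
    rw [map_smul, algebraMap_smul]
    rfl
  have hMθ : ∀ j, ∑ p, F j p * θ p = 0 := fun j => congrFun (jetm_univ ω f N hN) j
  have hrel : ∀ j, ∑ p, F j p • D k R (θ p) + ∑ l, (∑ p, θ p * C (ω.coord l (D k B (jetm ω f j p)))) • w l = 0 := by
    intro j
    have h := congrArg (D k R) (hMθ j)
    rw [map_zero, map_sum] at h
    rw [← h]
    simp only [Derivation.leibniz, Finset.sum_add_distrib, F, hDC, Finset.smul_sum, smul_smul, Finset.sum_smul]
    congr 1
    rw [Finset.sum_comm]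
    refine Finset.sum_congr rfl fun l _ => ?_
    exact map_sum ((smulAddHom R Ω[R⁄k]).flip (w l)) _ _
  have hnone : ∑ p, F none p • D k R (θ p) = 0 := by
    have h := hrel none
    have hz : ∑ l, (∑ p, θ p * C (ω.coord l (D k B (jetm ω f none p)))) • w l = 0 :=
      Finset.sum_eq_zero fun l _ => by
        rw [show ∑ p, θ p * C (ω.coord l (D k B (jetm ω f none p))) = ∑ p, F (some l) p * θ p from
          Finset.sum_congr rfl fun p _ => mul_comm _ _, hMθ, zero_smul]
    rwa [hz, add_zero] at h
  obtain ⟨v, hv0, hv⟩ := Matrix.exists_vecMul_eq_zero_iff.2 hdet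
  have hsome : ∑ p, (∑ r, v r * F (some r) p) • D k R (θ p) = 0 := by
    have h : ∑ r, v r • (∑ p, F (some r) p • D k R (θ p) +
        ∑ l, hessU ω f N r l • w l) = 0 := Finset.sum_eq_zero fun r _ => by
      rw [show (∑ p, F (some r) p • D k R (θ p) + ∑ l, hessU ω f N r l • w l) = 0 from hrel (some r), smul_zero]
    simp only [smul_add, Finset.sum_add_distrib, Finset.smul_sum, smul_smul] at h
    rw [show ∑ r, ∑ l, (v r * hessU ω f N r l) • w l = 0 by
      rw [Finset.sum_comm]
      refine Finset.sum_eq_zero fun l _ => ?_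
      rw [← Finset.sum_smul, show ∑ r, v r * hessU ω f N r l = (v ᵥ* hessU ω f N) l from rfl, hv, Pi.zero_apply,
        zero_smul], add_zero, Finset.sum_comm] at h
    simpa only [Finset.sum_smul] using h
  let ι : R →+* K := algebraMap R K
  have hι : Function.Injective ι := IsFractionRing.injective R K
  have hmap : ∀ u : Fin M → R, ∑ p, u p • D k R (θ p) = 0 → ∑ p, ι (u p) • D k K (ι (θ p)) = 0 := by
    intro u hu
    have h := congrArg (KaehlerDifferential.map k k R K) hu
    rw [map_sum, map_zero] at h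
    rw [← h]
    exact Finset.sum_congr rfl fun p _ => by rw [map_smul, KaehlerDifferential.map_D, algebraMap_smul]
  refine no_two_relations (fun p => ι (θ p)) l₀
    (hind.map' (f := IsScalarTower.toAlgHom k R K) hι) (fun p => ι (F none p)) (fun p => ι (∑ r, v r * F (some r) p))
    (fun a b hab => ?_) (hmap _ hnone) (hmap _ hsome)
  let u : Option (Fin n) → K := fun j => Option.elim j a (fun r => b * ι (v r))
  let FK : Matrix (Option (Fin n)) (Fin M) K := (jetm ω f).map (ι.comp C)
  have hu : u ᵥ* FK = 0 := by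
    funext p
    have h := congrFun hab p
    simp only [Pi.add_apply, Pi.smul_apply, smul_eq_mul, map_sum, map_mul, Finset.mul_sum] at h
    simp only [vecMul, dotProduct, Fintype.sum_option, u, Option.elim_none, Option.elim_some, FK, Matrix.map_apply,
      RingHom.comp_apply, mul_assoc]
    exact h
  have h2 : u = 0 := by
    have := congrArg (fun z => z ᵥ* N.map (ι.comp C)) hu
    simp only [FK] at this
    rw [vecMul_vecMul, ← Matrix.map_mul, hN, Matrix.map_one _ (map_zero _) (map_one _), vecMul_one, zero_vecMul] at this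
    exact this
  refine ⟨congrFun h2 none, ?_⟩
  obtain ⟨r, hr⟩ : ∃ r, v r ≠ 0 := by
    by_contra! hc
    exact hv0 (funext hc)
  exact (mul_eq_zero.1 (congrFun h2 (some r))).resolve_right fun h => hr (hι (h.trans (map_zero ι).symm))

omit [IsDomain B] [CharZero k] in
theorem aeval_map_hom {A A' : Type u} [CommRing A] [Algebra k A] [CommRing A'] [Algebra k A'] (φ : A →ₐ[k] A')
    {σ : Type*} (v : σ → A) (p : MvPolynomial σ k) : φ (MvPolynomial.aeval v p) = MvPolynomial.aeval (fun l => φ (v l)) p := by
  rw [← AlgHom.comp_apply, MvPolynomial.comp_aeval]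

variable [Algebra.FiniteType k B]

omit [CharZero k] in
/-- The degenerate singular members satisfy a further equation. -/
theorem exists_degenerate_eq (hN : jetm ω f * N = 1) (hdim : ringKrullDim B ≤ (n : ℕ)) (l₀ : Fin M)
    (hdet : (hessU ω f N).det ≠ 0) :
    ∃ q : MvPolynomial {p : Fin M // p ≠ l₀} k, q ≠ 0 ∧
      MvPolynomial.aeval (fun j => univ ω f N j.1) q ∈ Ideal.span {(hessU ω f N).det} := by
  classical
  let R := MvPolynomial (Fin M) B
  let Δ := (hessU ω f N).det
  let R' := R ⧸ Ideal.span {Δ}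
  let q' : R →+* R' := Ideal.Quotient.mk _
  let τ := {p : Fin M // p ≠ l₀}
  let σ := ULift.{u} (Option (Fin n))
  let τ' := ULift.{u} τ
  haveI : Algebra.FiniteType k R := Algebra.FiniteType.trans (S := B) inferInstance inferInstance
  haveI : Algebra.FiniteType k R' := Algebra.FiniteType.of_surjective (Ideal.Quotient.mkₐ k _) Ideal.Quotient.mk_surjective
  let θ : Fin M → R := univ ω f N
  let θ' : MvPolynomial τ' k →ₐ[k] R' := MvPolynomial.aeval fun j => q' (θ j.down.1)
  by_cases hinj : Function.Injective θ'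
  swap
  · rw [injective_iff_map_eq_zero] at hinj
    push Not at hinj
    obtain ⟨q, hq, hq0⟩ := hinj
    refine ⟨MvPolynomial.renameEquiv k Equiv.ulift q, (map_ne_zero_iff _ (AlgEquiv.injective _)).2 hq0, ?_⟩
    rw [MvPolynomial.renameEquiv_apply, MvPolynomial.aeval_rename, ← Ideal.Quotient.eq_zero_iff_mem]
    rw [← hq]
    exact (aeval_map_hom (Ideal.Quotient.mkₐ k _) _ q)
  exfalso
  let MT : Option (Fin n) → R := (jetm ω f).map C *ᵥ X
  let η : MvPolynomial (σ ⊕ τ') k →ₐ[k] R' :=
    MvPolynomial.aeval (Sum.elim (fun j => q' (MT j.down)) fun j => q' (θ j.down.1))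
  let S : σ → MvPolynomial σ R' := X
  let CC : B →+* MvPolynomial σ R' := C.comp (q'.comp C)
  let T' : Fin M → MvPolynomial σ R' := fun p => C (q' (θ p)) + (N.map CC *ᵥ fun j => S ⟨j⟩) p
  let Ψ₀ : R →+* MvPolynomial σ R' := MvPolynomial.eval₂Hom CC T'
  have hΨC : ∀ b : B, Ψ₀ (C b) = CC b := fun b => MvPolynomial.eval₂Hom_C _ _ b
  have hMT : ∀ j, Ψ₀ (MT j) = S ⟨j⟩ := by
    intro j
    have h1 : Ψ₀ (MT j) = ((jetm ω f).map CC *ᵥ T') j := by
      simp only [MT, mulVec, dotProduct, map_sum, map_mul, Matrix.map_apply, hΨC]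
      exact Finset.sum_congr rfl fun p _ => by rw [MvPolynomial.eval₂Hom_X']
    have h2 : (jetm ω f).map CC *ᵥ (fun p => (C (q' (θ p)) : MvPolynomial σ R')) = 0 := by
      funext j
      have h := congrArg (fun z => (C (q' z) : MvPolynomial σ R')) (congrFun (jetm_univ ω f N hN) j)
      simp only [mulVec, dotProduct, map_sum, map_mul, Matrix.map_apply, Pi.zero_apply, map_zero] at h
      exact h
    rw [h1, show T' = (fun p => (C (q' (θ p)) : MvPolynomial σ R')) + N.map CC *ᵥ fun j => S ⟨j⟩ from rfl, mulVec_add,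
      h2, zero_add, mulVec_mulVec, ← Matrix.map_mul, hN, Matrix.map_one _ (map_zero _) (map_one _), one_mulVec]
  have hθ : ∀ p, Ψ₀ (θ p) = C (q' (θ p)) := by
    intro p
    show Ψ₀ ((X p : R) - (N.map C *ᵥ MT) p) = _
    rw [map_sub, MvPolynomial.eval₂Hom_X', RingHom.map_mulVec, Matrix.map_map]
    have : (Ψ₀ ∘ MT) = fun j => S ⟨j⟩ := funext hMT
    rw [this, show (N.map (Ψ₀ ∘ C)) = N.map CC from Matrix.ext fun a b => hΨC (N a b)]
    exact add_sub_cancel_right (C (q' (θ p)) : MvPolynomial σ R') ((N.map CC *ᵥ fun j => S ⟨j⟩) p)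
  have hq0 : q' Δ = 0 := Ideal.Quotient.eq_zero_iff_mem.2 (Ideal.mem_span_singleton_self Δ)
  have hΔ : Ψ₀ Δ = 0 := by
    have e : ∀ a b, Ψ₀ (hessU ω f N a b) = (C.comp q') (hessU ω f N a b) := fun a b => by
      simp only [hessU, map_sum, map_mul, RingHom.comp_apply]
      refine Finset.sum_congr rfl fun p _ => ?_
      rw [show Ψ₀ (univ ω f N p) = C (q' (univ ω f N p)) from hθ p, hΨC]
      rfl
    have h1 := det_eq_of_map_eq (A := MvPolynomial (Fin M) B) (A' := MvPolynomial σ R') Ψ₀ (C.comp q') (hessU ω f N) e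
    have h2 : (C.comp q' : R →+* MvPolynomial σ R') Δ = 0 := by rw [RingHom.comp_apply, hq0, map_zero]
    exact h1.trans h2
  let Ψ : R' →+* MvPolynomial σ R' := Ideal.Quotient.lift _ Ψ₀ fun a ha => by
    obtain ⟨b, rfl⟩ := Ideal.mem_span_singleton'.1 ha
    rw [map_mul, hΔ, mul_zero]
  have key : Ψ.comp η.toRingHom = (MvPolynomial.map θ'.toRingHom).comp (MvPolynomial.sumAlgEquiv k σ τ').toRingHom := by
    refine MvPolynomial.ringHom_ext (fun c => ?_) fun v => ?_
    · simp only [RingHom.comp_apply, AlgHom.toRingHom_eq_coe, RingHom.coe_coe, η, MvPolynomial.aeval_C]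
      rw [show algebraMap k R' c = q' (C (algebraMap k B c)) from rfl, Ideal.Quotient.lift_mk, hΨC]
      simp [CC, θ', IsScalarTower.algebraMap_apply k B R, MvPolynomial.algebraMap_eq]
      rfl
    · rcases v with ⟨j⟩ | j
      · simp only [RingHom.comp_apply, AlgHom.toRingHom_eq_coe, RingHom.coe_coe, η, MvPolynomial.aeval_X, Sum.elim_inl]
        rw [Ideal.Quotient.lift_mk, hMT]
        simp [S]
        rfl
      · simp only [RingHom.comp_apply, AlgHom.toRingHom_eq_coe, RingHom.coe_coe, η, MvPolynomial.aeval_X, Sum.elim_inr]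
        rw [Ideal.Quotient.lift_mk, hθ]
        simp [θ']
  have hη : Function.Injective η := by
    refine Function.Injective.of_comp (f := Ψ) ?_
    have h := congrArg DFunLike.coe key
    rw [RingHom.coe_comp, RingHom.coe_comp] at h
    exact h ▸ (MvPolynomial.map_injective θ'.toRingHom hinj).comp (MvPolynomial.sumAlgEquiv k σ τ').injective
  haveI : IsNoetherianRing B := Algebra.FiniteType.isNoetherianRing k B
  have hR : ringKrullDim R ≤ ((n + M : ℕ) : WithBot ℕ∞) := by
    rw [MvPolynomial.ringKrullDim_of_isNoetherianRing, Nat.card_eq_fintype_card, Fintype.card_fin, Nat.cast_add]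
    exact add_le_add_left hdim _
  have hM : 1 ≤ M := by
    have := l₀.2; omega
  have hR' : ringKrullDim R' ≤ ((n + M - 1 : ℕ) : WithBot ℕ∞) :=
    RankAvoid.dim_quotient_le hdet (Ideal.mem_span_singleton_self _) (by rwa [show n + M - 1 + 1 = n + M by omega])
  have h := (BertiniAff.le_ringKrullDim_of_injective η hη).trans hR'
  have hcard : Fintype.card (σ ⊕ τ') = n + 1 + (M - 1) := by simp [σ, τ', τ]
  rw [hcard] at h
  norm_cast at h
  omega

end Groth.Agent.H9LefPen.Char0

end
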