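import Groth.Agent.H9LefPen.OneMain

/-! In degree at least two some section has exactly one ordinary quadratic point. -/

set_option autoImplicit false
set_option linter.style.haveILetI false
set_option backward.isDefEq.respectTransparency false
set_option backward.isDefEq.respectTransparency.types false
set_option maxHeartbeats 1000000

universe u

open CategoryTheory CategoryTheory.Limits AlgebraicGeometry TopologicalSpace Opposite Matrix
open KaehlerDifferential (D)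

noncomputable section

namespace Groth.Agent.H9LefPen

open Groth.Agent

variable {k : Type u} [Field k] [IsAlgClosed k] {r d m : ℕ} {X : Scheme.{u}} {i : X ⟶ CohB1.ProjSpace r k}
  [IsClosedImmersion i] [X.Over (Spec (CommRingCat.of k))] [IrreducibleSpace X]
  [SmoothOfRelativeDimension (m + 1) (X ↘ Spec (CommRingCat.of k))]
  (hi : X ↘ Spec (CommRingCat.of k) = i ≫ CohB1.ProjSpace.toSpec r k)

/-- The forms of degree `d` singular at a point. -/
abbrev Chart.singAt (C : Chart i (m + 1)) [Nontrivial C.B] (ev : C.B →ₐ[k] k) : Submodule k (LefPen.Form r k d) :=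
  LinearMap.ker (C.jetAt (d := d) hi ev)

include hi in
/-- An equation of the singular forms at `x₀` singular also at a point where a factor is free. -/
theorem full_piece {M : ℕ} (C₀ : Chart i (m + 1)) [Nontrivial C₀.B] (ev₀ : C₀.B →ₐ[k] k) {a : ℕ} (ha : a + 1 = d)
    (bV : Module.Basis (Fin M) k (C₀.singAt (d := d) hi ev₀)) {y : X} (hyc : IsClosed ({y} : Set X))
    (A : LefPen.Form r k a) (hA : C₀.jetAt hi ev₀ A = 0) (hAy : A.1 ∉ (i y).asHomogeneousIdeal.toIdeal) :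
    ∃ O : X.Opens, y ∈ O ∧ ∃ g : MvPolynomial (Fin M) k, g ≠ 0 ∧ ∀ z, IsClosed ({z} : Set X) → z ∈ O →
      ∀ e : Fin M → k, BadAt i (∑ p, e p • (bV p).1) z → MvPolynomial.eval e g = 0 := by
  classical
  obtain ⟨C, hy, t, ht⟩ := exists_chart' i (n := m + 1) y
  haveI := C.isDomain hy
  let ev := C.evAt hy hyc
  have hAy' : C.jetAt hi ev A none ≠ 0 := by
    show ev (C.pull A.1) ≠ 0
    rw [Ne, ← RingHom.mem_ker, C.ker_evAt hy hyc]
    exact fun h => hAy ((C.pull_mem_iff A hy).1 h)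
  let e₁ := finSuccEquiv (m + 1)
  choose L hL using fun b : Fin (m + 1 + 1) => C.jetAt_surjective (d := 1) hi le_rfl t ht ev (Pi.single (e₁ b) 1)
  have hmem : ∀ b, formMul ha A (L b) ∈ C₀.singAt (d := d) hi ev₀ := fun b => by
    rw [LinearMap.mem_ker, C₀.jetAt_formMul hi ev₀ ha, hA]
    funext j
    rcases j with _ | l <;> simp
  let v : Fin (m + 1 + 1) → Fin M → k := fun b p => bV.repr ⟨_, hmem b⟩ p
  have hv : ∀ b, (∑ p, v b p • (bV p).1) = formMul ha A (L b) := fun b => by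
    have := congrArg Subtype.val (bV.sum_repr ⟨_, hmem b⟩)
    simpa only [Submodule.coe_sum, Submodule.coe_smul] using this
  obtain ⟨O, hO, g, hg, hgz⟩ := exists_piece hi (s := m + 1) (fun p => (bV p).1) C ⊥
    ((ringKrullDim_quotient_le ⊥).trans (SmoothDim.ringKrullDim_eq k C.B (m + 1)).le) hy hyc v (by
      have e : (fun b => C.jetAt hi (C.evAt hy hyc) (∑ p, v b p • (bV p).1)) =
          mulJet (C.jetAt hi ev A) ∘ fun b : Fin (m + 1 + 1) => (Pi.single (e₁ b) 1 : Option (Fin (m + 1)) → k) :=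
        funext fun b => by rw [hv, C.jetAt_formMul hi _ ha, Function.comp_apply, ← hL b]; rfl
      rw [e]
      have h1 : LinearIndependent k fun b : Fin (m + 1 + 1) => (Pi.single (e₁ b) 1 : Option (Fin (m + 1)) → k) := by
        have := ((Pi.basisFun k (Option (Fin (m + 1)))).linearIndependent.comp e₁ e₁.injective)
        convert this using 1
        funext b
        exact (Pi.basisFun_apply k _ (e₁ b)).symm
      exact h1.map' (mulJet (C.jetAt hi ev A)) (LinearMap.ker_eq_bot.2 (mulJet_injective hAy')))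
  exact ⟨O ⊓ C.U.1, ⟨hO, hy⟩, g, hg, fun z hzc hz e hbad => hgz z hzc hz.1 hz.2 bot_le e hbad⟩

include hi in
/-- An equation of the singular forms at `x₀` singular also at a point where all the free factors vanish. -/
theorem tangent_piece {M : ℕ} (C₀ : Chart i (m + 1)) [Nontrivial C₀.B] {x₀ : X} (hx₀ : x₀ ∈ C₀.U.1)
    (hx₀c : IsClosed ({x₀} : Set X))
    (bV : Module.Basis (Fin M) k (C₀.singAt (d := 2) hi (C₀.evAt hx₀ hx₀c))) {y : X} (hyc : IsClosed ({y} : Set X))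
    (hne : y ≠ x₀) (N₁ : LefPen.Form r k 1) (hN₁ : C₀.jetAt hi (C₀.evAt hx₀ hx₀c) N₁ = 0) (hN₁0 : C₀.pull N₁.1 ≠ 0) :
    ∃ O : X.Opens, y ∈ O ∧ ∃ g : MvPolynomial (Fin M) k, g ≠ 0 ∧ ∀ z, IsClosed ({z} : Set X) → z ∈ O →
      (∀ N : LefPen.Form r k 1, C₀.jetAt hi (C₀.evAt hx₀ hx₀c) N = 0 → N.1 ∈ (i z).asHomogeneousIdeal.toIdeal) →
      ∀ e : Fin M → k, BadAt i (∑ p, e p • (bV p).1) z → MvPolynomial.eval e g = 0 := by
  classical
  obtain ⟨C, hy, t, ht⟩ := exists_chart' i (n := m + 1) y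
  haveI := C.isDomain hy
  let ev := C.evAt hy hyc
  let ev₀ := C₀.evAt hx₀ hx₀c
  obtain ⟨A, hAx, hAy⟩ := exists_linear_sep hi (n := m + 1) hx₀c hne
  have hA0 : C₀.jetAt hi ev₀ A none = 0 := by
    show ev₀ (C₀.pull A.1) = 0
    rw [← RingHom.mem_ker, C₀.ker_evAt hx₀ hx₀c]
    exact (C₀.pull_mem_iff A hx₀).2 hAx
  have hAy' : C.jetAt hi ev A none ≠ 0 := by
    show ev (C.pull A.1) ≠ 0
    rw [Ne, ← RingHom.mem_ker, C.ker_evAt hy hyc]
    exact fun h => hAy ((C.pull_mem_iff A hy).1 h)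
  haveI := finite_form (k := k) (r := r) 1
  let φ : Module.Dual k (LefPen.Form r k 1) := (LinearMap.proj none).comp (C₀.jetAt hi ev₀)
  obtain ⟨L, hL, hLi⟩ := exists_indep_image (C.jetAt (d := 1) hi ev) (C.jetAt_surjective hi le_rfl t ht ev) φ
    (s := m + 1) (by simp)
  have h12 : 1 + 1 = 2 := rfl
  have hmem : ∀ b, formMul h12 A (L b) ∈ C₀.singAt (d := 2) hi ev₀ := fun b => by
    have hb : C₀.jetAt hi ev₀ (L b) none = 0 := hL b
    rw [LinearMap.mem_ker, C₀.jetAt_formMul hi ev₀ h12]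
    funext j
    rcases j with _ | l
    · simp [hA0]
    · simp [hA0, hb]
  let v : Fin (m + 1) → Fin M → k := fun b p => bV.repr ⟨_, hmem b⟩ p
  have hv : ∀ b, (∑ p, v b p • (bV p).1) = formMul h12 A (L b) := fun b => by
    have := congrArg Subtype.val (bV.sum_repr ⟨_, hmem b⟩)
    simpa only [Submodule.coe_sum, Submodule.coe_smul] using this
  let I : Ideal C.B :=
    Ideal.span ((fun N : LefPen.Form r k 1 => C.pull N.1) '' {N | C₀.jetAt hi ev₀ N = 0})
  have hN₁C : C.pull N₁.1 ≠ 0 := fun h => hN₁0 (Chart.pull_eq_zero_of C C₀ N₁ ⟨y, hy⟩ h)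
  obtain ⟨O, hO, g, hg, hgz⟩ := exists_piece hi (s := m) (fun p => (bV p).1) C I
    (RankAvoid.dim_quotient_le hN₁C (Ideal.subset_span (Set.mem_image_of_mem (fun N : LefPen.Form r k 1 => C.pull N.1)
      (show N₁ ∈ {N | C₀.jetAt hi ev₀ N = 0} from hN₁))) (SmoothDim.ringKrullDim_eq k C.B (m + 1)).le)
    hy hyc v (by
      have e : (fun b => C.jetAt hi (C.evAt hy hyc) (∑ p, v b p • (bV p).1)) =
          mulJet (C.jetAt hi ev A) ∘ fun b : Fin (m + 1) => C.jetAt (d := 1) hi ev (L b) :=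
        funext fun b => by rw [hv, C.jetAt_formMul hi _ h12]; rfl
      rw [e]
      exact hLi.map' (mulJet (C.jetAt hi ev A)) (LinearMap.ker_eq_bot.2 (mulJet_injective hAy')))
  refine ⟨O ⊓ C.U.1, ⟨hO, hy⟩, g, hg, fun z hzc hz hzero e hbad => hgz z hzc hz.1 hz.2 (Ideal.span_le.2 ?_) e hbad⟩
  rintro _ ⟨N, hN, rfl⟩
  exact (C.pull_mem_iff N hz.2).2 (hzero N hN)

include hi in
/-- The ordinary tables are generic among the forms singular at a point. -/
theorem exists_ord_poly {M : ℕ} (hd : 2 ≤ d) (C : Chart i (m + 1)) [Nontrivial C.B]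
    (t : Γ(X, i ⁻¹ᵁ LefPen.chart r k C.j)) (ht : X.basicOpen t = C.U.1) (ev : C.B →ₐ[k] k)
    (bV : Module.Basis (Fin M) k (C.singAt (d := d) hi ev)) :
    ∃ g : MvPolynomial (Fin M) k, g ≠ 0 ∧ ∀ e, MvPolynomial.eval e g ≠ 0 →
      VanCyc.QuadOrd (C.hess ev (∑ p, e p • (bV p).1)) := by
  classical
  obtain ⟨c, L, H, hc, -, -, hH, htab⟩ := exists_quad_form hi hd C t ht ev
  let G : Fin M → LefPen.Form r k d := fun p => (bV p).1
  let e₁ : Fin M → k := fun p => bV.repr ⟨H, LinearMap.mem_ker.2 hH⟩ p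
  have he₁ : ∑ p, e₁ p • G p = H := by
    have := congrArg Subtype.val (bV.sum_repr ⟨H, LinearMap.mem_ker.2 hH⟩)
    simpa only [Submodule.coe_sum, Submodule.coe_smul] using this
  have hmap : ∀ (P : MvPolynomial (Fin M) C.B) (e : Fin M → k),
      MvPolynomial.eval e (MvPolynomial.map (ev : C.B →+* k) P) = ev (BadAlg.spec e P) := by
    intro P e
    induction P using MvPolynomial.induction_on with
    | C b => simp [BadAlg.spec]
    | add p q hp hq => simp [hp, hq]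
    | mul_X p l hp => simp [hp, BadAlg.spec]
  by_cases hdet : (VanCyc.polarMatrix c).det = 0
  · obtain ⟨j, hj⟩ := QA.exists_adj_col hc hdet
    refine ⟨MvPolynomial.map (ev : C.B →+* k) (C.adjPoly G j), fun h0 => hj ?_, fun e he => ?_⟩
    · have h := hmap (C.adjPoly G j) e₁
      rw [h0, map_zero, C.eval_adjPoly hi, he₁] at h
      rw [PSQuad.polarMatrix_congr htab] at h
      refine Eq.trans ?_ h.symm
      refine Finset.sum_congr rfl fun a _ => Finset.sum_congr rfl fun a' _ => ?_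
      split_ifs with hab
      · rw [htab a a' hab]
      · rfl
    · rw [hmap, C.eval_adjPoly hi] at he
      exact QA.quadOrd_of_adj _ (QA.det_eq_zero_of_singular hc hdet _) j he
  · refine ⟨MvPolynomial.map (ev : C.B →+* k) (C.detPoly G), fun h0 => hdet ?_, fun e he => ?_⟩
    · have h := hmap (C.detPoly G) e₁
      rw [h0, map_zero, C.eval_detPoly hi, he₁, PSQuad.polarMatrix_congr htab] at h
      exact h.symm
    · rw [hmap, C.eval_detPoly hi] at he
      exact QA.quadOrd_of_det _ he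

include hi in
theorem exists_oneOrdQuad (hd : 2 ≤ d) : ∃ H : LefPen.Form r k d, LefPen.OneOrdQuad k (m + 1) i H := by
  classical
  haveI : IsProper (CohB1.ProjSpace.toSpec r k) := PnCoh.Chow.isProper_toSpec r k
  haveI : CompactSpace X := QuasiCompact.compactSpace_of_compactSpace (i ≫ CohB1.ProjSpace.toSpec r k)
  obtain ⟨x₀, -, hx₀c⟩ := (isClosed_univ (X := X)).exists_closed_singleton Set.univ_nonempty
  obtain ⟨C₀, hx₀, t₀, ht₀⟩ := exists_chart' i (n := m + 1) x₀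
  haveI := C₀.isDomain hx₀
  let ev₀ := C₀.evAt hx₀ hx₀c
  by_cases hdir : d = 2 ∧ ∀ N : LefPen.Form r k 1, C₀.jetAt hi ev₀ N = 0 → C₀.pull N.1 = 0
  · obtain ⟨rfl, hK⟩ := hdir
    obtain ⟨c, L, H, hc, hL, hH, hbad, htab⟩ := exists_quad_form hi (d := 2) le_rfl C₀ t₀ ht₀ ev₀
    refine ⟨H, oneOrdQuad_of hi C₀ hx₀ hx₀c H ((C₀.badAt_iff_jetAt hi H hx₀ hx₀c ev₀ (C₀.ker_evAt hx₀ hx₀c)).2 hbad)
      ((quadOrd_congr htab).2 hc) fun y hyc hy => eq_of_bad_quad hi C₀ hx₀ hx₀c hc L hL hK H ?_ hyc hy⟩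
    rw [hH, Nat.sub_self, pow_zero, mul_one]
  haveI := finite_form (k := k) (r := r) d
  haveI : Module.Free k (C₀.singAt (d := d) hi ev₀) :=
    @Module.Free.of_divisionRing k (C₀.singAt (d := d) hi ev₀) _ (Submodule.addCommGroup _) (Submodule.module _)
  let bV := Module.finBasis k (C₀.singAt (d := d) hi ev₀)
  let Full : X → Prop := fun y => ∃ A : LefPen.Form r k (d - 1), C₀.jetAt hi ev₀ A = 0 ∧
    A.1 ∉ (i y).asHomogeneousIdeal.toIdeal
  obtain ⟨g₁, hg₁, hg₁z⟩ := exists_poly_cover hi (n := m + 1) (fun p => (bV p).1)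
    {y : X | IsClosed ({y} : Set X) ∧ y ≠ x₀ ∧ Full y} (by
      rintro y ⟨hyc, -, A, hA, hAy⟩
      obtain ⟨O, hO, g, hg, hgz⟩ := full_piece hi C₀ ev₀ (show d - 1 + 1 = d by omega) bV hyc A hA hAy
      exact ⟨O, hO, g, hg, fun z hzO hzP e hb => hgz z hzP.1 hzO e hb⟩)
  obtain ⟨g₂, hg₂, hg₂z⟩ := exists_poly_cover hi (n := m + 1) (fun p => (bV p).1)
    {y : X | IsClosed ({y} : Set X) ∧ y ≠ x₀ ∧ ¬ Full y} (by
      rintro y ⟨hyc, hne, hnf⟩
      have hd2 : d = 2 := by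
        by_contra hd2
        obtain ⟨A, hAx, hAy⟩ := exists_linear_sep hi (n := m + 1) hx₀c hne
        obtain ⟨jy, hjy⟩ := Opens.mem_iSup.1 ((HypCurve.iSup_chart r k).ge (Set.mem_univ (i y)))
        refine hnf ⟨⟨A.1 * A.1 * MvPolynomial.X jy ^ (d - 3), (MvPolynomial.mem_homogeneousSubmodule _ _).2 (by
          have := (((MvPolynomial.mem_homogeneousSubmodule _ _).1 A.2).mul
            ((MvPolynomial.mem_homogeneousSubmodule _ _).1 A.2)).mul ((MvPolynomial.isHomogeneous_X k jy).pow (d - 3))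
          rwa [show 1 + 1 + 1 * (d - 3) = d - 1 by omega] at this)⟩, ?_, ?_⟩
        · have hA0 : ev₀ (C₀.pull A.1) = 0 := by
            rw [← RingHom.mem_ker, C₀.ker_evAt hx₀ hx₀c]
            exact (C₀.pull_mem_iff A hx₀).2 hAx
          show C₀.jetVec ev₀ (C₀.pull (A.1 * A.1 * _)) = 0
          rw [map_mul, map_mul, C₀.jetVec_mul, C₀.jetVec_mul]
          funext j
          rcases j with _ | l <;> simp [hA0]
        · intro h
          rcases (i y).isPrime.mem_or_mem h with h1 | h1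
          · rcases (i y).isPrime.mem_or_mem h1 with h2 | h2 <;> exact hAy h2
          · exact hjy ((i y).isPrime.mem_of_pow_mem _ h1)
      subst hd2
      obtain ⟨N₁, hN₁, hN₁0⟩ : ∃ N₁ : LefPen.Form r k 1, C₀.jetAt hi ev₀ N₁ = 0 ∧ C₀.pull N₁.1 ≠ 0 := by
        by_contra! hc
        exact hdir ⟨rfl, hc⟩
      obtain ⟨O, hO, g, hg, hgz⟩ := tangent_piece hi C₀ hx₀ hx₀c bV hyc hne N₁ hN₁ hN₁0
      exact ⟨O, hO, g, hg, fun z hzO hzP e hb => hgz z hzP.1 hzO
        (fun N hN => by_contra fun hNz => hzP.2.2 ⟨N, hN, hNz⟩) e hb⟩)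
  obtain ⟨g₀, hg₀, hg₀o⟩ := exists_ord_poly hi hd C₀ t₀ ht₀ ev₀ bV
  obtain ⟨e, he⟩ : ∃ e, MvPolynomial.eval e (g₀ * g₁ * g₂) ≠ 0 := by
    by_contra! h
    exact mul_ne_zero (mul_ne_zero hg₀ hg₁) hg₂ (MvPolynomial.funext fun e => by rw [h e, map_zero])
  rw [map_mul, map_mul, mul_ne_zero_iff, mul_ne_zero_iff] at he
  refine ⟨∑ p, e p • (bV p).1, oneOrdQuad_of hi C₀ hx₀ hx₀c _ ?_ (hg₀o e he.1.1) fun y hyc hy => ?_⟩
  · refine (C₀.badAt_iff_jetAt hi _ hx₀ hx₀c ev₀ (C₀.ker_evAt hx₀ hx₀c)).2 ?_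
    exact LinearMap.mem_ker.1 (Submodule.sum_mem _ fun p _ => Submodule.smul_mem _ _ (bV p).2)
  · by_contra hne
    by_cases hf : Full y
    · exact he.1.2 (hg₁z y ⟨hyc, hne, hf⟩ e hy)
    · exact he.2 (hg₂z y ⟨hyc, hne, hf⟩ e hy)

end Groth.Agent.H9LefPen

end
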