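import Groth.Agent.H9LefPen.PencilOpen
import Groth.Agent.H9LefPen.OneTheorem
import Groth.Agent.S4046

/-! Lefschetz pencils exist in degree at least two. -/

set_option autoImplicit false
set_option linter.style.haveILetI false
set_option backward.isDefEq.respectTransparency false
set_option backward.isDefEq.respectTransparency.types false
set_option maxHeartbeats 1000000

universe u

open CategoryTheory CategoryTheory.Limits AlgebraicGeometry TopologicalSpace

noncomputable section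

namespace Groth.Agent.H9LefPen

open Groth.Agent

variable {k : Type u} [Field k] [IsAlgClosed k] {r d n : ℕ} {X : Scheme.{u}} {i : X ⟶ CohB1.ProjSpace r k}

/-- Pencils through a transversal form, given that the bad forms are thin on each component. -/
theorem isGeneric_pencil_through' [IsClosedImmersion i] [IrreducibleSpace X]
    [SmoothOfRelativeDimension n (i ≫ CohB1.ProjSpace.toSpec r k)] (hn : 1 ≤ n) (hd : 1 ≤ d)
    (H₀ : LefPen.Form r k d)
    (hspan : ∃ G₀ : LefPen.Form r k d, G₀ ∉ Submodule.span k ({H₀} : Set (LefPen.Form r k d)))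
    (hgood' : ∀ {M : ℕ} (b : Module.Basis (Fin M) k (LefPen.Form r k d)) (h : MvPolynomial (Fin M) k),
      MvPolynomial.eval (fun l => b.repr H₀ l) h ≠ 0 →
      (∀ H, ¬ LefPen.Transversal k n 1 (LefPen.secToSpec i ({H} : Set (LefPen.Form r k d))) →
        MvPolynomial.eval (fun l => b.repr H l) h = 0) →
      ∀ p : MvPolynomial (Fin M) k, Prime p → p ∣ h → ∃ g : MvPolynomial (Fin M) k, ¬ p ∣ g ∧
        ∀ H, (¬ LefPen.Transversal k n 1 (LefPen.secToSpec i ({H} : Set (LefPen.Form r k d))) ∧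
          ¬ LefPen.OneOrdQuad k n i H) → MvPolynomial.eval (fun l => b.repr H l) g = 0)
    (hH₀ : LefPen.Transversal k n 1 (LefPen.secToSpec i ({H₀} : Set (LefPen.Form r k d)))) :
    LefPen.IsGeneric k {G : LefPen.Form r k d | LefPen.IsLefschetzPencil k n i d H₀ G} := by
  classical
  letI : X.Over (Spec (CommRingCat.of k)) := ⟨i ≫ CohB1.ProjSpace.toSpec r k⟩
  have hi : X ↘ Spec (CommRingCat.of k) = i ≫ CohB1.ProjSpace.toSpec r k := rfl
  haveI := finite_form (k := k) (r := r) d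
  let V := LefPen.Form r k d
  let b := Module.finBasis k V
  let m := Module.finrank k V
  let co : V → (Fin m → k) := fun H l => b.repr H l
  have hco : ∀ (G : V) (t : k), co (G + t • H₀) = co G + t • co H₀ := fun G t => funext fun l => by simp [co]
  obtain ⟨e, h, hh, hh0, hhX⟩ := exists_homogeneous_equation hi hn b H₀ hH₀
  let Bad : Set V := {H | ¬ LefPen.Transversal k n 1 (LefPen.secToSpec i ({H} : Set (LefPen.Form r k d))) ∧
    ¬ LefPen.OneOrdQuad k n i H}
  have hgood := hgood' b h hh0 hhX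
  have helim : ∀ p : MvPolynomial (Fin m) k, Prime p → p ∣ h → ∃ a : MvPolynomial (Fin m) k, a ≠ 0 ∧
      ∀ (G : V) (t : k), MvPolynomial.eval (co G) a ≠ 0 → MvPolynomial.eval (co (G + t • H₀)) p = 0 →
        G + t • H₀ ∉ Bad := by
    intro p hp hph
    obtain ⟨g, hpg, hgB⟩ := hgood p hp hph
    obtain ⟨a, ha0, ha⟩ := Line.exists_elim (co H₀) hh hh0 hp hph hpg
    exact ⟨a, ha0, fun G t hG hz hB => ha (co G) t hG (hco G t ▸ hz) (hco G t ▸ hgB _ hB)⟩
  have hh' : h ≠ 0 := fun hz => hh0 (by rw [hz, map_zero])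
  obtain ⟨S, hSp, hSh⟩ := UniqueFactorizationMonoid.exists_prime_factors h hh'
  have hdvd : ∀ p ∈ S, p ∣ h := fun p hp => (Multiset.dvd_prod hp).trans hSh.dvd
  choose! a ha0 ha using fun p (hp : p ∈ S) => helim p (hSp p hp) (hdvd p hp)
  let a₀ : MvPolynomial (Fin m) k := ∏ p ∈ S.toFinset, a p
  have ha₀ : a₀ ≠ 0 := Finset.prod_ne_zero_iff.2 fun p hp => ha0 p (Multiset.mem_toFinset.1 hp)
  -- independence
  have hindep' : ∃ φ : Module.Dual k V, φ H₀ = 0 ∧ ∃ G, φ G ≠ 0 := by
    obtain ⟨G₀, hG₀⟩ := hspan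
    obtain ⟨φ, hφ1, hφW⟩ := Submodule.exists_dual_map_eq_bot_of_notMem hG₀ inferInstance
    refine ⟨φ, ?_, G₀, hφ1⟩
    have := Submodule.mem_map_of_mem (f := φ) (Submodule.mem_span_singleton_self H₀)
    rwa [hφW, Submodule.mem_bot] at this
  obtain ⟨φ, hφ0, hφ⟩ := hindep'
  obtain ⟨P, hP, hP0, hPS⟩ := isGeneric_transversal_pair i n hn hd H₀ hH₀
  have hafun : LefPen.IsPolyFun k (fun G : V => MvPolynomial.eval (co G) a₀) := isPolyFun_eval b a₀
  have ha0' : ∃ G : V, MvPolynomial.eval (co G) a₀ ≠ 0 := by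
    by_contra! hall
    refine ha₀ (MvPolynomial.funext fun c => ?_)
    have := hall (∑ l, c l • b l)
    rw [show co (∑ l, c l • b l) = c from b.repr_sum_self c] at this
    rw [this, map_zero]
  have hφfun : LefPen.IsPolyFun k (fun G : V => φ G) := Algebra.subset_adjoin ⟨φ, rfl⟩
  obtain ⟨G', hG'⟩ := exists_ne_zero_and b hafun hP ha0' hP0
  have h12 : LefPen.IsPolyFun k ((fun G : V => MvPolynomial.eval (co G) a₀) * P) := mul_mem hafun hP
  obtain ⟨G'', hG''⟩ := exists_ne_zero_and b h12 hφfun ⟨G', mul_ne_zero hG'.1 hG'.2⟩ hφ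
  refine ⟨((fun G : V => MvPolynomial.eval (co G) a₀) * P) * fun G => φ G, mul_mem h12 hφfun,
    ⟨G'', mul_ne_zero hG''.1 hG''.2⟩, fun G hG => ?_⟩
  simp only [Pi.mul_apply, mul_ne_zero_iff] at hG
  obtain ⟨⟨hGa, hGP⟩, hGφ⟩ := hG
  -- members of the pencil through H₀
  have hline : ∀ t : k, ¬ LefPen.Transversal k n 1 (LefPen.secToSpec i ({G + t • H₀} : Set (LefPen.Form r k d))) →
      MvPolynomial.eval (co (G + t • H₀)) h = 0 ∧ LefPen.OneOrdQuad k n i (G + t • H₀) := by
    intro t ht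
    have h0 := hhX _ ht
    refine ⟨h0, by_contra fun hq => ?_⟩
    obtain ⟨u, hu⟩ := hSh
    have h1 : MvPolynomial.eval (co (G + t • H₀)) S.prod = 0 := by
      have := hu ▸ h0
      rw [map_mul, mul_eq_zero] at this
      exact this.resolve_right (u.isUnit.map (MvPolynomial.eval _)).ne_zero
    rw [map_multiset_prod, Multiset.prod_eq_zero_iff, Multiset.mem_map] at h1
    obtain ⟨p, hpS, hp⟩ := h1
    refine ha p hpS G t ?_ hp ⟨ht, hq⟩
    rw [map_prod] at hGa
    exact Finset.prod_ne_zero_iff.1 hGa p (Multiset.mem_toFinset.2 hpS)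
  have hmem : ∀ c : k, c ≠ 0 → H₀ + c • G = c • (G + c⁻¹ • H₀) := fun c hc => by
    rw [smul_add, smul_smul, mul_inv_cancel₀ hc, one_smul, add_comm]
  refine ⟨?_, hPS G hGP, ?_, ?_⟩
  · refine LinearIndependent.pair_iff.2 fun x y hxy => ?_
    have h1 := congrArg φ hxy
    simp only [map_add, map_smul, hφ0, smul_eq_mul, mul_zero, zero_add, map_zero, mul_eq_zero] at h1
    have hy : y = 0 := h1.resolve_right hGφ
    subst hy
    rw [zero_smul, add_zero, smul_eq_zero] at hxy
    refine ⟨hxy.resolve_right fun hz => hh0 ?_, rfl⟩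
    refine hhX H₀ fun _ => ?_
    obtain ⟨x₀, hx₀⟩ : ∃ x : X, IsClosed ({x} : Set X) := by
      haveI : IsProper (CohB1.ProjSpace.toSpec r k) := PnCoh.Chow.isProper_toSpec r k
      haveI : CompactSpace X := QuasiCompact.compactSpace_of_compactSpace (i ≫ CohB1.ProjSpace.toSpec r k)
      obtain ⟨x, -, hx⟩ := (isClosed_univ (X := X)).exists_closed_singleton Set.univ_nonempty
      exact ⟨x, hx⟩
    haveI : SmoothOfRelativeDimension n (X ↘ Spec (CommRingCat.of k)) := ‹_›
    obtain ⟨C, hxC, -⟩ := exists_chart' i (n := n) x₀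
    exact (transversal_iff hi hn H₀).1 hH₀ x₀ hx₀ ((C.badAt_iff H₀ hxC hx₀).2 (by simp [hz]))
  · refine ((Line.finite_roots (co H₀) hh hh0 (co G)).image fun t => t⁻¹).subset fun c hc => ?_
    have hc0 : c ≠ 0 := fun hz => hc (by rwa [hz, zero_smul, add_zero])
    refine ⟨c⁻¹, ?_, inv_inv c⟩
    show MvPolynomial.eval (co G + c⁻¹ • co H₀) h = 0
    rw [← hco]
    refine (hline c⁻¹ fun hT => hc ?_).1
    show LefPen.Transversal k n 1 (LefPen.secToSpec i ({H₀ + c • G} : Set (LefPen.Form r k d)))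
    rw [hmem c hc0]
    exact transversal_smul i n _ hc0 hT
  · intro H hH hnT
    rcases hH with hH | ⟨c, rfl⟩
    · rw [Set.mem_singleton_iff] at hH
      subst hH
      have e0 : H + (0 : k) • H₀ = H := by rw [zero_smul, add_zero]
      exact e0 ▸ (hline 0 (e0.symm ▸ hnT)).2
    · replace hnT : ¬ LefPen.Transversal k n 1 (LefPen.secToSpec i ({H₀ + c • G} : Set (LefPen.Form r k d))) := hnT
      show LefPen.OneOrdQuad k n i (H₀ + c • G)
      by_cases hc0 : c = 0
      · refine absurd ?_ hnT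
        rw [hc0, zero_smul, add_zero]
        exact hH₀
      rw [hmem c hc0] at hnT ⊢
      exact oneOrdQuad_smul i n _ hc0 (hline c⁻¹ fun hT => hnT (transversal_smul i n _ hc0 hT)).2

theorem isLefschetzEmb [IsClosedImmersion i] [IrreducibleSpace X]
    [SmoothOfRelativeDimension n (i ≫ CohB1.ProjSpace.toSpec r k)] (hn : 1 ≤ n) (hd : 2 ≤ d) :
    LefPen.IsLefschetzEmb k n i d := by
  classical
  letI : X.Over (Spec (CommRingCat.of k)) := ⟨i ≫ CohB1.ProjSpace.toSpec r k⟩
  have hi : X ↘ Spec (CommRingCat.of k) = i ≫ CohB1.ProjSpace.toSpec r k := rfl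
  haveI := finite_form (k := k) (r := r) d
  obtain ⟨n, rfl⟩ : ∃ n', n = n' + 1 := ⟨n - 1, by omega⟩
  haveI : SmoothOfRelativeDimension (n + 1) (X ↘ Spec (CommRingCat.of k)) := ‹_›
  obtain ⟨H₁, hH₁⟩ := exists_oneOrdQuad (m := n) hi hd
  obtain ⟨f₁, hf₁, hf₁0, hf₁S⟩ := oneOrdQuad_open hi H₁ hH₁
  let V := LefPen.Form r k d
  have hnT : ∀ H : V, LefPen.OneOrdQuad k (n + 1) i H →
      ¬ LefPen.Transversal k (n + 1) 1 (LefPen.secToSpec i ({H} : Set V)) := by
    rintro H ⟨y, hy, hord⟩ hT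
    let ι' := LefPen.secι i ({H} : Set V)
    have hyc : IsClosed ({ι' y} : Set X) := by
      have h := ι'.isClosedEmbedding.isClosedMap _ hord.1
      rwa [Set.image_singleton] at h
    obtain ⟨C, hx, -⟩ := exists_chart' i (n := n + 1) (ι' y)
    haveI := C.isDomain hx
    have hns : ¬ LefPen.SmoothAt (LefPen.secToSpec i ({H} : Set V)) y := fun h =>
      ((Set.ext_iff.1 hy y).1 h : y ∈ ({y}ᶜ : Set _)) rfl
    exact (transversal_iff hi hn H).1 hT _ hyc
      ((C.badAt_iff_le H hx hyc).2 (C.badIdeal_le_of_not_smoothAt hi H y hx hns).2)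
  obtain ⟨fT, hfT, ⟨H₀, hH₀0⟩, hfTS⟩ := isGeneric_transversal k i (n + 1) hn d (by omega)
  have hH₀ : LefPen.Transversal k (n + 1) 1 (LefPen.secToSpec i ({H₀} : Set V)) := hfTS _ hH₀0
  have hirr := (S4046.result k r (n + 1) hn i d (by omega)).2
  have hspan : ∃ G₀ : V, G₀ ∉ Submodule.span k ({H₀} : Set V) := by
    refine ⟨H₁, fun h => ?_⟩
    obtain ⟨a, ha⟩ := Submodule.mem_span_singleton.1 h
    rcases eq_or_ne a 0 with rfl | ha0
    · obtain ⟨y, hy, -⟩ := id hH₁
      obtain ⟨C, hx, -⟩ := exists_chart' i (n := n + 1) (LefPen.secι i ({H₁} : Set V) y)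
      refine (fun h => ((Set.ext_iff.1 hy y).1 h : y ∈ ({y}ᶜ : Set _)) rfl : ¬ LefPen.SmoothAt _ y) ?_
      haveI := C.isDomain hx
      refine C.smoothAt_of hi H₁ y hx (Or.inl ?_)
      rw [← ha, zero_smul, Submodule.coe_zero, map_zero]
    · exact hnT H₁ hH₁ (ha ▸ transversal_smul i (n + 1) H₀ ha0 hH₀)
  obtain ⟨G, hG⟩ : ∃ G, LefPen.IsLefschetzPencil k (n + 1) i d H₀ G := by
    suffices hgood : _ from by
      obtain ⟨f, hf, ⟨G, hG⟩, hfS⟩ := isGeneric_pencil_through' (n := n + 1) hn (show 1 ≤ d by omega) H₀ hspan hgood hH₀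
      exact ⟨G, hfS G hG⟩
    intro M b h hh0 hhX p hp hph
    obtain ⟨q₁, hq₁⟩ := exists_eval_of_isPolyFun b hf₁
    have hB₁ : ∀ H, (¬ LefPen.Transversal k (n + 1) 1 (LefPen.secToSpec i ({H} : Set V)) ∧
        ¬ LefPen.OneOrdQuad k (n + 1) i H) → MvPolynomial.eval (fun l => b.repr H l) q₁ = 0 := fun H hH => by
      rw [← hq₁]; exact by_contra fun hne => hH.2 (hf₁S H hH.1 hne)
    have hh' : h ≠ 0 := fun hz => hh0 (by rw [hz, map_zero])
    obtain ⟨S, hSp, hSh⟩ := UniqueFactorizationMonoid.exists_prime_factors h hh'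
    obtain ⟨p₀, hp₀S, hp₀⟩ : ∃ p₀ ∈ S, ∀ H, ¬ LefPen.Transversal k (n + 1) 1 (LefPen.secToSpec i ({H} : Set V)) →
        MvPolynomial.eval (fun l => b.repr H l) p₀ = 0 := by
      have key : ∀ T : Multiset (MvPolynomial (Fin M) k),
          (∀ H, ¬ LefPen.Transversal k (n + 1) 1 (LefPen.secToSpec i ({H} : Set V)) →
            MvPolynomial.eval (fun l => b.repr H l) T.prod = 0) →
          ∃ p₀ ∈ T, ∀ H, ¬ LefPen.Transversal k (n + 1) 1 (LefPen.secToSpec i ({H} : Set V)) →
            MvPolynomial.eval (fun l => b.repr H l) p₀ = 0 := by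
        intro T
        induction T using Multiset.induction_on with
        | empty =>
          intro hT
          have := hT H₁ (hnT H₁ hH₁)
          rw [Multiset.prod_zero, map_one] at this
          exact absurd this one_ne_zero
        | cons a T ih =>
          intro hT
          rcases hirr _ _ (isPolyFun_eval b a) (isPolyFun_eval b T.prod) (fun H hH => by
            have := hT H hH
            rwa [Multiset.prod_cons, map_mul] at this) with h1 | h1
          · exact ⟨a, Multiset.mem_cons_self a T, h1⟩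
          · obtain ⟨p₀, hp₀, h2⟩ := ih h1
            exact ⟨p₀, Multiset.mem_cons_of_mem hp₀, h2⟩
      refine key S fun H hH => ?_
      obtain ⟨u, hu⟩ := hSh
      have := hu ▸ hhX H hH
      rw [map_mul, mul_eq_zero] at this
      exact this.resolve_right (u.isUnit.map (MvPolynomial.eval _)).ne_zero
    by_cases hpp : p ∣ p₀
    · refine ⟨q₁, fun hdvd => hf₁0 ?_, hB₁⟩
      obtain ⟨w, hw⟩ := ((hp.associated_of_dvd (hSp p₀ hp₀S) hpp).symm.dvd).trans hdvd
      rw [hq₁, hw, map_mul, hp₀ H₁ (hnT H₁ hH₁), zero_mul]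
    · exact ⟨p₀, hpp, fun H hH => hp₀ H hH.1⟩
  obtain ⟨f, hf, hf0, hfS⟩ := isZOpen_pencil (n := n + 1) (d := d) hn (H₀, G) hG
  exact ⟨f, hf, ⟨(H₀, G), hf0⟩, hfS⟩

end Groth.Agent.H9LefPen

end
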