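import Groth.Agent.H9LefPen.CharZeroPoint
import Groth.Agent.H9LefPen.PencilExist

/-! In characteristic zero every embedding is a Lefschetz embedding. -/

set_option autoImplicit false
set_option linter.style.haveILetI false
set_option backward.isDefEq.respectTransparency false
set_option backward.isDefEq.respectTransparency.types false
set_option maxHeartbeats 1000000

universe u

open CategoryTheory CategoryTheory.Limits AlgebraicGeometry TopologicalSpace Opposite Matrix
open KaehlerDifferential (D)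

noncomputable section

namespace Groth.Agent.H9LefPen

open Groth.Agent

/-- In characteristic zero a polynomial without derivatives is constant. -/
theorem exists_pderiv_ne_zero {k : Type u} [Field k] [CharZero k] {M : ℕ} {p : MvPolynomial (Fin M) k} (hp : p ≠ 0)
    (hu : ¬ IsUnit p) : ∃ l, MvPolynomial.pderiv l p ≠ 0 := by
  classical
  by_contra! h
  have hC : p = MvPolynomial.C (MvPolynomial.coeff 0 p) := by
    refine MvPolynomial.ext _ _ fun m => ?_
    rw [MvPolynomial.coeff_C]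
    split_ifs with hm
    · rw [← hm]
    · obtain ⟨l, hl⟩ : ∃ l, m l ≠ 0 := by
        by_contra! hall
        exact hm (Finsupp.ext fun l => (hall l).symm)
      have h1 := congrArg (MvPolynomial.coeff (m - Finsupp.single l 1)) (h l)
      have hle : Finsupp.single l 1 ≤ m := Finsupp.single_le_iff.2 (Nat.one_le_iff_ne_zero.2 hl)
      rw [MvPolynomial.coeff_pderiv, MvPolynomial.coeff_zero, tsub_add_cancel_of_le hle, mul_eq_zero] at h1
      exact h1.resolve_right (Nat.cast_add_one_ne_zero _)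
  refine hu (hC ▸ (isUnit_iff_ne_zero.2 fun h0 => hp ?_).map MvPolynomial.C)
  rw [hC, h0, map_zero]

/-- A polynomial with a derivative in a variable divides nothing of lower degree in it. -/
theorem not_dvd_pderiv {k : Type u} [Field k] {M : ℕ} {p : MvPolynomial (Fin M) k} {l : Fin M}
    (h : MvPolynomial.pderiv l p ≠ 0) : ¬ p ∣ MvPolynomial.pderiv l p := by
  classical
  rintro ⟨w, hw⟩
  have hp : p ≠ 0 := fun hz => h (by rw [hz, map_zero])
  have hw0 : w ≠ 0 := fun hz => h (by rw [hw, hz, mul_zero])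
  have hmem : ∀ m ∈ (MvPolynomial.pderiv l p).support, m l < MvPolynomial.degreeOf l p := fun m hm => by
    rw [MvPolynomial.mem_support_iff, MvPolynomial.coeff_pderiv] at hm
    have := MvPolynomial.degreeOf_le_iff.1 (le_refl (MvPolynomial.degreeOf l p)) (m + Finsupp.single l 1)
      (MvPolynomial.mem_support_iff.2 (left_ne_zero_of_mul hm))
    rw [Finsupp.add_apply, Finsupp.single_eq_same] at this
    omega
  obtain ⟨m, hm⟩ := Finset.nonempty_iff_ne_empty.2 fun he => h (MvPolynomial.support_eq_empty.1 he)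
  have h1 : MvPolynomial.degreeOf l (MvPolynomial.pderiv l p) < MvPolynomial.degreeOf l p :=
    (MvPolynomial.degreeOf_lt_iff (lt_of_le_of_lt (Nat.zero_le _) (hmem m hm))).2 hmem
  rw [hw, MvPolynomial.degreeOf_mul_eq hp hw0] at h1
  omega

/-- It divides no polynomial in the other variables. -/
theorem not_dvd_rename {k : Type u} [Field k] {M : ℕ} {p : MvPolynomial (Fin M) k} {l : Fin M}
    (h : MvPolynomial.pderiv l p ≠ 0) (q : MvPolynomial {x : Fin M // x ≠ l} k) (hq : q ≠ 0) :
    ¬ p ∣ MvPolynomial.rename Subtype.val q := by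
  classical
  rintro ⟨w, hw⟩
  have hq' : MvPolynomial.rename Subtype.val q ≠ 0 :=
    (map_ne_zero_iff _ (MvPolynomial.rename_injective _ Subtype.val_injective)).2 hq
  have hp : p ≠ 0 := fun hz => h (by rw [hz, map_zero])
  have hw0 : w ≠ 0 := fun hz => hq' (by rw [hw, hz, mul_zero])
  have hz : ∀ m ∈ (MvPolynomial.rename Subtype.val q).support, m l = 0 := fun m hm => by
    obtain ⟨m', rfl, -⟩ := MvPolynomial.coeff_rename_ne_zero _ _ _ (MvPolynomial.mem_support_iff.1 hm)
    exact Finsupp.mapDomain_of_notMem_range m' _ fun ⟨x, hx⟩ => x.2 hx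
  have h0 : MvPolynomial.degreeOf l (MvPolynomial.rename Subtype.val q) ≤ 0 :=
    MvPolynomial.degreeOf_le_iff.2 fun m hm => (hz m hm).le
  rw [hw, MvPolynomial.degreeOf_mul_eq hp hw0] at h0
  refine h ?_
  refine MvPolynomial.pderiv_eq_zero_of_notMem_vars fun hv => ?_
  obtain ⟨m, hm, hml⟩ := (MvPolynomial.mem_vars l).1 hv
  have := MvPolynomial.degreeOf_le_iff.1 (show MvPolynomial.degreeOf l p ≤ 0 by omega) m hm
  exact Finsupp.mem_support_iff.1 hml (Nat.le_zero.1 this)

variable {k : Type u} [Field k] [IsAlgClosed k] {r d m M : ℕ} {X : Scheme.{u}} {i : X ⟶ CohB1.ProjSpace r k}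
  [IsClosedImmersion i] [X.Over (Spec (CommRingCat.of k))]
  (hi : X ↘ Spec (CommRingCat.of k) = i ≫ CohB1.ProjSpace.toSpec r k)

/-- The value of a form at a point of a chart. -/
def Chart.value (C : Chart i m) (ev : C.B →ₐ[k] k) (G : LefPen.Form r k d) : k := ev (C.pull G.1)

omit [IsClosedImmersion i] in
include hi in
theorem Chart.value_eq_sum (C : Chart i m) (ev : C.B →ₐ[k] k) (b : Module.Basis (Fin M) k (LefPen.Form r k d))
    (G : LefPen.Form r k d) : C.value ev G = ∑ q, b.repr G q * ev (C.pull (b q).1) := by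
  conv_lhs => rw [← b.sum_repr G]
  simp only [Chart.value, Submodule.coe_sum, Submodule.coe_smul, MvPolynomial.smul_eq_C_mul, map_sum, map_mul,
    C.pull_C hi, ev.commutes, Algebra.algebraMap_self, RingHom.id_apply]

/-- A pure power of a linear form. -/
def linPow (L : LefPen.Form r k 1) (d : ℕ) : LefPen.Form r k d :=
  ⟨L.1 ^ d, (MvPolynomial.mem_homogeneousSubmodule _ _).2 (by
    simpa using ((MvPolynomial.mem_homogeneousSubmodule _ _).1 L.2).pow d)⟩

omit [IsAlgClosed k] [IsClosedImmersion i] [X.Over (Spec (CommRingCat.of k))] in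
/-- A functional vanishing on the forms through either of two separated points is zero. -/
theorem eq_zero_of_two_points (Ψ : Module.Dual k (LefPen.Form r k d)) (φ ψ : Module.Dual k (LefPen.Form r k d))
    (hφ : ∀ G, φ G = 0 → Ψ G = 0) (hψ : ∀ G, ψ G = 0 → Ψ G = 0) (G₁ : LefPen.Form r k d) (h1 : φ G₁ = 0)
    (h2 : ψ G₁ ≠ 0) : Ψ = 0 := by
  refine LinearMap.ext fun G => ?_
  have h := hψ (G - (ψ G / ψ G₁) • G₁) (by rw [map_sub, map_smul, smul_eq_mul, div_mul_cancel₀ _ h2, sub_self])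
  rwa [map_sub, map_smul, hφ G₁ h1, smul_zero, sub_zero] at h

variable [IrreducibleSpace X] [hsm : SmoothOfRelativeDimension (m + 1) (X ↘ Spec (CommRingCat.of k))] [CharZero k]

include hi in
/-- If the dual variety is a hypersurface, its general point is a section with one ordinary quadratic point. -/
theorem exists_oneOrdQuad_of_hypersurface (hd : 1 ≤ d) (b : Module.Basis (Fin M) k (LefPen.Form r k d))
    (p : MvPolynomial (Fin M) k) (hp : Prime p)
    (hvan : ∀ H, ¬ LefPen.Transversal k (m + 1) 1 (LefPen.secToSpec i ({H} : Set (LefPen.Form r k d))) →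
      MvPolynomial.eval (fun l => b.repr H l) p = 0)
    (hall : ∀ g : MvPolynomial (Fin M) k,
      (∀ H, ¬ LefPen.Transversal k (m + 1) 1 (LefPen.secToSpec i ({H} : Set (LefPen.Form r k d))) →
        MvPolynomial.eval (fun l => b.repr H l) g = 0) → p ∣ g) :
    ∃ H : LefPen.Form r k d, LefPen.OneOrdQuad k (m + 1) i H := by
  classical
  haveI : SmoothOfRelativeDimension (m + 1) (i ≫ CohB1.ProjSpace.toSpec r k) := hi ▸ ‹_›
  have hn : 1 ≤ m + 1 := Nat.le_add_left 1 m
  obtain ⟨l₀, hl₀⟩ := exists_pderiv_ne_zero hp.ne_zero hp.not_unit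
  choose C hC t ht using fun x : X => exists_chart' (i := i) (n := m + 1) x
  haveI hdom : ∀ x, IsDomain (C x).B := fun x => (C x).isDomain (hC x)
  choose N hN using fun x => (C x).exists_rightInv hi hd (t x) (ht x) b
  let σ := fun x => (C x).sub b (N x)
  have hnot : ∀ (x : X) (H : LefPen.Form r k d), IsClosed ({x} : Set X) → BadAt i H x →
      ¬ LefPen.Transversal k (m + 1) 1 (LefPen.secToSpec i ({H} : Set (LefPen.Form r k d))) :=
    fun x H hx hb hT => (transversal_iff hi hn H).1 hT x hx hb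
  have hσp : ∀ x, σ x p = 0 := fun x =>
    (C x).sub_eq_zero hi b (N x) (hN x) p 1 one_ne_zero fun z _ hz H hb => hvan H (hnot z H hz hb)
  have hspread : ∀ (g : MvPolynomial _ k) (x y : X), σ x g = 0 → σ y g = 0 := fun g x y h0 => by
    obtain ⟨w, hwx, hwy⟩ := nonempty_preirreducible_inter (C x).U.1.2 (C y).U.1.2 ⟨x, hC x⟩ ⟨y, hC y⟩
    obtain ⟨s, hs, hws⟩ := (C y).U.2.exists_basicOpen_le (V := (C x).U.1) ⟨w, hwx⟩ hwy
    refine (C y).sub_eq_zero hi b (N y) (hN y) g s (fun h => ?_) fun z hz hzc H hb =>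
      (C x).eval_eq_zero hi b (N x) g h0 (hs hz) hzc H hb
    rw [h, Scheme.basicOpen_zero] at hws
    exact hws
  have hend : ∀ (g : MvPolynomial _ k), (∀ x, σ x g = 0) → p ∣ g := fun g h0 => hall g fun H hH => by
    obtain ⟨x, hx, hb⟩ : ∃ x : X, IsClosed ({x} : Set X) ∧ BadAt i H x := by
      by_contra! hall'
      exact hH ((transversal_iff hi hn H).2 hall')
    exact (C x).eval_eq_zero hi b (N x) g (h0 x) (hC x) hx H hb
  have hind : ∀ x, AlgebraicIndependent k (fun q : {a : Fin M // a ≠ l₀} => (C x).uni b (N x) q.1) := fun x => by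
    rw [algebraicIndependent_iff]
    intro q hq
    by_contra hq0
    refine not_dvd_rename hl₀ q hq0 (hend _ fun y => hspread _ x y ?_)
    rw [show σ x (MvPolynomial.rename Subtype.val q) = _ from (C x).sub_eq_aeval b (N x) _, MvPolynomial.aeval_rename]
    exact hq
  have hdeg : ∀ x, ∃ q : MvPolynomial (Fin M) k, ¬ p ∣ q ∧ σ x q ∈ Ideal.span {((C x).hessUni b (N x)).det} := by
    intro x
    obtain ⟨q, hq0, hq⟩ := Char0.exists_degenerate_eq (C x).ω ((C x).fam b) (N x) (hN x)
      (SmoothDim.ringKrullDim_eq k (C x).B (m + 1)).le l₀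
      (Char0.det_hessU_ne_zero (C x).ω ((C x).fam b) (N x) (hN x) l₀ (hind x))
    refine ⟨MvPolynomial.rename Subtype.val q, not_dvd_rename hl₀ q hq0, ?_⟩
    rw [show σ x (MvPolynomial.rename Subtype.val q) = _ from (C x).sub_eq_aeval b (N x) _, MvPolynomial.aeval_rename]
    exact hq
  choose qd hqd hqdet using hdeg
  haveI : IsProper (CohB1.ProjSpace.toSpec r k) := PnCoh.Chow.isProper_toSpec r k
  haveI : CompactSpace X := QuasiCompact.compactSpace_of_compactSpace (i ≫ CohB1.ProjSpace.toSpec r k)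
  obtain ⟨T, hT⟩ := isCompact_univ.elim_finite_subcover (fun x : X => (((C x).U.1 : X.Opens) : Set X))
    (fun x => (C x).U.1.2) fun z _ => Set.mem_iUnion.2 ⟨z, hC z⟩
  let Q : MvPolynomial (Fin M) k := MvPolynomial.pderiv l₀ p * ∏ x ∈ T, qd x
  obtain ⟨H, hH, hQ⟩ : ∃ H : LefPen.Form r k d,
      ¬ LefPen.Transversal k (m + 1) 1 (LefPen.secToSpec i ({H} : Set (LefPen.Form r k d))) ∧
        MvPolynomial.eval (fun l => b.repr H l) Q ≠ 0 := by
    by_contra! h
    rcases hp.dvd_or_dvd (hall Q h) with h1 | h1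
    · exact not_dvd_pderiv hl₀ h1
    · obtain ⟨x, -, hx⟩ := hp.exists_mem_finset_dvd h1
      exact hqd x hx
  let c : Fin M → k := fun l => b.repr H l
  rw [map_mul, mul_ne_zero_iff, map_prod, Finset.prod_ne_zero_iff] at hQ
  have hbad : ∀ {y : X} (x : X) (hy : y ∈ (C x).U.1) (hyc : IsClosed ({y} : Set X)), BadAt i H y →
      ∀ j, (C x).evAt hy hyc (BadAlg.val ((C x).jetMat b) c j) = 0 := fun {y} x hy hyc hb j => by
    rw [BadAlg.val, (C x).mulVec_const hi, b.sum_repr, ← RingHom.mem_ker, (C x).ker_evAt hy hyc]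
    haveI := isMaximal_of_closed hy hyc
    rcases j with _ | l
    · exact Ideal.pow_le_self two_ne_zero (((C x).badAt_iff H hy hyc).1 hb)
    · exact functional_mem_of_mem_sq _ (((C x).badAt_iff H hy hyc).1 hb) _
  have hdet : ∀ {y : X} (x : X), x ∈ T → ∀ (hy : y ∈ (C x).U.1) (hyc : IsClosed ({y} : Set X)), BadAt i H y →
      MvPolynomial.eval₂Hom ((C x).evAt hy hyc : (C x).B →+* k) c ((C x).hessUni b (N x)).det ≠ 0 := by
    intro y x hxT hy hyc hb h0
    obtain ⟨u, hu⟩ := Ideal.mem_span_singleton'.1 (hqdet x)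
    have h := congrArg (MvPolynomial.eval₂Hom ((C x).evAt hy hyc : (C x).B →+* k) c) hu
    rw [map_mul, h0, mul_zero, (C x).eval_sub b (N x) _ c (hbad x hy hyc hb)] at h
    exact hQ.2 x hxT h.symm
  -- the tangent functional
  let Ψ : Module.Dual k (LefPen.Form r k d) := b.constr k fun q => MvPolynomial.eval c (MvPolynomial.pderiv q p)
  have hΨ : Ψ ≠ 0 := fun h0 => hQ.1 (by
    have := LinearMap.congr_fun h0 (b l₀)
    rwa [Module.Basis.constr_basis, LinearMap.zero_apply] at this)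
  have htan : ∀ {y : X} (x : X), x ∈ T → ∀ (hy : y ∈ (C x).U.1) (hyc : IsClosed ({y} : Set X)), BadAt i H y →
      ∀ G : LefPen.Form r k d, (C x).value ((C x).evAt hy hyc) G = 0 → Ψ G = 0 := by
    intro y x hxT hy hyc hb G hG
    rw [(C x).value_eq_sum hi _ b] at hG
    have h := (C x).tangent hi b (N x) (hN x) p (hσp x) _ c (hbad x hy hyc hb) (hdet x hxT hy hyc hb)
      (fun q => b.repr G q) hG
    rw [Module.Basis.constr_apply_fintype]
    exact h
  obtain ⟨y₀, hy₀c, hb₀⟩ : ∃ x : X, IsClosed ({x} : Set X) ∧ BadAt i H x := by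
    by_contra! hall'
    exact hH ((transversal_iff hi hn H).2 hall')
  obtain ⟨x₀, hx₀T, hy₀⟩ := Set.mem_iUnion₂.1 (hT (Set.mem_univ y₀))
  refine ⟨H, oneOrdQuad_of hi (C x₀) hy₀ hy₀c H hb₀ ?_ fun y hyc hb => ?_⟩
  · intro v _ hv
    refine Matrix.eq_zero_of_mulVec_eq_zero ?_ hv
    have h := (C x₀).eval_hessUni_eq hi b (N x₀) ((C x₀).evAt hy₀ hy₀c) c (hbad x₀ hy₀ hy₀c hb₀)
    rw [show (∑ q, c q • b q) = H from b.sum_repr H] at h
    rw [← h, ← RingHom.map_det]
    exact hdet x₀ hx₀T hy₀ hy₀c hb₀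
  · by_contra hne
    obtain ⟨x, hxT, hy⟩ := Set.mem_iUnion₂.1 (hT (Set.mem_univ y))
    obtain ⟨L, hL₀, hL⟩ := exists_linear_sep hi (n := m + 1) hy₀c hne
    let φ : Module.Dual k (LefPen.Form r k d) :=
      b.constr k fun q => (C x₀).evAt hy₀ hy₀c ((C x₀).pull (b q).1)
    let ψ : Module.Dual k (LefPen.Form r k d) := b.constr k fun q => (C x).evAt hy hyc ((C x).pull (b q).1)
    have hφ : ∀ G, φ G = (C x₀).value ((C x₀).evAt hy₀ hy₀c) G := fun G => by
      rw [(C x₀).value_eq_sum hi _ b]; exact Module.Basis.constr_apply_fintype ..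
    have hψ : ∀ G, ψ G = (C x).value ((C x).evAt hy hyc) G := fun G => by
      rw [(C x).value_eq_sum hi _ b]; exact Module.Basis.constr_apply_fintype ..
    refine hΨ (eq_zero_of_two_points Ψ φ ψ (fun G hG => htan x₀ hx₀T hy₀ hy₀c hb₀ G ((hφ G).symm.trans hG))
      (fun G hG => htan x hxT hy hyc hb G ((hψ G).symm.trans hG)) (linPow L d) ?_ ?_)
    · rw [hφ, Chart.value, linPow, map_pow, map_pow, show (C x₀).evAt hy₀ hy₀c ((C x₀).pull L.1) = 0 by
        rw [← RingHom.mem_ker, (C x₀).ker_evAt hy₀ hy₀c]; exact ((C x₀).pull_mem_iff L hy₀).2 hL₀,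
        zero_pow (by omega)]
    · rw [hψ, Chart.value, linPow, map_pow, map_pow]
      refine pow_ne_zero d fun h => hL (((C x).pull_mem_iff L hy).1 ?_)
      rw [← (C x).ker_evAt hy hyc, RingHom.mem_ker]
      exact h

omit [CharZero k] in
include hi hsm in
/-- There are two independent forms. -/
theorem exists_notMem_span (hd : 1 ≤ d) (H₀ : LefPen.Form r k d) :
    ∃ G₀ : LefPen.Form r k d, G₀ ∉ Submodule.span k ({H₀} : Set (LefPen.Form r k d)) := by
  haveI := finite_form (k := k) (r := r) d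
  haveI : IsProper (CohB1.ProjSpace.toSpec r k) := PnCoh.Chow.isProper_toSpec r k
  haveI : CompactSpace X := QuasiCompact.compactSpace_of_compactSpace (i ≫ CohB1.ProjSpace.toSpec r k)
  obtain ⟨x, -, hx⟩ := (isClosed_univ (X := X)).exists_closed_singleton Set.univ_nonempty
  obtain ⟨C, hxC, t, ht⟩ := exists_chart' i (n := m + 1) x
  haveI := C.isDomain hxC
  by_contra! hall
  have h1 : Module.finrank k (LefPen.Form r k d) ≤ 1 := by
    refine (finrank_le_one_iff).2 ⟨H₀, fun G => ?_⟩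
    exact Submodule.mem_span_singleton.1 (hall G)
  have h2 := (LinearMap.finrank_le_finrank_of_surjective (f := C.jetAt (d := d) hi (C.evAt hxC hx))
    (C.jetAt_surjective hi hd t ht (C.evAt hxC hx))).trans h1
  simp at h2

omit [X.Over (Spec (CommRingCat.of k))] hsm in
/-- Lefschetz embeddings in characteristic zero. -/
theorem isLefschetzEmb_charZero {n : ℕ} [SmoothOfRelativeDimension n (i ≫ CohB1.ProjSpace.toSpec r k)] (hn : 1 ≤ n)
    (hd : 1 ≤ d) : LefPen.IsLefschetzEmb k n i d := by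
  classical
  letI : X.Over (Spec (CommRingCat.of k)) := ⟨i ≫ CohB1.ProjSpace.toSpec r k⟩
  have hi : X ↘ Spec (CommRingCat.of k) = i ≫ CohB1.ProjSpace.toSpec r k := rfl
  haveI := finite_form (k := k) (r := r) d
  obtain ⟨m, rfl⟩ : ∃ n', n = n' + 1 := ⟨n - 1, by omega⟩
  haveI : SmoothOfRelativeDimension (m + 1) (X ↘ Spec (CommRingCat.of k)) := ‹_›
  let V := LefPen.Form r k d
  obtain ⟨fT, hfT, ⟨H₀, hH₀0⟩, hfTS⟩ := isGeneric_transversal k i (m + 1) hn d hd
  have hH₀ : LefPen.Transversal k (m + 1) 1 (LefPen.secToSpec i ({H₀} : Set V)) := hfTS _ hH₀0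
  have hirr := (S4046.result k r (m + 1) hn i d hd).2
  obtain ⟨G, hG⟩ : ∃ G, LefPen.IsLefschetzPencil k (m + 1) i d H₀ G := by
    suffices hgood : _ from by
      obtain ⟨f, hf, ⟨G, hG⟩, hfS⟩ := isGeneric_pencil_through' (n := m + 1) hn hd H₀
        (exists_notMem_span (m := m) hi hd H₀) hgood hH₀
      exact ⟨G, hfS G hG⟩
    intro M b h hh0 hhX p hp hph
    let Bad : V → Prop := fun H => ¬ LefPen.Transversal k (m + 1) 1 (LefPen.secToSpec i ({H} : Set V))
    by_cases hex : ∃ g : MvPolynomial (Fin M) k, ¬ p ∣ g ∧ ∀ H, Bad H → MvPolynomial.eval (fun l => b.repr H l) g = 0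
    · obtain ⟨g, hg, hgD⟩ := hex
      exact ⟨g, hg, fun H hH => hgD H hH.1⟩
    push Not at hex
    have hall : ∀ g : MvPolynomial (Fin M) k, (∀ H, Bad H → MvPolynomial.eval (fun l => b.repr H l) g = 0) → p ∣ g :=
      fun g hg => by
        by_contra hpg
        obtain ⟨H, hH, h0⟩ := hex g hpg
        exact h0 (hg H hH)
    have hh' : h ≠ 0 := fun hz => hh0 (by rw [hz, map_zero])
    obtain ⟨e, w, hw, rfl⟩ := WfDvdMonoid.max_power_factor hh' hp.irreducible
    have hvan : ∀ H, Bad H → MvPolynomial.eval (fun l => b.repr H l) p = 0 := by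
      rcases hirr _ _ (isPolyFun_eval b (p ^ e)) (isPolyFun_eval b w) (fun H hH => by
        have := hhX H hH
        rwa [map_mul] at this) with h1 | h1
      · exact fun H hH => eq_zero_of_pow_eq_zero (by simpa only [map_pow] using h1 H hH)
      · exact absurd (hall w h1) hw
    obtain ⟨H₁, hH₁⟩ := exists_oneOrdQuad_of_hypersurface hi hd b p hp hvan hall
    obtain ⟨f₁, hf₁, hf₁0, hf₁S⟩ := oneOrdQuad_open hi H₁ hH₁
    obtain ⟨q₁, hq₁⟩ := exists_eval_of_isPolyFun b hf₁
    refine ⟨q₁, fun ⟨v, hv⟩ => hf₁0 ?_, fun H hH => by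
      rw [← hq₁]; exact by_contra fun hne => hH.2 (hf₁S H hH.1 hne)⟩
    rw [hq₁, hv, map_mul, hvan H₁ ?_, zero_mul]
    obtain ⟨y, hy, hord⟩ := hH₁
    intro hT
    let ι' := LefPen.secι i ({H₁} : Set V)
    have hyc : IsClosed ({ι' y} : Set X) := by
      have h := ι'.isClosedEmbedding.isClosedMap _ hord.1
      rwa [Set.image_singleton] at h
    obtain ⟨C, hx, -⟩ := exists_chart' i (n := m + 1) (ι' y)
    haveI := C.isDomain hx
    have hns : ¬ LefPen.SmoothAt (LefPen.secToSpec i ({H₁} : Set V)) y := fun h =>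
      ((Set.ext_iff.1 hy y).1 h : y ∈ ({y}ᶜ : Set _)) rfl
    exact (transversal_iff hi hn H₁).1 hT _ hyc
      ((C.badAt_iff_le H₁ hx hyc).2 (C.badIdeal_le_of_not_smoothAt hi H₁ y hx hns).2)
  obtain ⟨f, hf, hf0, hfS⟩ := isZOpen_pencil (n := m + 1) (d := d) hn (H₀, G) hG
  exact ⟨f, hf, ⟨(H₀, G), hf0⟩, hfS⟩

end Groth.Agent.H9LefPen

end
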