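import Groth.Agent.H9LefPen.CharZero

/-! The tangent hyperplane of the dual hypersurface at a nondegenerate singular member. -/

set_option autoImplicit false
set_option linter.style.haveILetI false
set_option backward.isDefEq.respectTransparency false
set_option backward.isDefEq.respectTransparency.types false
set_option maxHeartbeats 1000000

universe u

open CategoryTheory CategoryTheory.Limits AlgebraicGeometry TopologicalSpace Opposite Matrix
open KaehlerDifferential (D)

noncomputable section

namespace Groth.Agent.H9LefPen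

open Groth.Agent

variable {k : Type u} [Field k] [IsAlgClosed k] {r d n M : ℕ} {X : Scheme.{u}} {i : X ⟶ CohB1.ProjSpace r k}
  [IsClosedImmersion i] [X.Over (Spec (CommRingCat.of k))]
  (hi : X ↘ Spec (CommRingCat.of k) = i ≫ CohB1.ProjSpace.toSpec r k)

/-- The functions of a family on a chart. -/
abbrev Chart.fam (C : Chart i n) (G : Fin M → LefPen.Form r k d) : Fin M → C.B := fun p => C.pull (G p).1

/-- The parameters of the universal singular member over a chart. -/
abbrev Chart.uni (C : Chart i n) [Nontrivial C.B] (G : Fin M → LefPen.Form r k d)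
    (N : Matrix (Fin M) (Option (Fin n)) C.B) : Fin M → MvPolynomial (Fin M) C.B :=
  Char0.univ C.ω (C.fam G) N

/-- Its second derivatives. -/
abbrev Chart.hessUni (C : Chart i n) [Nontrivial C.B] (G : Fin M → LefPen.Form r k d)
    (N : Matrix (Fin M) (Option (Fin n)) C.B) : Matrix (Fin n) (Fin n) (MvPolynomial (Fin M) C.B) :=
  Char0.hessU C.ω (C.fam G) N

omit [IsAlgClosed k] [IsClosedImmersion i] in
theorem Chart.jetMat_eq (C : Chart i n) [Nontrivial C.B] (G : Fin M → LefPen.Form r k d) :
    C.jetMat G = Char0.jetm C.ω (C.fam G) := rfl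

omit [IsAlgClosed k] [IsClosedImmersion i] in
theorem Chart.sub_eq_aeval (C : Chart i n) [Nontrivial C.B] (G : Fin M → LefPen.Form r k d)
    (N : Matrix (Fin M) (Option (Fin n)) C.B) (q : MvPolynomial (Fin M) k) :
    C.sub G N q = MvPolynomial.aeval (C.uni G N) q := by
  refine RingHom.congr_fun (f := C.sub G N) (g := (MvPolynomial.aeval (R := k) (C.uni G N)).toRingHom) (MvPolynomial.ringHom_ext (fun c => ?_) fun l => ?_) q
  · rw [Chart.sub, MvPolynomial.eval₂Hom_C]
    simp [IsScalarTower.algebraMap_apply k C.B (MvPolynomial (Fin M) C.B), MvPolynomial.algebraMap_eq]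
  · rw [Chart.sub, MvPolynomial.eval₂Hom_X']
    exact (MvPolynomial.aeval_X (R := k) (C.uni G N) l).symm

omit [IsAlgClosed k] [IsClosedImmersion i] in
theorem Chart.eval_uni (C : Chart i n) [Nontrivial C.B] (G : Fin M → LefPen.Form r k d)
    (N : Matrix (Fin M) (Option (Fin n)) C.B) (ev : C.B →ₐ[k] k) (c : Fin M → k)
    (hbad : ∀ j, ev (BadAlg.val (C.jetMat G) c j) = 0) (p : Fin M) :
    MvPolynomial.eval₂Hom (ev : C.B →+* k) c (C.uni G N p) = c p := by
  let E := MvPolynomial.eval₂Hom (ev : C.B →+* k) c
  show E (MvPolynomial.X p - (N.map MvPolynomial.C *ᵥ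
    ((C.jetMat G).map MvPolynomial.C *ᵥ (MvPolynomial.X : Fin M → MvPolynomial (Fin M) C.B))) p) = _
  have hMT : ∀ j, E (((C.jetMat G).map MvPolynomial.C *ᵥ (MvPolynomial.X : Fin M → MvPolynomial (Fin M) C.B)) j) = 0 := by
    intro j
    have h1 := hbad j
    simp only [BadAlg.val, mulVec, dotProduct, map_sum, map_mul, AlgHom.commutes, Algebra.algebraMap_self,
      RingHom.id_apply] at h1
    simp only [mulVec, dotProduct, map_sum, map_mul, Matrix.map_apply, E, MvPolynomial.eval₂Hom_C,
      MvPolynomial.eval₂Hom_X']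
    exact h1
  rw [map_sub, RingHom.map_mulVec,
    show E ∘ ((C.jetMat G).map MvPolynomial.C *ᵥ (MvPolynomial.X : Fin M → MvPolynomial (Fin M) C.B)) = 0 from funext hMT,
    mulVec_zero, Pi.zero_apply, sub_zero, MvPolynomial.eval₂Hom_X']

omit [IsAlgClosed k] [IsClosedImmersion i] in
theorem Chart.eval_sub (C : Chart i n) [Nontrivial C.B] (G : Fin M → LefPen.Form r k d)
    (N : Matrix (Fin M) (Option (Fin n)) C.B) (ev : C.B →ₐ[k] k) (c : Fin M → k)
    (hbad : ∀ j, ev (BadAlg.val (C.jetMat G) c j) = 0) (q : MvPolynomial (Fin M) k) :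
    MvPolynomial.eval₂Hom (ev : C.B →+* k) c (C.sub G N q) = MvPolynomial.eval c q := by
  refine RingHom.congr_fun (f := (MvPolynomial.eval₂Hom (ev : C.B →+* k) c).comp (C.sub G N))
    (MvPolynomial.ringHom_ext (fun a => ?_) fun l => ?_) q
  · rw [RingHom.comp_apply, Chart.sub, MvPolynomial.eval₂Hom_C, RingHom.comp_apply, MvPolynomial.eval₂Hom_C,
      MvPolynomial.eval_C]
    exact ev.commutes a
  · rw [RingHom.comp_apply, C.sub_eq_aeval, MvPolynomial.aeval_X, C.eval_uni G N ev c hbad, MvPolynomial.eval_X]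

include hi in
theorem Chart.eval_hessUni (C : Chart i n) [Nontrivial C.B] (G : Fin M → LefPen.Form r k d)
    (N : Matrix (Fin M) (Option (Fin n)) C.B) (ev : C.B →ₐ[k] k) (c : Fin M → k)
    (hbad : ∀ j, ev (BadAlg.val (C.jetMat G) c j) = 0) (a l : Fin n) :
    MvPolynomial.eval₂Hom (ev : C.B →+* k) c (C.hessUni G N a l) =
      ev (C.ω.coord l (D k C.B (C.ω.coord a (D k C.B (C.pull (∑ p, c p • G p : LefPen.Form r k d).1))))) := by
  have h := congrFun (C.mulVec_const hi G c) (some a)
  simp only [Option.elim_some] at h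
  rw [← h]
  simp only [Chart.hessUni, Char0.hessU, map_sum, map_mul, mulVec, dotProduct, MvPolynomial.eval₂Hom_C,
    Derivation.leibniz, Derivation.map_algebraMap, smul_zero, map_add, map_zero, map_smul, smul_eq_mul, mul_zero,
    zero_add, ev.commutes, Algebra.algebraMap_self, RingHom.id_apply]
  exact Finset.sum_congr rfl fun p _ => by rw [C.eval_uni G N ev c hbad]; rfl

include hi in
/-- At an ordinary or degenerate point the second derivatives are the polar form. -/
theorem Chart.eval_hessUni_eq (C : Chart i n) [Nontrivial C.B] (G : Fin M → LefPen.Form r k d)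
    (N : Matrix (Fin M) (Option (Fin n)) C.B) (ev : C.B →ₐ[k] k) (c : Fin M → k)
    (hbad : ∀ j, ev (BadAlg.val (C.jetMat G) c j) = 0) :
    (MvPolynomial.eval₂Hom (ev : C.B →+* k) c).mapMatrix (C.hessUni G N) =
      VanCyc.polarMatrix (C.hess ev (∑ p, c p • G p)) := by
  classical
  haveI := Hess.isMaximal_ker ev
  obtain ⟨σ, h0, h1⟩ := Hess.exists_coords C.ω ev
  let h := C.pull (∑ p, c p • G p : LefPen.Form r k d).1
  have hh : h ∈ RingHom.ker ev ^ 2 := by
    refine mem_sq_of_functional_mem _ C.ω ?_ fun l => ?_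
    · have := hbad none
      rwa [BadAlg.val, C.mulVec_const hi] at this
    · have := hbad (some l)
      rwa [BadAlg.val, C.mulVec_const hi] at this
  obtain ⟨t, ht⟩ := Hess.exists_table C.ω ev h0 h1 hh
  have e : VanCyc.polarMatrix (C.hess ev (∑ p, c p • G p)) = VanCyc.polarMatrix t :=
    PSQuad.polarMatrix_congr fun a b hab => Hess.tab_eq C.ω ev h0 h1 t ht hab
  rw [e]
  refine Matrix.ext fun a l => ?_
  rw [RingHom.mapMatrix_apply, Matrix.map_apply, C.eval_hessUni hi G N ev c hbad]
  have h2 := functional_mem_of_mem_sq _ (Hess.coord_D_eq C.ω ev h0 h1 t ht a) (C.ω.coord l)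
  rw [RingHom.mem_ker, map_sub, map_sum, map_sub, map_sum, map_sub, map_sum, _root_.sub_eq_zero] at h2
  refine h2.trans ?_
  simp [Derivation.leibniz, h1, h0, -Module.Basis.coord_apply]

include hi in
/-- The tangent hyperplane of the hypersurface `p = 0` at a nondegenerate singular member. -/
theorem Chart.tangent (C : Chart i n) [Nontrivial C.B] (G : Fin M → LefPen.Form r k d)
    (N : Matrix (Fin M) (Option (Fin n)) C.B) (hN : C.jetMat G * N = 1) (p : MvPolynomial (Fin M) k)
    (hp : C.sub G N p = 0) (ev : C.B →ₐ[k] k) (c : Fin M → k) (hbad : ∀ j, ev (BadAlg.val (C.jetMat G) c j) = 0)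
    (hdet : MvPolynomial.eval₂Hom (ev : C.B →+* k) c (C.hessUni G N).det ≠ 0) (L : Fin M → k)
    (hL : ∑ q, L q * ev (C.pull (G q).1) = 0) :
    ∑ q, L q * MvPolynomial.eval c (MvPolynomial.pderiv q p) = 0 := by
  classical
  let E := MvPolynomial.eval₂Hom (ev : C.B →+* k) c
  let Fm : Option (Fin n) → Fin M → k := fun j q => ev (C.jetMat G j q)
  let ψ := fun q => MvPolynomial.eval c (MvPolynomial.pderiv q p)
  -- constant sections of the bundle
  let u : Fin M → C.B := fun q => BadAlg.spec c (C.uni G N q)
  have hspec : ∀ P, ev (BadAlg.spec c P) = E P := by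
    intro P
    induction P using MvPolynomial.induction_on with
    | C a => simp [BadAlg.spec, E]
    | add a b ha hb => rw [map_add, map_add, map_add, ha, hb]
    | mul_X a l ha => rw [map_mul, map_mul, map_mul, ha]; simp [BadAlg.spec, E]
  have hu : ∀ q, ev (u q) = c q := fun q => (hspec _).trans (C.eval_uni G N ev c hbad q)
  have hMu : ∀ j, ∑ q, C.jetMat G j q * u q = 0 := fun j => by
    have h := congrArg (BadAlg.spec c) (congrFun (Char0.jetm_univ C.ω (C.fam G) N hN) j)
    simp only [mulVec, dotProduct, map_sum, map_mul, Matrix.map_apply, Pi.zero_apply, map_zero, BadAlg.spec,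
      MvPolynomial.aeval_C, Algebra.algebraMap_self, RingHom.id_apply] at h
    exact h
  have hpu : MvPolynomial.aeval u p = 0 := by
    have h := congrArg (BadAlg.spec c) ((C.sub_eq_aeval G N p).symm.trans hp)
    rwa [map_zero, show BadAlg.spec c (MvPolynomial.aeval (C.uni G N) p) = MvPolynomial.aeval u p from
      Char0.aeval_map_hom ((BadAlg.spec c).restrictScalars k) (C.uni G N) p] at h
  let U : Fin n → Fin M → k := fun l q => ev (C.ω.coord l (D k C.B (u q)))
  have hψU : ∀ l, ∑ q, ψ q * U l q = 0 := fun l => by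
    have h := congrArg (fun w => ev (C.ω.coord l w)) (congrArg (D k C.B) hpu)
    simp only [map_zero, derivation_aeval, map_sum, map_smul, smul_eq_mul, map_mul] at h
    rw [← h]
    refine Finset.sum_congr rfl fun q _ => ?_
    rw [Char0.aeval_map_hom ev, show (fun x => ev (u x)) = c from funext hu, MvPolynomial.aeval_eq_eval]
  have hrow : ∀ j l, ∑ q, Fm j q * U l q + ∑ q, c q * ev (C.ω.coord l (D k C.B (C.jetMat G j q))) = 0 := fun j l => by
    have h := congrArg (fun w => ev (C.ω.coord l w)) (congrArg (D k C.B) (hMu j))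
    simp only [map_zero, map_sum, Derivation.leibniz, map_add, map_smul, smul_eq_mul, map_mul, hu,
      Finset.sum_add_distrib] at h
    exact h
  have hFc : ∀ j, ∑ q, c q * Fm j q = 0 := fun j => by
    have h1 := hbad j
    simp only [BadAlg.val, mulVec, dotProduct, map_sum, map_mul, AlgHom.commutes, Algebra.algebraMap_self,
      RingHom.id_apply] at h1
    rw [← h1]
    exact Finset.sum_congr rfl fun q _ => mul_comm _ _
  have hnone : ∀ l, ∑ q, Fm none q * U l q = 0 := fun l => by
    have h := hrow none l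
    rwa [show ∑ q, c q * ev (C.ω.coord l (D k C.B (C.jetMat G none q))) = 0 from hFc (some l), add_zero] at h
  let A : Matrix (Fin n) (Fin n) k := E.mapMatrix (C.hessUni G N)
  have hsome : ∀ a l, ∑ q, Fm (some a) q * U l q = -A a l := fun a l => by
    rw [eq_neg_iff_add_eq_zero, ← hrow (some a) l]
    refine congrArg _ ?_
    simp only [A, RingHom.mapMatrix_apply, Matrix.map_apply, Chart.hessUni, Char0.hessU, map_sum, map_mul, E,
      MvPolynomial.eval₂Hom_C]
    exact Finset.sum_congr rfl fun q _ => by rw [C.eval_uni G N ev c hbad]; rfl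
  have hA : IsUnit A.det := isUnit_iff_ne_zero.2 (by rwa [← RingHom.map_det])
  let b : Fin n → k := fun a => ∑ q, Fm (some a) q * L q
  let al : Fin n → k := A⁻¹ *ᵥ b
  have hal : A *ᵥ al = b := by rw [mulVec_mulVec, Matrix.mul_nonsing_inv _ hA, one_mulVec]
  let L' : Fin M → k := fun q => L q + ∑ l, al l * U l q
  have hker : ∀ j, ∑ q, Fm j q * L' q = 0 := by
    intro j
    have e : ∑ q, Fm j q * L' q = ∑ q, Fm j q * L q + ∑ l, al l * ∑ q, Fm j q * U l q := by
      simp only [L', mul_add, Finset.mul_sum, Finset.sum_add_distrib]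
      rw [Finset.sum_comm]
      exact congrArg _ (Finset.sum_congr rfl fun l _ => Finset.sum_congr rfl fun q _ => by ring)
    rw [e]
    rcases j with _ | a
    · rw [Finset.sum_eq_zero (s := (Finset.univ : Finset (Fin n))) (fun l _ => by rw [hnone l, mul_zero]), add_zero, ← hL]
      exact Finset.sum_congr rfl fun q _ => mul_comm _ _
    · simp only [hsome, mul_neg, Finset.sum_neg_distrib]
      rw [← sub_eq_add_neg, _root_.sub_eq_zero]
      refine Eq.trans ?_ (Finset.sum_congr rfl fun l _ => mul_comm _ _)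
      exact (congrFun hal a).symm
  -- directions along the fibre
  have hfib : ∑ q, ψ q * L' q = 0 := by
    have hd : ∀ q, E (MvPolynomial.pderiv q (MvPolynomial.aeval (C.uni G N) p)) =
        ∑ q', ψ q' * E (MvPolynomial.pderiv q (C.uni G N q')) := by
      intro q
      have h := derivation_aeval ((MvPolynomial.pderiv (R := C.B) q).restrictScalars k) (C.uni G N) p
      simp only [Derivation.restrictScalars_apply] at h
      rw [h, map_sum]
      refine Finset.sum_congr rfl fun q' _ => ?_
      rw [smul_eq_mul, map_mul, ← C.sub_eq_aeval, C.eval_sub G N ev c hbad]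
    have hpd : ∀ q q', E (MvPolynomial.pderiv q (C.uni G N q')) =
        (if q' = q then 1 else 0) - ∑ j, ev (N q' j) * Fm j q := by
      intro q q'
      simp only [Chart.uni, Char0.univ, map_sub, MvPolynomial.pderiv_X, mulVec, dotProduct, map_sum,
        MvPolynomial.pderiv_mul, Matrix.map_apply, MvPolynomial.pderiv_C, zero_mul, zero_add, map_mul, E,
        MvPolynomial.eval₂Hom_C]
      rw [Pi.single_apply, apply_ite (MvPolynomial.eval₂Hom (ev : C.B →+* k) c), map_one, map_zero]
      congr 1
      refine Finset.sum_congr rfl fun j _ => congrArg _ ?_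
      rw [Finset.sum_eq_single q (fun x _ hx => by simp [Pi.single_eq_of_ne hx]) (fun hh => absurd (Finset.mem_univ _) hh)]
      simp [Pi.single_eq_same, Fm, Chart.jetMat_eq]
    have h0 : ∑ q, L' q * E (MvPolynomial.pderiv q (MvPolynomial.aeval (C.uni G N) p)) = 0 :=
      Finset.sum_eq_zero fun q _ => by rw [← C.sub_eq_aeval, hp, map_zero, map_zero, mul_zero]
    rw [← h0]
    simp only [hd, hpd, Finset.mul_sum]
    rw [Finset.sum_comm]
    refine Finset.sum_congr rfl fun q' _ => ?_
    have e1 : ∀ q, L' q * (ψ q' * ((if q' = q then 1 else 0) - ∑ j, ev (N q' j) * Fm j q)) =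
        (if q' = q then ψ q' * L' q' else 0) - ψ q' * (∑ j, ev (N q' j) * Fm j q) * L' q := fun q => by
      by_cases hq : q' = q
      · subst hq; simp; ring
      · simp [hq]; ring
    simp only [e1, Finset.sum_sub_distrib, Finset.sum_ite_eq, Finset.mem_univ, if_true]
    have e2 : ∑ q, ψ q' * (∑ j, ev (N q' j) * Fm j q) * L' q = ψ q' * ∑ j, ev (N q' j) * ∑ q, Fm j q * L' q := by
      simp only [Finset.mul_sum, Finset.sum_mul]
      rw [Finset.sum_comm]
      exact Finset.sum_congr rfl fun j _ => Finset.sum_congr rfl fun q _ => by ring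
    rw [e2, Finset.sum_eq_zero (fun j _ => by rw [hker j, mul_zero]), mul_zero, sub_zero]
  have e : ∑ q, ψ q * L' q = ∑ q, ψ q * L q + ∑ l, al l * ∑ q, ψ q * U l q := by
    simp only [L', mul_add, Finset.mul_sum, Finset.sum_add_distrib]
    rw [Finset.sum_comm]
    exact congrArg _ (Finset.sum_congr rfl fun l _ => Finset.sum_congr rfl fun q _ => by ring)
  rw [e, Finset.sum_eq_zero (s := (Finset.univ : Finset (Fin n))) (fun l _ => by rw [hψU l, mul_zero]), add_zero] at hfib
  rw [← hfib]
  exact Finset.sum_congr rfl fun q _ => mul_comm _ _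

end Groth.Agent.H9LefPen

end
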