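import Groth.Agent.H9LefPen.BadPt

/-! Transversality of a hypersurface section read on charts. -/

set_option autoImplicit false
set_option linter.style.haveILetI false
set_option backward.isDefEq.respectTransparency false
set_option backward.isDefEq.respectTransparency.types false
set_option maxHeartbeats 1000000

universe u

open CategoryTheory CategoryTheory.Limits AlgebraicGeometry TopologicalSpace Opposite
open KaehlerDifferential (D)
open IsLocalRing (maximalIdeal)

noncomputable section

namespace Groth.Agent.H9LefPen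

open Groth.Agent

variable {k : Type u} [Field k] {r : ℕ} {X : Scheme.{u}} (i : X ⟶ CohB1.ProjSpace r k)

/-- An affine chart inside the inverse image of a standard chart, with its smooth structure. -/
structure Chart (n : ℕ) [X.Over (Spec (CommRingCat.of k))] where
  j : Fin (r + 1)
  U : X.affineOpens
  le : U.1 ≤ i ⁻¹ᵁ LefPen.chart r k j
  smooth : RingHom.IsStandardSmoothOfRelativeDimension n (BertiniSec.cst k U.1)

variable {i} {n : ℕ} [X.Over (Spec (CommRingCat.of k))]

/-- The functions on the chart. -/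
abbrev Chart.B (C : Chart i n) : Type u := Γ(X, C.U.1)

instance (C : Chart i n) : Algebra k C.B := (BertiniSec.cst k C.U.1).toAlgebra

instance (C : Chart i n) : Algebra.IsStandardSmoothOfRelativeDimension n k C.B :=
  (RingHom.isStandardSmoothOfRelativeDimension_algebraMap _).1 C.smooth

instance (C : Chart i n) : Algebra.IsStandardSmooth k C.B :=
  Algebra.IsStandardSmoothOfRelativeDimension.isStandardSmooth n

/-- The restriction of polynomials to a chart. -/
def Chart.pull (C : Chart i n) : MvPolynomial (Fin (r + 1)) k →+* C.B :=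
  ((i.appLE (LefPen.chart r k C.j) C.U.1 C.le).hom.comp
    (Proj.awayToSection (CohB1.polyGrading r k) (MvPolynomial.X C.j)).hom).comp (ZetaLib.dehom r k C.j)

theorem Chart.pull_C (hi : X ↘ Spec (CommRingCat.of k) = i ≫ CohB1.ProjSpace.toSpec r k) (C : Chart i n) (c : k) :
    C.pull (MvPolynomial.C c) = algebraMap k C.B c := by
  show (i.appLE _ _ C.le).hom ((Proj.awayToSection _ _).hom (ZetaLib.dehom r k C.j (MvPolynomial.C c))) = _
  rw [ZetaLib.dehom, MvPolynomial.eval₂Hom_C, ← CurveVA.toSpec_appLE_chart r k C.j c,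
    ← CommRingCat.comp_apply, Scheme.Hom.appLE_comp_appLE]
  show _ = BertiniSec.cst k C.U.1 c
  rw [BertiniSec.cst, hi]
  rfl

theorem Chart.pull_X_self (C : Chart i n) : C.pull (MvPolynomial.X C.j) = 1 := by
  show (i.appLE _ _ C.le).hom ((Proj.awayToSection _ _).hom (ZetaLib.dehom r k C.j (MvPolynomial.X C.j))) = _
  rw [ZetaLib.dehom, MvPolynomial.eval₂Hom_X']
  have : ZetaLib.coord r k C.j C.j = 1 := HomogeneousLocalization.val_injective _ (by
    rw [ZetaLib.coord, HomogeneousLocalization.Away.val_mk, HomogeneousLocalization.val_one, ← Localization.mk_one,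
      Localization.mk_eq_mk_iff, Localization.r_iff_exists]
    exact ⟨1, by simp⟩)
  rw [this, map_one, map_one]

theorem Chart.pull_form {d : ℕ} (C : Chart i n) (G : LefPen.Form r k d) :
    C.pull G.1 = (i.appLE (LefPen.chart r k C.j) C.U.1 C.le).hom (LefPen.dehom G C.j) := by
  rw [HypCurve.dehom_eq]; rfl

theorem Chart.ideal_sec {d : ℕ} (C : Chart i n) (H : LefPen.Form r k d) :
    (LefPen.secIdeal i {H}).ideal C.U = Ideal.span {C.pull H.1} := by
  rw [LefPen.secIdeal, iSup_singleton, ModPairLib.ideal_comap _ i (HypCurve.achart r k C.j) C.U C.le,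
    HypCurve.hypIdeal_chart, Ideal.map_span, Set.image_singleton, C.pull_form]
  rfl

/-- The functions on a point of a chart detect the forms vanishing there. -/
theorem Chart.pull_mem_iff {d : ℕ} (C : Chart i n) (G : LefPen.Form r k d) {x : X} (hx : x ∈ C.U.1) :
    C.pull G.1 ∈ (C.U.2.primeIdealOf ⟨x, hx⟩).asIdeal ↔ G.1 ∈ (i x).asHomogeneousIdeal.toIdeal := by
  have h1 := WCI.mem_basicOpen_dehom G C.j (i x) (C.le hx)
  rw [← not_iff_not, ← h1, ← QCoh.mem_basicOpen_iff_notMem C.U.2 hx, C.pull_form, Scheme.basicOpen_appLE]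
  exact ⟨fun h => h.2, fun h => ⟨hx, h⟩⟩

variable [IsAlgClosed k]

theorem exists_closed_of_prime {U : X.affineOpens} [JacobsonSpace X] {q : Ideal Γ(X, U.1)} (hq : q.IsMaximal) :
    ∃ (x : X) (hx : x ∈ U.1), IsClosed ({x} : Set X) ∧ (U.2.primeIdealOf ⟨x, hx⟩).asIdeal = q := by
  let Q : PrimeSpectrum Γ(X, U.1) := ⟨q, hq.isPrime⟩
  let x : X := U.2.fromSpec Q
  have hxU : x ∈ U.1 := U.2.range_fromSpec.le ⟨Q, rfl⟩
  refine ⟨x, hxU, ?_, ?_⟩
  · refine isClosed_singleton_of_isLocallyClosed_singleton ?_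
    have hc : IsClosed ({Q} : Set (PrimeSpectrum Γ(X, U.1))) :=
      (PrimeSpectrum.isClosed_singleton_iff_isMaximal Q).2 hq
    have := hc.isLocallyClosed.image U.2.fromSpec.isOpenEmbedding.isInducing
      U.2.fromSpec.isOpenEmbedding.isOpen_range.isLocallyClosed
    rwa [Set.image_singleton] at this
  · rw [U.2.fromSpec.isOpenEmbedding.injective ((U.2.fromSpec_primeIdealOf ⟨x, hxU⟩).trans rfl)]

theorem isMaximal_of_closed {U : X.affineOpens} {x : X} (hx : x ∈ U.1) (hc : IsClosed ({x} : Set X)) :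
    (U.2.primeIdealOf ⟨x, hx⟩).asIdeal.IsMaximal := by
  rw [← PrimeSpectrum.isClosed_singleton_iff_isMaximal]
  have h := hc.preimage U.2.fromSpec.continuous
  have e : U.2.fromSpec ⁻¹' {x} = {U.2.primeIdealOf ⟨x, hx⟩} := Set.ext fun q => by
    rw [Set.mem_preimage, Set.mem_singleton_iff, Set.mem_singleton_iff]
    exact ⟨fun h => U.2.fromSpec.isOpenEmbedding.injective (h.trans (U.2.fromSpec_primeIdealOf ⟨x, hx⟩).symm),
      fun h => h ▸ U.2.fromSpec_primeIdealOf ⟨x, hx⟩⟩
  rwa [e] at h

theorem Chart.badAt_iff {d : ℕ} (C : Chart i n) (H : LefPen.Form r k d) {x : X} (hx : x ∈ C.U.1)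
    (hc : IsClosed ({x} : Set X)) :
    BadAt i H x ↔ C.pull H.1 ∈ (C.U.2.primeIdealOf ⟨x, hx⟩).asIdeal ^ 2 :=
  (H9LefPen.badAt_iff i hx _ (C.ideal_sec H)).trans
    (germ_mem_sq_iff C.U.2 hx (isMaximal_of_closed hx hc) _)

variable (i) in
theorem exists_chart' [IsAffineHom i] [SmoothOfRelativeDimension n (X ↘ Spec (CommRingCat.of k))] (x : X) :
    ∃ C : Chart i n, x ∈ C.U.1 ∧ ∃ t : Γ(X, i ⁻¹ᵁ LefPen.chart r k C.j), X.basicOpen t = C.U.1 := by
  obtain ⟨j, U, hx, ⟨t, ht⟩, hs⟩ := exists_chart k i n x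
  exact ⟨⟨j, U, ht ▸ X.basicOpen_le t, hs⟩, hx, t, ht⟩

/-- A section is transversal exactly when it has no point of second order. -/
theorem transversal_iff [IsClosedImmersion i] [SmoothOfRelativeDimension n (i ≫ CohB1.ProjSpace.toSpec r k)]
    (hi : X ↘ Spec (CommRingCat.of k) = i ≫ CohB1.ProjSpace.toSpec r k) (hn : 1 ≤ n) {d : ℕ} (H : LefPen.Form r k d) :
    LefPen.Transversal k n 1 (LefPen.secToSpec i ({H} : Set (LefPen.Form r k d))) ↔
      ∀ x : X, IsClosed ({x} : Set X) → ¬ BadAt i H x := by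
  haveI : SmoothOfRelativeDimension n (X ↘ Spec (CommRingCat.of k)) := hi ▸ ‹_›
  haveI : IsProper (CohB1.ProjSpace.toSpec r k) := PnCoh.Chow.isProper_toSpec r k
  haveI : JacobsonSpace X := LocallyOfFiniteType.jacobsonSpace (i ≫ CohB1.ProjSpace.toSpec r k)
  let I := LefPen.secIdeal i ({H} : Set (LefPen.Form r k d))
  have hrw : ∀ (U : X.affineOpens), I.subschemeCover.f U ≫ I.subschemeι ≫ i ≫ CohB1.ProjSpace.toSpec r k =
      Spec.map (CommRingCat.ofHom ((Ideal.Quotient.mk (I.ideal U)).comp (BertiniSec.cst k U.1))) := fun U => by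
    rw [← hi, reassoc_of% (I.subschemeCover_map_subschemeι U), reassoc_of% (I.glueDataObjι_ι U),
      BertiniSec.fromSpec_comp U.1 U.2, ← Spec.map_comp]
    rfl
  constructor
  · rintro (⟨-, hsm⟩ | ⟨h, -⟩)
    swap
    · omega
    intro x hxc hbad
    obtain ⟨C, hxC, -⟩ := exists_chart' i (n := n) x
    haveI := isMaximal_of_closed hxC hxc
    refine not_locally_quotient (k := k) (B := C.B) n hn _ ((C.badAt_iff H hxC hxc).1 hbad) ?_
    haveI := hsm
    have h1 : SmoothOfRelativeDimension (0 + (n - 1)) (I.subschemeCover.f C.U ≫ LefPen.secToSpec i {H}) :=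
      inferInstance
    rw [zero_add] at h1
    change SmoothOfRelativeDimension (n - 1) (I.subschemeCover.f C.U ≫ I.subschemeι ≫ i ≫ _) at h1
    rw [hrw, HasRingHomProperty.Spec_iff (P := @SmoothOfRelativeDimension (n - 1)), C.ideal_sec] at h1
    exact h1
  · intro hgood
    refine Or.inl ⟨hn, ?_⟩
    choose C hC _ using fun x : X => exists_chart' i (n := n) x
    let 𝒰 : I.subscheme.OpenCover :=
      Scheme.Cover.mkOfCovers X (fun p => Spec (CommRingCat.of (Γ(X, (C p).U.1) ⧸ I.ideal (C p).U)))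
        (fun p => I.subschemeCover.f (C p).U)
        (fun y => by
          have : y ∈ (I.subschemeCover.f (C (I.subschemeι y)).U).opensRange := by
            rw [Scheme.IdealSheafData.opensRange_subschemeCover_map]; exact hC _
          obtain ⟨z, hz⟩ := this
          exact ⟨_, z, hz⟩)
        (fun p => by infer_instance)
    refine IsZariskiLocalAtSource.of_openCover (P := @SmoothOfRelativeDimension (n - 1)) 𝒰 fun p => ?_
    show SmoothOfRelativeDimension (n - 1) (I.subschemeCover.f (C p).U ≫ I.subschemeι ≫ i ≫ _)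
    rw [hrw, HasRingHomProperty.Spec_iff (P := @SmoothOfRelativeDimension (n - 1)), (C p).ideal_sec]
    refine locally_quotient (B := (C p).B) n _ fun v hv hmem => ?_
    obtain ⟨q, hq, hvq⟩ := Ideal.exists_le_maximal v hv.ne_top
    haveI := hq
    haveI : Nontrivial (C p).B := (Ideal.Quotient.mk q).domain_nontrivial
    by_contra! hall
    obtain ⟨x, hx, hxc, hxq⟩ := exists_closed_of_prime hq
    refine hgood x hxc (((C p).badAt_iff H hx hxc).2 ?_)
    rw [hxq]
    let b : Module.Basis (Fin n) (C p).B Ω[(C p).B⁄k] := Module.finBasisOfFinrankEq (C p).B _ (BertiniAff.finrank_kaehler n)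
    exact mem_sq_of_functional_mem q b (hvq hmem) fun l => hvq (hall (b.coord l))

end Groth.Agent.H9LefPen

end
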