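import Mathlib.RingTheory.Nakayama
import Mathlib.RingTheory.IntegralClosure.IsIntegralClosure.Basic
import Mathlib.RingTheory.Jacobson.Ring
import Mathlib.RingTheory.Nullstellensatz
import Mathlib.LinearAlgebra.Matrix.Charpoly.Basic
import Mathlib.LinearAlgebra.Matrix.ToLinearEquiv
import Mathlib.FieldTheory.IsAlgClosed.Basic
import Mathlib.RingTheory.LocalRing.Basic

/-! Algebras finite away from the zeros of a function. -/

set_option autoImplicit false
set_option linter.style.haveILetI false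

universe u

noncomputable section

namespace Groth.Agent.H9LefPen.GenFin

variable {R A : Type u} [CommRing R] [CommRing A] [Algebra R A]

theorem exists_finset_span (g : R) {ι : Type*} [Finite ι] (u : ι → A) (htop : Algebra.adjoin R (Set.range u) = ⊤)
    (hint : ∀ i, IsIntegral R (g • u i)) :
    ∃ G : Finset A, ∀ a, ∃ N : ℕ, g ^ N • a ∈ Submodule.span R (G : Set A) := by
  classical
  let S := Algebra.adjoin R (Set.range fun i => g • u i)
  obtain ⟨G, hG⟩ : S.toSubmodule.FG := fg_adjoin_of_finite (Set.finite_range _) (by rintro _ ⟨i, rfl⟩; exact hint i)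
  refine ⟨G, fun a => ?_⟩
  rw [hG]
  have ha : a ∈ Algebra.adjoin R (Set.range u) := htop ▸ trivial
  induction ha using Algebra.adjoin_induction with
  | mem x hx =>
    obtain ⟨i, rfl⟩ := hx
    exact ⟨1, by rw [pow_one]; exact Algebra.subset_adjoin ⟨i, rfl⟩⟩
  | algebraMap r => exact ⟨0, by rw [pow_zero, one_smul]; exact S.algebraMap_mem r⟩
  | add x y _ _ hx hy =>
    obtain ⟨M, hM⟩ := hx
    obtain ⟨N, hN⟩ := hy
    refine ⟨M + N, ?_⟩
    rw [smul_add]
    exact add_mem (by rw [pow_add, mul_comm, mul_smul]; exact Submodule.smul_mem _ _ hM)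
      (by rw [pow_add, mul_smul]; exact Submodule.smul_mem _ _ hN)
  | mul x y _ _ hx hy =>
    obtain ⟨M, hM⟩ := hx
    obtain ⟨N, hN⟩ := hy
    refine ⟨M + N, ?_⟩
    rw [pow_add, ← smul_mul_smul_comm]
    exact S.mul_mem hM hN

theorem exists_spanning (m₀ : Ideal R) [m₀.IsMaximal] (g : R) (hg : g ∉ m₀) {G : Finset A}
    (hG : ∀ a, ∃ N : ℕ, g ^ N • a ∈ Submodule.span R (G : Set A)) (e : Finset A)
    (he : ∀ a, a ∈ Submodule.span R (e : Set A) ⊔ m₀ • (⊤ : Submodule R A)) :
    ∃ r, r ∉ m₀ ∧ ∀ a, ∃ N : ℕ, (g * r) ^ N • a ∈ Submodule.span R (e : Set A) := by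
  classical
  let E := Submodule.span R (e : Set A)
  let M := Submodule.span R (G : Set A)
  let M' := M.map E.mkQ
  let gens : Set A := (G : Set A)
  -- a power of g carries M into E plus m₀ M
  have h1 : ∀ x ∈ m₀ • (⊤ : Submodule R A), ∃ N : ℕ, g ^ N • x ∈ m₀ • M := by
    intro x hx
    refine Submodule.smul_induction_on hx (fun r hr a _ => ?_) fun x y hx hy => ?_
    · obtain ⟨N, hN⟩ := hG a
      exact ⟨N, by rw [smul_comm]; exact Submodule.smul_mem_smul hr hN⟩
    · obtain ⟨P, hP⟩ := hx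
      obtain ⟨Q, hQ⟩ := hy
      refine ⟨P + Q, ?_⟩
      rw [smul_add]
      exact add_mem (by rw [pow_add, mul_comm, mul_smul]; exact Submodule.smul_mem _ _ hP)
        (by rw [pow_add, mul_smul]; exact Submodule.smul_mem _ _ hQ)
  choose N hN using fun γ : (G : Set A) => show ∃ N : ℕ, g ^ N • E.mkQ γ.1 ∈ m₀ • M' by
    obtain ⟨y, hy, z, hz, hyz⟩ := Submodule.mem_sup.1 (he γ.1)
    obtain ⟨N, hN⟩ := h1 z hz
    refine ⟨N, ?_⟩
    rw [← hyz, map_add, Submodule.mkQ_apply, (Submodule.Quotient.mk_eq_zero E).2 hy, zero_add, ← map_smul]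
    have := Submodule.mem_map_of_mem (f := E.mkQ) hN
    rwa [Submodule.map_smul''] at this
  haveI : Fintype (G : Set A) := G.finite_toSet.fintype
  let L := Finset.univ.sup N
  obtain ⟨t, ht⟩ : ∃ t, t * g ^ L - 1 ∈ m₀ := by
    obtain ⟨y, c, hc, hy⟩ := Ideal.IsMaximal.exists_inv ‹_› (fun h => hg (Ideal.IsPrime.mem_of_pow_mem inferInstance _ h) : g ^ L ∉ m₀)
    exact ⟨y, by rw [show y * g ^ L - 1 = -c by linear_combination hy]; exact neg_mem hc⟩
  have hM : M' ≤ m₀ • M' := by
    rintro _ ⟨x, hx, rfl⟩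
    induction hx using Submodule.span_induction with
    | mem γ hγ =>
      rw [show E.mkQ γ = t • (g ^ (L - N ⟨γ, hγ⟩) • (g ^ N ⟨γ, hγ⟩ • E.mkQ γ)) - (t * g ^ L - 1) • E.mkQ γ by
        rw [smul_smul, smul_smul, ← sub_smul, mul_assoc, ← pow_add,
          Nat.sub_add_cancel (Finset.le_sup (Finset.mem_univ _)), sub_sub_cancel, one_smul]]
      exact sub_mem (Submodule.smul_mem _ _ (Submodule.smul_mem _ _ (hN _)))
        (Submodule.smul_mem_smul ht (Submodule.mem_map_of_mem (Submodule.subset_span hγ)))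
    | zero => rw [map_zero]; exact zero_mem _
    | add x y _ _ hx hy => rw [map_add]; exact add_mem hx hy
    | smul c x _ hx => rw [map_smul]; exact Submodule.smul_mem _ _ hx
  obtain ⟨r, hr, hr0⟩ := Submodule.exists_sub_one_mem_and_smul_eq_zero_of_fg_of_le_smul m₀ M'
    ((Submodule.fg_span G.finite_toSet).map _) hM
  refine ⟨r, fun h => (inferInstance : m₀.IsMaximal).ne_top ((Ideal.eq_top_iff_one _).2 (by simpa using sub_mem h hr)),
    fun a => ?_⟩
  obtain ⟨P, hP⟩ := hG a
  refine ⟨P + 1, ?_⟩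
  have h2 : E.mkQ (r • (g ^ P • a)) = 0 := by
    rw [map_smul]; exact hr0 _ (Submodule.mem_map_of_mem hP)
  rw [Submodule.mkQ_apply, Submodule.Quotient.mk_eq_zero] at h2
  rw [show (g * r) ^ (P + 1) = g * r ^ P * (r * g ^ P) by ring, mul_smul, mul_smul r]
  exact Submodule.smul_mem _ _ h2

end Groth.Agent.H9LefPen.GenFin

namespace Groth.Agent.H9LefPen.GenFin

variable {k : Type u} [Field k] [IsAlgClosed k] {A : Type u} [CommRing A] [Algebra k A] [Algebra.FiniteType k A]

/-- A function vanishing at all rational points is nilpotent. -/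
theorem isNilpotent_of_forall_eval (a : A) (h : ∀ ev : A →ₐ[k] k, ev a = 0) : IsNilpotent a := by
  haveI : IsJacobsonRing A := isJacobsonRing_of_finiteType (A := k)
  have hj : (⊥ : Ideal A).radical.jacobson = (⊥ : Ideal A).radical :=
    IsJacobsonRing.out inferInstance (⊥ : Ideal A).radical_isRadical
  suffices a ∈ (⊥ : Ideal A).radical by
    obtain ⟨n, hn⟩ := this
    exact ⟨n, hn⟩
  rw [← hj, Ideal.jacobson, Submodule.mem_sInf]
  rintro P ⟨-, hP⟩
  haveI := hP
  letI : Field (A ⧸ P) := Ideal.Quotient.field P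
  haveI : Module.Finite k (A ⧸ P) := finite_of_finite_type_of_isJacobsonRing k _
  haveI : Algebra.IsIntegral k (A ⧸ P) := Algebra.IsIntegral.of_finite k _
  let e : (A ⧸ P) ≃ₐ[k] k := (AlgEquiv.ofBijective (Algebra.ofId k (A ⧸ P))
    (IsAlgClosed.algebraMap_bijective_of_isIntegral (k := k) (K := A ⧸ P))).symm
  have := h (e.toAlgHom.comp (Ideal.Quotient.mkₐ k P))
  exact Ideal.Quotient.eq_zero_iff_mem.1 (e.injective (this.trans (map_zero e).symm))

variable {R : Type u} [CommRing R] [Algebra R A]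

/-- An element with a pointwise characteristic equation is integral. -/
theorem isIntegral_of_eigen {ι : Type u} [Fintype ι] [DecidableEq ι] (a : A) (Λ : Matrix ι ι R) (w : ι → A)
    (hw : ∀ ev : A →ₐ[k] k, ∃ i, ev (w i) ≠ 0)
    (heq : ∀ ev : A →ₐ[k] k, ∀ i, ev (a * w i) = ev (∑ j, algebraMap R A (Λ i j) * w j)) : IsIntegral R a := by
  obtain ⟨K, hK⟩ := isNilpotent_of_forall_eval (k := k) (Polynomial.eval₂ (algebraMap R A) a Λ.charpoly) (by
    intro ev
    rw [Polynomial.eval₂_eq_eval_map, ← Matrix.charpoly_map, Matrix.eval_charpoly]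
    show (ev : A →+* k) _ = 0
    rw [RingHom.map_det]
    refine Matrix.exists_mulVec_eq_zero_iff.1 ⟨fun i => ev (w i), fun h => ?_, funext fun i => ?_⟩
    · obtain ⟨i, hi⟩ := hw ev
      exact hi (congrFun h i)
    · rw [RingHom.mapMatrix_apply, Matrix.map_sub _ (map_sub _), Matrix.sub_mulVec, Pi.sub_apply, Pi.zero_apply, sub_eq_zero]
      have h1 := heq ev i
      rw [map_mul, map_sum] at h1
      simpa [Matrix.mulVec, dotProduct, Matrix.diagonal_apply, map_mul, apply_ite] using h1)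
  exact ⟨Λ.charpoly ^ K, (Matrix.charpoly_monic Λ).pow K, by rw [Polynomial.eval₂_pow, hK]⟩

end Groth.Agent.H9LefPen.GenFin

end
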