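import Groth.Agent.H9LefPen.QuadAlg
import Groth.Agent.H9LefPen.BadPt
import Mathlib.RingTheory.MvPolynomial.Ideal
import Mathlib.RingTheory.Smooth.Basic

/-! Second order coefficients of functions on a smooth algebra with a basis of differentials. -/

set_option autoImplicit false
set_option linter.style.haveILetI false
set_option maxHeartbeats 1000000

universe u

noncomputable section

namespace Groth.Agent.H9LefPen.Hess

open MvPolynomial
open KaehlerDifferential (D)

variable {k B : Type u} [Field k] [CommRing B] [Algebra k B] {n : ℕ}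

/-- Truncated polynomials. -/
abbrev Jet (R : Type u) [CommRing R] (n N : ℕ) : Type u := MvPolynomial (Fin n) R ⧸ idealOfVars (Fin n) R ^ N

theorem X_mem (R : Type u) [CommRing R] (l : Fin n) : (X l : MvPolynomial (Fin n) R) ∈ idealOfVars (Fin n) R :=
  Ideal.subset_span ⟨l, rfl⟩

/-- The first order expansion. -/
def jet1 (ω : Module.Basis (Fin n) B Ω[B⁄k]) : B →ₐ[k] Jet B n 2 :=
  AlgHom.ofLinearMap
    { toFun := fun b => Ideal.Quotient.mk _ (C b + ∑ l, C (ω.coord l (D k B b)) * X l)
      map_add' := fun x y => by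
        rw [← map_add]; congr 1
        simp only [map_add, add_mul, Finset.sum_add_distrib]; ring
      map_smul' := fun t x => by
        rw [RingHom.id_apply, Algebra.smul_def, Algebra.smul_def t (Ideal.Quotient.mk _ _),
          ← Ideal.Quotient.mk_algebraMap, ← map_mul (Ideal.Quotient.mk _)]
        congr 1
        simp only [Derivation.leibniz, Derivation.map_algebraMap, smul_zero, add_zero, map_smul, smul_eq_mul, map_mul,
          mul_add, Finset.mul_sum]
        rw [IsScalarTower.algebraMap_apply k B (MvPolynomial (Fin n) B), MvPolynomial.algebraMap_eq]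
        refine congrArg₂ (· + ·) rfl (Finset.sum_congr rfl fun l _ => by ring) }
    (by simp)
    (fun x y => by
      show Ideal.Quotient.mk _ _ = Ideal.Quotient.mk _ _ * Ideal.Quotient.mk _ _
      rw [← map_mul, Ideal.Quotient.eq]
      have h1 : ∀ z : B, ∑ l, C (ω.coord l (D k B z)) * X l ∈ idealOfVars (Fin n) B := fun z =>
        sum_mem fun l _ => Ideal.mul_mem_left _ _ (X_mem B l)
      have h2 := Ideal.mul_mem_mul (h1 x) (h1 y)
      rw [← pow_two] at h2
      convert neg_mem h2 using 1
      simp only [Derivation.leibniz, map_add, map_smul, smul_eq_mul, map_mul, add_mul, Finset.sum_add_distrib, mul_assoc,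
        ← Finset.mul_sum]
      ring)

variable [Algebra.FormallySmooth k B]

theorem exists_jet2 (ω : Module.Basis (Fin n) B Ω[B⁄k]) :
    ∃ T : B →ₐ[k] Jet B n 3, ∀ b, Ideal.Quotient.factor (S := idealOfVars (Fin n) B ^ 3)
      (T := idealOfVars (Fin n) B ^ 2) (Ideal.pow_le_pow_right (show 2 ≤ 3 by omega)) (T b) =
      jet1 ω b := by
  let g := Ideal.Quotient.factorₐ k
    (Ideal.pow_le_pow_right (show 2 ≤ 3 by omega) : idealOfVars (Fin n) B ^ 3 ≤ idealOfVars (Fin n) B ^ 2)
  have hs : Function.Surjective g := Ideal.Quotient.factor_surjective (Ideal.pow_le_pow_right (show 2 ≤ 3 by omega))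
  have hnil : IsNilpotent (RingHom.ker g.toRingHom) := ⟨2, by
    show RingHom.ker (Ideal.Quotient.factor (S := idealOfVars (Fin n) B ^ 3) (T := idealOfVars (Fin n) B ^ 2)
      (Ideal.pow_le_pow_right (show 2 ≤ 3 by omega))) ^ 2 = 0
    rw [Ideal.Quotient.factor_ker, ← Ideal.map_pow, ← pow_mul, Submodule.zero_eq_bot, Ideal.map_eq_bot_iff_le_ker,
      Ideal.mk_ker]
    exact Ideal.pow_le_pow_right (by omega)⟩
  exact ⟨Algebra.FormallySmooth.liftOfSurjective (jet1 ω) g hs hnil,
    fun b => Algebra.FormallySmooth.liftOfSurjective_apply (jet1 ω) g hs hnil b⟩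

/-- The second order expansion. -/
def jet2 (ω : Module.Basis (Fin n) B Ω[B⁄k]) : B →ₐ[k] Jet B n 3 := (exists_jet2 ω).choose

/-- A coefficient of a truncated polynomial. -/
def jetCoeff (R : Type u) [CommRing R] {n N : ℕ} (d : Fin n →₀ ℕ) (hd : d.degree < N) : Jet R n N →ₗ[R] R :=
  ((idealOfVars (Fin n) R ^ N).restrictScalars R).liftQ (lcoeff R d) fun p hp => by
    rw [LinearMap.mem_ker, lcoeff_apply]
    exact (mem_pow_idealOfVars_iff' _ _).1 hp d hd

theorem jetCoeff_mk (R : Type u) [CommRing R] {n N : ℕ} (d : Fin n →₀ ℕ) (hd : d.degree < N)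
    (p : MvPolynomial (Fin n) R) : jetCoeff R d hd (Ideal.Quotient.mk _ p) = p.coeff d := rfl

theorem degree_pair (i j : Fin n) : (Finsupp.single i 1 + Finsupp.single j 1 : Fin n →₀ ℕ).degree < 3 := by
  simp [map_add, Finsupp.degree_single]

/-- The table of second order coefficients. -/
def tab (ω : Module.Basis (Fin n) B Ω[B⁄k]) (i j : Fin n) : B →ₗ[k] B :=
  ((jetCoeff B (Finsupp.single i 1 + Finsupp.single j 1) (degree_pair i j)).restrictScalars k).comp (jet2 ω).toLinearMap

theorem functional_mem_sq {q : Ideal B} {a : B} (ha : a ∈ q ^ 3) (φ : Ω[B⁄k] →ₗ[B] B) : φ (D k B a) ∈ q ^ 2 := by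
  rw [pow_succ] at ha
  refine Submodule.mul_induction_on ha (fun x hx y hy => ?_) fun x y hx hy => ?_
  · rw [Derivation.leibniz, map_add, map_smul, map_smul, smul_eq_mul, smul_eq_mul]
    refine add_mem (Ideal.mul_mem_right _ _ hx) ?_
    rw [pow_two]
    exact Ideal.mul_mem_mul hy (functional_mem_of_mem_sq q hx φ)
  · rw [map_add, map_add]; exact add_mem hx hy

variable [IsAlgClosed k] [Algebra.FiniteType k B] (ω : Module.Basis (Fin n) B Ω[B⁄k]) (ev : B →ₐ[k] k)

theorem isMaximal_ker : (RingHom.ker ev).IsMaximal :=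
  RingHom.ker_isMaximal_of_surjective _ fun c => ⟨algebraMap k B c, ev.commutes c⟩

theorem sub_const_mem (w : B) : w - algebraMap k B (ev w) ∈ RingHom.ker ev := by
  rw [RingHom.mem_ker, map_sub, ev.commutes]; exact sub_self _

theorem exists_coords : ∃ σ : Fin n → B, (∀ l, ev (σ l) = 0) ∧
    ∀ j l, ev (ω.coord j (D k B (σ l))) = if j = l then 1 else 0 := by
  classical
  have key : ∀ w : Ω[B⁄k], ∃ e, ev e = 0 ∧ ∀ j, ev (ω.coord j w) = ev (ω.coord j (D k B e)) := by
    intro w
    have hw : w ∈ Submodule.span B (Set.range (D k B)) := by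
      rw [KaehlerDifferential.span_range_derivation]; trivial
    induction hw using Submodule.span_induction with
    | mem _ hw =>
      obtain ⟨b, rfl⟩ := hw
      exact ⟨_, sub_const_mem ev b, fun j => by rw [map_sub, Derivation.map_algebraMap, sub_zero]⟩
    | zero => exact ⟨0, map_zero ev, fun j => by simp⟩
    | add x z _ _ hx hz =>
      obtain ⟨e, he, he'⟩ := hx
      obtain ⟨f, hf, hf'⟩ := hz
      exact ⟨e + f, by rw [map_add, he, hf, add_zero], fun j => by simp only [map_add, he', hf']⟩
    | smul b x _ hx =>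
      obtain ⟨e, he, he'⟩ := hx
      refine ⟨algebraMap k B (ev b) * e, by rw [map_mul, he, mul_zero], fun j => ?_⟩
      rw [Derivation.leibniz, Derivation.map_algebraMap, smul_zero, add_zero, LinearMap.map_smul, LinearMap.map_smul,
        smul_eq_mul, smul_eq_mul, map_mul, map_mul, he', ev.commutes]
      rfl
  choose σ hσ hσ' using fun l => key (ω l)
  refine ⟨σ, hσ, fun j l => ?_⟩
  rw [← hσ' l j, Module.Basis.coord_apply, Module.Basis.repr_self, Finsupp.single_apply]
  by_cases h : j = l
  · subst h; simp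
  · rw [if_neg (Ne.symm h), if_neg h, map_zero]

variable {σ : Fin n → B} (h0 : ∀ l, ev (σ l) = 0)
  (h1 : ∀ j l, ev (ω.coord j (D k B (σ l))) = if j = l then 1 else 0)

include h1 h0 in
theorem mem_span_coords {a : B} (ha : ev a = 0) :
    a - ∑ l, algebraMap k B (ev (ω.coord l (D k B a))) * σ l ∈ RingHom.ker ev ^ 2 := by
  classical
  haveI := isMaximal_ker ev
  refine mem_sq_of_functional_mem _ ω ?_ fun j => ?_
  · simp [RingHom.mem_ker, map_sub, map_sum, ha, h0]
  · simp [RingHom.mem_ker, map_sub, map_sum, Derivation.leibniz, h1, -Module.Basis.coord_apply]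

include h1 h0 in
theorem ker_le_span : RingHom.ker ev ≤ Ideal.span (Set.range σ) ⊔ RingHom.ker ev ^ 2 := fun a ha =>
  Submodule.mem_sup.2 ⟨∑ l, algebraMap k B (ev (ω.coord l (D k B a))) * σ l,
    sum_mem fun l _ => Ideal.mul_mem_left _ _ (Ideal.subset_span ⟨l, rfl⟩), _, mem_span_coords ω ev h0 h1 ha,
    add_sub_cancel _ _⟩

include h1 h0 in
theorem exists_table {h : B} (hh : h ∈ RingHom.ker ev ^ 2) :
    ∃ c : Fin n → Fin n → k, h - MvPolynomial.aeval σ (VanCyc.quadPoly c) ∈ RingHom.ker ev ^ 3 := by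
  classical
  have hsq : ∀ x ∈ RingHom.ker ev, ∀ y ∈ RingHom.ker ev, ∃ p : Fin n → Fin n → k,
      x * y - ∑ i, ∑ j, algebraMap k B (p i j) * (σ i * σ j) ∈ RingHom.ker ev ^ 3 := by
    intro x hx y hy
    let S : B → B := fun z => ∑ l, algebraMap k B (ev (ω.coord l (D k B z))) * σ l
    refine ⟨fun i j => ev (ω.coord i (D k B x)) * ev (ω.coord j (D k B y)), ?_⟩
    have e : ∑ i, ∑ j, algebraMap k B (ev (ω.coord i (D k B x)) * ev (ω.coord j (D k B y))) * (σ i * σ j) = S x * S y := by
      simp only [S, Finset.sum_mul_sum, map_mul]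
      exact Finset.sum_congr rfl fun i _ => Finset.sum_congr rfl fun j _ => by ring
    rw [e, show x * y - S x * S y = (x - S x) * y + S x * (y - S y) by ring]
    refine add_mem ?_ ?_
    · rw [pow_succ]; exact Ideal.mul_mem_mul (mem_span_coords ω ev h0 h1 hx) hy
    · rw [pow_succ']
      exact Ideal.mul_mem_mul (sum_mem fun l _ => Ideal.mul_mem_left _ _ (h0 l)) (mem_span_coords ω ev h0 h1 hy)
  obtain ⟨p, hp⟩ : ∃ p : Fin n → Fin n → k,
      h - ∑ i, ∑ j, algebraMap k B (p i j) * (σ i * σ j) ∈ RingHom.ker ev ^ 3 := by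
    rw [pow_two] at hh
    refine Submodule.mul_induction_on hh hsq fun x y hx hy => ?_
    obtain ⟨p, hp⟩ := hx
    obtain ⟨p', hp'⟩ := hy
    refine ⟨p + p', ?_⟩
    have := add_mem hp hp'
    convert this using 1
    simp only [Pi.add_apply, map_add, add_mul, Finset.sum_add_distrib]
    ring
  refine ⟨fun i j => if i = j then p i i else p i j + p j i, ?_⟩
  convert hp using 2
  simp only [VanCyc.quadPoly, map_sum]
  have e : ∀ i j : Fin n, MvPolynomial.aeval σ (if i ≤ j then C (if i = j then p i i else p i j + p j i) * X i * X j else 0) =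
      (if i ≤ j then algebraMap k B (p i j) * (σ i * σ j) else 0) + (if i < j then algebraMap k B (p j i) * (σ j * σ i) else 0) := by
    intro i j
    rcases lt_trichotomy i j with h | rfl | h
    · simp [h.le, h, h.ne, map_add]; ring
    · simp; ring
    · simp [not_le.2 h, not_lt.2 h.le]
  simp only [e, Finset.sum_add_distrib]
  rw [Finset.sum_comm (f := fun i j => if i < j then algebraMap k B (p j i) * (σ j * σ i) else 0), ← Finset.sum_add_distrib]
  refine Finset.sum_congr rfl fun i _ => ?_
  rw [← Finset.sum_add_distrib]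
  refine Finset.sum_congr rfl fun j _ => ?_
  rcases lt_trichotomy i j with h | rfl | h
  · simp [h.le, not_lt.2 h.le]
  · simp
  · simp [not_le.2 h, h]

include h1 h0 in
theorem tab_eq {h : B} (c : Fin n → Fin n → k)
    (hc : h - MvPolynomial.aeval σ (VanCyc.quadPoly c) ∈ RingHom.ker ev ^ 3) {i j : Fin n} (hij : i ≤ j) :
    ev (tab ω i j h) = c i j := by
  classical
  have hle : ∀ N, idealOfVars (Fin n) B ^ N ≤ (idealOfVars (Fin n) k ^ N).comap (MvPolynomial.map (ev : B →+* k)) := by
    intro N
    refine (Ideal.pow_right_mono ?_ N).trans (Ideal.le_comap_pow _ N)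
    refine Ideal.span_le.2 ?_
    rintro _ ⟨l, rfl⟩
    rw [SetLike.mem_coe, Ideal.mem_comap, MvPolynomial.map_X]
    exact X_mem k l
  let E : Jet B n 3 →+* Jet k n 3 := Ideal.quotientMap _ _ (hle 3)
  let ψ : B →ₐ[k] Jet k n 3 :=
    { E.comp (jet2 ω).toRingHom with
      commutes' := fun t => by
        show E (jet2 ω (algebraMap k B t)) = _
        rw [AlgHom.commutes, ← Ideal.Quotient.mk_algebraMap, ← Ideal.Quotient.mk_algebraMap]
        simp [E, IsScalarTower.algebraMap_apply k B (MvPolynomial (Fin n) B)] }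
  have hψ : ∀ b, ∃ p, ψ b = Ideal.Quotient.mk _ p ∧
      p - (C (ev b) + ∑ l, C (ev (ω.coord l (D k B b))) * X l) ∈ idealOfVars (Fin n) k ^ 2 := fun b => by
    obtain ⟨P, hP⟩ := Ideal.Quotient.mk_surjective (jet2 ω b)
    refine ⟨MvPolynomial.map (ev : B →+* k) P, ?_, ?_⟩
    · show E (jet2 ω b) = _
      rw [← hP]; rfl
    · have h2 := (exists_jet2 ω).choose_spec b
      rw [show (exists_jet2 ω).choose b = Ideal.Quotient.mk _ P from hP.symm, Ideal.Quotient.factor_mk] at h2
      have h3 := hle 2 (Ideal.Quotient.eq.1 h2)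
      rw [Ideal.mem_comap, map_sub, map_add, map_sum] at h3
      simpa only [map_mul, MvPolynomial.map_C, MvPolynomial.map_X, RingHom.coe_coe] using h3
  let V := (idealOfVars (Fin n) k).map (Ideal.Quotient.mk (idealOfVars (Fin n) k ^ 3))
  have hψq : RingHom.ker ev ≤ V.comap ψ := fun b hb => by
    obtain ⟨p, hp, hp'⟩ := hψ b
    show ψ b ∈ V
    rw [hp]
    refine Ideal.mem_map_of_mem _ ?_
    rw [RingHom.mem_ker] at hb
    rw [hb, map_zero, zero_add] at hp'
    rw [← sub_add_cancel p (∑ l, C (ev (ω.coord l (D k B b))) * X l)]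
    exact add_mem (Ideal.pow_le_self two_ne_zero hp') (sum_mem fun l _ => Ideal.mul_mem_left _ _ (X_mem k l))
  have hψ3 : ∀ b ∈ RingHom.ker ev ^ 3, ψ b = 0 := fun b hb => by
    have h3 : ψ b ∈ V ^ 3 := Ideal.le_comap_pow ψ 3 (Ideal.pow_right_mono hψq 3 hb)
    rwa [← Ideal.map_pow, Ideal.map_quotient_self, Ideal.mem_bot] at h3
  have hprod : ∀ a b, ψ (σ a * σ b) = Ideal.Quotient.mk _ (X a * X b) := fun a b => by
    obtain ⟨p, hp, hp'⟩ := hψ (σ a)
    obtain ⟨p', hq, hq'⟩ := hψ (σ b)
    have hX : ∀ l : Fin n, C (ev (σ l)) + ∑ r, C (ev (ω.coord r (D k B (σ l)))) * X r = (X l : MvPolynomial (Fin n) k) := by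
      intro l; simp [h0, h1, -Module.Basis.coord_apply]
    rw [hX] at hp' hq'
    rw [map_mul, hp, hq, ← map_mul, Ideal.Quotient.eq, show p * p' - X a * X b = (p - X a) * p' + X a * (p' - X b) by ring]
    have hp1 : p' ∈ idealOfVars (Fin n) k := by
      rw [← sub_add_cancel p' (X b)]
      exact add_mem (Ideal.pow_le_self two_ne_zero hq') (X_mem k b)
    refine add_mem ?_ ?_
    · rw [pow_succ]; exact Ideal.mul_mem_mul hp' hp1
    · rw [pow_succ']; exact Ideal.mul_mem_mul (X_mem k a) hq'
  have hq : ψ h = Ideal.Quotient.mk _ (VanCyc.quadPoly c) := by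
    rw [← sub_add_cancel h (MvPolynomial.aeval σ (VanCyc.quadPoly c)), map_add, hψ3 _ hc, zero_add, VanCyc.quadPoly]
    simp only [map_sum]
    refine Finset.sum_congr rfl fun a _ => Finset.sum_congr rfl fun b _ => ?_
    split_ifs
    · rw [show MvPolynomial.aeval σ (C (c a b) * X a * X b) = algebraMap k B (c a b) * (σ a * σ b) by simp [mul_assoc],
        map_mul, hprod, AlgHom.commutes,
        ← Ideal.Quotient.mk_algebraMap, ← map_mul, MvPolynomial.algebraMap_eq, mul_assoc]
    · simp
  have hcomm : ∀ z : Jet B n 3, jetCoeff k (Finsupp.single i 1 + Finsupp.single j 1) (degree_pair i j) (E z) =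
      ev (jetCoeff B (Finsupp.single i 1 + Finsupp.single j 1) (degree_pair i j) z) := fun z => by
    obtain ⟨P, rfl⟩ := Ideal.Quotient.mk_surjective z
    rw [jetCoeff_mk, show E (Ideal.Quotient.mk _ P) = Ideal.Quotient.mk _ (MvPolynomial.map (ev : B →+* k) P) from rfl,
      jetCoeff_mk, MvPolynomial.coeff_map]
    rfl
  show ev (jetCoeff B (Finsupp.single i 1 + Finsupp.single j 1) (degree_pair i j) (jet2 ω h)) = _
  rw [← hcomm, show E (jet2 ω h) = ψ h from rfl, hq, jetCoeff_mk, PSQuad.coeff_quadPoly_pair c hij]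

include h1 h0 in
theorem coord_D_eq {h : B} (c : Fin n → Fin n → k)
    (hc : h - MvPolynomial.aeval σ (VanCyc.quadPoly c) ∈ RingHom.ker ev ^ 3) (r : Fin n) :
    ω.coord r (D k B h) - ∑ l, algebraMap k B (VanCyc.polarMatrix c r l) * σ l ∈ RingHom.ker ev ^ 2 := by
  classical
  let q : Ideal B := RingHom.ker ev
  have hA : ω.coord r (D k B h) - ω.coord r (D k B (MvPolynomial.aeval σ (VanCyc.quadPoly c))) ∈ q ^ 2 := by
    rw [← map_sub, ← map_sub]
    exact functional_mem_sq hc _
  have hd : ∀ a b : Fin n, ω.coord r (D k B (σ a * σ b)) -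
      ((if r = b then σ a else 0) + (if r = a then σ b else 0)) ∈ q ^ 2 := by
    intro a b
    have e : ∀ l, ω.coord r (D k B (σ l)) - algebraMap k B (if r = l then 1 else 0) ∈ q := fun l => by
      rw [← h1 r l]; exact sub_const_mem ev _
    have e2 := add_mem (Ideal.mul_mem_mul (show σ a ∈ q from h0 a) (e b)) (Ideal.mul_mem_mul (show σ b ∈ q from h0 b) (e a))
    rw [← pow_two] at e2
    convert e2 using 1
    rw [Derivation.leibniz, map_add, map_smul, map_smul, smul_eq_mul, smul_eq_mul]
    split_ifs <;> simp <;> ring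
  have hB : ω.coord r (D k B (MvPolynomial.aeval σ (VanCyc.quadPoly c))) -
      ∑ a, ∑ b, (if a ≤ b then algebraMap k B (c a b) * ((if r = b then σ a else 0) + (if r = a then σ b else 0)) else 0) ∈ q ^ 2 := by
    simp only [VanCyc.quadPoly, map_sum, ← Finset.sum_sub_distrib]
    refine sum_mem fun a _ => sum_mem fun b _ => ?_
    by_cases hab : a ≤ b
    swap
    · simp [hab]
    rw [if_pos hab, if_pos hab,
      show MvPolynomial.aeval σ (C (c a b) * X a * X b) = algebraMap k B (c a b) * (σ a * σ b) by simp [mul_assoc],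
      Derivation.leibniz, Derivation.map_algebraMap, smul_zero, add_zero, LinearMap.map_smul, smul_eq_mul, ← mul_sub]
    exact Ideal.mul_mem_left _ (algebraMap k B (c a b)) (hd a b)
  have e : ∑ a, ∑ b, (if a ≤ b then algebraMap k B (c a b) * ((if r = b then σ a else 0) + (if r = a then σ b else 0)) else 0) =
      ∑ l, algebraMap k B (VanCyc.polarMatrix c r l) * σ l := by
    simp only [QA.polar_eq, Matrix.add_apply, Matrix.transpose_apply, QA.upper, map_add, add_mul, Finset.sum_add_distrib,
      mul_add]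
    have : ∀ a b : Fin n, (if a ≤ b then algebraMap k B (c a b) * (if r = b then σ a else 0) +
        algebraMap k B (c a b) * (if r = a then σ b else 0) else 0) =
        (if r = b then algebraMap k B (if a ≤ b then c a b else 0) * σ a else 0) +
        (if r = a then algebraMap k B (if a ≤ b then c a b else 0) * σ b else 0) := by
      intro a b
      split_ifs <;> simp
    simp only [this, Finset.sum_add_distrib]
    rw [add_comm]
    congr 1
    · rw [Finset.sum_eq_single r (fun a _ ha => by simp [Ne.symm ha]) (fun hh => absurd (Finset.mem_univ _) hh)]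
      simp
    · simp
  rw [← e]
  have := add_mem hA hB
  rwa [sub_add_sub_cancel] at this

end Groth.Agent.H9LefPen.Hess

end
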