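import Groth.Agent.H9LefPen.Irred
import Mathlib.RingTheory.Nullstellensatz
import Mathlib.Algebra.MvPolynomial.Eval

/-! Elimination along lines of a linear pencil. -/

set_option autoImplicit false
set_option linter.style.haveILetI false

universe u

noncomputable section

namespace Groth.Agent.H9LefPen.P1

open MvPolynomial Matrix

variable {k : Type u} [Field k] {M : ℕ}

/-- The value of a polynomial with polynomial coefficients. -/
def ev2 (c : Fin M → k) (w : Fin 2 → k) : MvPolynomial (Fin 2) (MvPolynomial (Fin M) k) →+* k :=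
  (MvPolynomial.eval w).comp (MvPolynomial.map (MvPolynomial.eval c))

theorem ev2_C (c : Fin M → k) (w : Fin 2 → k) (p : MvPolynomial (Fin M) k) :
    ev2 c w (MvPolynomial.C p) = MvPolynomial.eval c p := by simp [ev2]

theorem ev2_X (c : Fin M → k) (w : Fin 2 → k) (j : Fin 2) : ev2 c w (MvPolynomial.X j) = w j := by simp [ev2]

theorem map_homogeneousComponent {R S : Type u} {σ : Type*} [CommRing R] [CommRing S] (φ : R →+* S) (e : ℕ) (p : MvPolynomial σ R) :
    MvPolynomial.map φ (MvPolynomial.homogeneousComponent e p) =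
      MvPolynomial.homogeneousComponent e (MvPolynomial.map φ p) := by
  classical
  ext d
  simp only [MvPolynomial.coeff_map, MvPolynomial.coeff_homogeneousComponent, apply_ite φ, map_zero]

theorem eval_smul_homogeneous {σ : Type*} [Fintype σ] (a : k) (w : σ → k) {e : ℕ} {p : MvPolynomial σ k}
    (hp : p.IsHomogeneous e) : MvPolynomial.eval (a • w) p = a ^ e * MvPolynomial.eval w p := by
  classical
  rw [MvPolynomial.eval_eq', MvPolynomial.eval_eq', Finset.mul_sum]
  refine Finset.sum_congr rfl fun s hs => ?_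
  have hse : ∑ l, s l = e := by
    have := hp (MvPolynomial.mem_support_iff.1 hs)
    rw [← this, Finsupp.weight_apply, Finsupp.sum_fintype _ _ (by simp)]
    simp
  simp only [Pi.smul_apply, smul_eq_mul, mul_pow, Finset.prod_mul_distrib, Finset.prod_pow_eq_pow_sum, hse]
  ring

variable [IsAlgClosed k]

/-- A polynomial vanishing on a cone has homogeneous components vanishing there. -/
theorem eval_component_eq_zero {σ : Type*} [Fintype σ] (p : MvPolynomial σ k) (w : σ → k)
    (h : ∀ a : k, a ≠ 0 → MvPolynomial.eval (a • w) p = 0) (e : ℕ) :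
    MvPolynomial.eval w (MvPolynomial.homogeneousComponent e p) = 0 := by
  classical
  let P : Polynomial k := ∑ e ∈ Finset.range (p.totalDegree + 1),
    Polynomial.C (MvPolynomial.eval w (MvPolynomial.homogeneousComponent e p)) * Polynomial.X ^ e
  have hP : P = 0 := by
    refine Polynomial.eq_zero_of_infinite_isRoot _ (Set.Infinite.mono (s := {(0 : k)}ᶜ) (fun a ha => ?_)
      ((Set.finite_singleton (0 : k)).infinite_compl))
    show Polynomial.eval a P = 0
    rw [← h a ha]
    conv_rhs => rw [← MvPolynomial.sum_homogeneousComponent p, map_sum]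
    simp only [P, Polynomial.eval_finsetSum, Polynomial.eval_mul, Polynomial.eval_C, Polynomial.eval_pow,
      Polynomial.eval_X]
    exact Finset.sum_congr rfl fun e _ => by
      rw [eval_smul_homogeneous a w (MvPolynomial.homogeneousComponent_isHomogeneous e p), mul_comm]
  by_cases he : e ∈ Finset.range (p.totalDegree + 1)
  · have := congrArg (fun Q => Polynomial.coeff Q e) hP
    simpa [P, Polynomial.finsetSum_coeff, Polynomial.coeff_X_pow, he] using this
  · rw [MvPolynomial.homogeneousComponent_eq_zero e p (by simpa using he), map_zero]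

/-- A family of cones in the plane missing the punctured plane over a parameter misses it nearby. -/
theorem elim (c₀ : Fin M → k) (S : (Fin M → k) → (Fin 2 → k) → Prop)
    (hcone : ∀ c w (a : k), a ≠ 0 → S c w → S c (a • w))
    (hloc : ∀ v : Fin 2 → k, v ≠ 0 → ∃ P, ev2 c₀ v P ≠ 0 ∧ ∀ c w, S c w → ev2 c w P = 0) :
    ∃ g : MvPolynomial (Fin M) k, MvPolynomial.eval c₀ g ≠ 0 ∧
      ∀ c, MvPolynomial.eval c g ≠ 0 → ∀ w, w ≠ 0 → ¬ S c w := by
  classical
  let T := {q : ℕ × MvPolynomial (Fin 2) (MvPolynomial (Fin M) k) //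
    q.2.IsHomogeneous q.1 ∧ ∀ c w, S c w → ev2 c w q.2 = 0}
  let φ := MvPolynomial.map (σ := Fin 2) (MvPolynomial.eval c₀)
  let J : Ideal (MvPolynomial (Fin 2) k) := Ideal.span (Set.range fun q : T => φ q.1.2)
  have hrad : MvPolynomial.idealOfVars (Fin 2) k ≤ J.radical := by
    rw [← MvPolynomial.vanishingIdeal_zeroLocus_eq_radical (K := k)]
    refine Ideal.span_le.2 ?_
    rintro _ ⟨j, rfl⟩ v hv
    rw [MvPolynomial.aeval_X]
    by_contra hvj
    obtain ⟨P, hP, hPS⟩ := hloc v (fun h => hvj (by rw [h]; rfl))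
    obtain ⟨e, he⟩ : ∃ e, ev2 c₀ v (MvPolynomial.homogeneousComponent e P) ≠ 0 := by
      by_contra! hall
      exact hP (by rw [← MvPolynomial.sum_homogeneousComponent P, map_sum]; exact Finset.sum_eq_zero fun e _ => hall e)
    have hmem : φ (MvPolynomial.homogeneousComponent e P) ∈ J := Ideal.subset_span
      ⟨⟨(e, _), MvPolynomial.homogeneousComponent_isHomogeneous e P, fun c w hS => by
        show MvPolynomial.eval w (MvPolynomial.map (MvPolynomial.eval c) (MvPolynomial.homogeneousComponent e P)) = 0
        rw [map_homogeneousComponent]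
        exact eval_component_eq_zero _ w (fun a ha => hPS c _ (hcone c w a ha hS)) e⟩, rfl⟩
    exact he (by simpa [ev2, φ, MvPolynomial.aeval_eq_eval] using hv _ hmem)
  obtain ⟨N, hN⟩ := Ideal.exists_pow_le_of_le_radical_of_fg hrad (MvPolynomial.idealOfVars_fg _ _)
  let μ : Fin (N + 1) → (Fin 2 →₀ ℕ) := fun a => Finsupp.single 0 (a : ℕ) + Finsupp.single 1 (N - a)
  have hμdeg : ∀ a, (μ a).degree = N := fun a => by
    simp only [μ, map_add, Finsupp.degree_single]; omega
  have hμinj : Function.Injective μ := fun a b h => Fin.ext (by simpa [μ] using congrArg (fun s => s 0) h)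
  have hμall : ∀ s : Fin 2 →₀ ℕ, s.degree = N → ∃ a, μ a = s := fun s hs => by
    have h2 : s 0 + s 1 = N := by rw [← hs, Finsupp.degree_eq_sum, Fin.sum_univ_two]
    refine ⟨⟨s 0, by omega⟩, Finsupp.ext fun j => ?_⟩
    fin_cases j <;> simp [μ]
    omega
  have hexp : ∀ a, ∃ R : MvPolynomial (Fin 2) (MvPolynomial (Fin M) k), R.IsHomogeneous N ∧
      (∀ c w, S c w → ev2 c w R = 0) ∧ φ R = MvPolynomial.monomial (μ a) 1 := by
    intro a
    have hmem : MvPolynomial.monomial (μ a) (1 : k) ∈ J := hN ((MvPolynomial.mem_pow_idealOfVars_iff _ _).2 fun s hs => by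
      rw [MvPolynomial.support_monomial, if_neg one_ne_zero, Finset.mem_singleton] at hs
      rw [hs, hμdeg])
    obtain ⟨Q, hQ⟩ := (Finsupp.mem_ideal_span_range_iff_exists_finsupp).1 hmem
    refine ⟨MvPolynomial.homogeneousComponent N (∑ q ∈ Q.support, MvPolynomial.map MvPolynomial.C (Q q) * q.1.2),
      MvPolynomial.homogeneousComponent_isHomogeneous _ _, fun c w hS => ?_, ?_⟩
    · show MvPolynomial.eval w (MvPolynomial.map (MvPolynomial.eval c) _) = 0
      rw [map_homogeneousComponent]
      refine eval_component_eq_zero _ w (fun b hb => ?_) N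
      rw [map_sum, map_sum]
      refine Finset.sum_eq_zero fun q _ => ?_
      rw [map_mul, map_mul, show MvPolynomial.eval (b • w) (MvPolynomial.map (MvPolynomial.eval c) q.1.2) = 0 from
        q.2.2 c _ (hcone c w b hb hS), mul_zero]
    · rw [map_homogeneousComponent, map_sum]
      have : ∀ q : T, φ (MvPolynomial.map MvPolynomial.C (Q q) * q.1.2) = Q q * φ q.1.2 := fun q => by
        rw [map_mul, MvPolynomial.map_map,
          show (MvPolynomial.eval c₀).comp MvPolynomial.C = RingHom.id k from RingHom.ext fun x => MvPolynomial.eval_C x,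
          MvPolynomial.map_id]
      rw [Finset.sum_congr rfl fun q _ => this q]
      rw [show ∑ q ∈ Q.support, Q q * φ q.1.2 = MvPolynomial.monomial (μ a) 1 from hQ]
      exact MvPolynomial.homogeneousComponent_eq_self (MvPolynomial.isHomogeneous_monomial _ (hμdeg a))
  choose R hRhom hRS hR₀ using hexp
  let Mat : Matrix (Fin (N + 1)) (Fin (N + 1)) (MvPolynomial (Fin M) k) := fun a b => MvPolynomial.coeff (μ b) (R a)
  refine ⟨Mat.det, ?_, fun c hc w hw hS => ?_⟩
  · rw [RingHom.map_det, show (MvPolynomial.eval c₀).mapMatrix Mat = 1 from Matrix.ext fun a b => by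
      rw [RingHom.mapMatrix_apply, Matrix.map_apply, Matrix.one_apply, ← MvPolynomial.coeff_map,
        show MvPolynomial.map (MvPolynomial.eval c₀) (R a) = MvPolynomial.monomial (μ a) 1 from hR₀ a,
        MvPolynomial.coeff_monomial]
      by_cases hab : a = b
      · simp [hab]
      · rw [if_neg (fun h => hab (hμinj h)), if_neg hab], Matrix.det_one]
    exact one_ne_zero
  · have hker : (MvPolynomial.eval c).mapMatrix Mat *ᵥ (fun b => ∏ j, w j ^ μ b j) = 0 := by
      funext a
      have h1 := hRS a c w hS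
      have h2 : (MvPolynomial.map (MvPolynomial.eval c) (R a)).IsHomogeneous N := (hRhom a).map _
      rw [show ev2 c w (R a) = MvPolynomial.eval w (MvPolynomial.map (MvPolynomial.eval c) (R a)) from rfl,
        MvPolynomial.eval_eq'] at h1
      rw [Pi.zero_apply, ← h1]
      have hM : ∀ b, (MvPolynomial.eval c).mapMatrix Mat a b =
          MvPolynomial.coeff (μ b) (MvPolynomial.map (MvPolynomial.eval c) (R a)) := fun b => by
        rw [MvPolynomial.coeff_map]; rfl
      simp only [mulVec, dotProduct, hM]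
      symm
      rw [← Finset.sum_image (g := μ) (f := fun s => MvPolynomial.coeff s (MvPolynomial.map (MvPolynomial.eval c) (R a)) *
        ∏ j, w j ^ s j) (fun x _ y _ h => hμinj h)]
      refine Finset.sum_subset (fun s hs => ?_) (fun s _ hs => by rw [MvPolynomial.notMem_support_iff.1 hs, zero_mul])
      have hdeg := h2 (MvPolynomial.mem_support_iff.1 hs)
      rw [Finsupp.weight_apply, Finsupp.sum_fintype _ _ (by simp)] at hdeg
      obtain ⟨b, rfl⟩ := hμall s (by rw [Finsupp.degree_eq_sum]; simpa using hdeg)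
      exact Finset.mem_image_of_mem _ (Finset.mem_univ b)
    have hzero := Matrix.eq_zero_of_mulVec_eq_zero (by rw [← RingHom.map_det]; exact hc) hker
    refine hw (funext fun j => ?_)
    obtain ⟨b, hb⟩ := hμall (Finsupp.single j N) (Finsupp.degree_single _ _)
    have h3 := congrFun hzero b
    rw [hb, Finset.prod_eq_single j (fun l _ hl => by simp [Finsupp.single_eq_of_ne hl]) (fun h => absurd (Finset.mem_univ _) h),
      Finsupp.single_eq_same] at h3
    exact eq_zero_of_pow_eq_zero h3

/-- Polynomial functions pulled back along a bilinear substitution. -/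
theorem exists_ev2 {W : Type u} [AddCommGroup W] [Module k W] {f : W → k} (hf : LefPen.IsPolyFun k f)
    (Φ : Fin 2 → (Fin M → k) →ₗ[k] W) (Ψ : (Fin M → k) →ₗ[k] W) :
    ∃ P, ∀ c w, ev2 c w P = f (w 0 • Φ 0 c + w 1 • Φ 1 c + Ψ c) := by
  classical
  change f ∈ Algebra.adjoin k (Set.range (fun l : Module.Dual k W => (l : W → k))) at hf
  induction hf using Algebra.adjoin_induction with
  | mem x hx =>
    obtain ⟨l, rfl⟩ := hx
    let L : ((Fin M → k) →ₗ[k] W) → MvPolynomial (Fin M) k := fun A =>
      ∑ p, MvPolynomial.C (l (A (Pi.single p 1))) * MvPolynomial.X p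
    have hL : ∀ A c, MvPolynomial.eval c (L A) = l (A c) := fun A c => by
      simp only [L, map_sum, map_mul, MvPolynomial.eval_C, MvPolynomial.eval_X]
      conv_rhs => rw [pi_eq_sum_univ' c, map_sum, map_sum]
      exact Finset.sum_congr rfl fun p _ => by rw [map_smul, map_smul, smul_eq_mul, mul_comm]
    refine ⟨MvPolynomial.C (L (Φ 0)) * MvPolynomial.X 0 + MvPolynomial.C (L (Φ 1)) * MvPolynomial.X 1 +
      MvPolynomial.C (L Ψ), fun c w => ?_⟩
    simp only [map_add, map_mul, ev2_C, ev2_X, hL, map_smul, smul_eq_mul]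
    ring
  | algebraMap t => exact ⟨MvPolynomial.C (MvPolynomial.C t), fun c w => by simp [ev2_C]⟩
  | add x y _ _ hx hy =>
    obtain ⟨P, hP⟩ := hx; obtain ⟨Q, hQ⟩ := hy
    exact ⟨P + Q, fun c w => by simp [hP, hQ]⟩
  | mul x y _ _ hx hy =>
    obtain ⟨P, hP⟩ := hx; obtain ⟨Q, hQ⟩ := hy
    exact ⟨P * Q, fun c w => by simp [hP, hQ]⟩

end Groth.Agent.H9LefPen.P1

end
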