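import Groth.Agent.H9LefPen.SmoothPt
import Groth.Agent.H9LefPen.P1Elim
import Groth.Agent.H9LefPen.Avoid

/-! Values and differentials of forms at a point. -/

set_option autoImplicit false
set_option linter.style.haveILetI false
set_option backward.isDefEq.respectTransparency false
set_option backward.isDefEq.respectTransparency.types false
set_option maxHeartbeats 1000000

universe u

open CategoryTheory CategoryTheory.Limits AlgebraicGeometry TopologicalSpace Opposite Matrix
open KaehlerDifferential (D)

noncomputable section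

namespace Groth.Agent.H9LefPen

open Groth.Agent

variable {k : Type u} [Field k] [IsAlgClosed k] {r d : ℕ} {X : Scheme.{u}} {i : X ⟶ CohB1.ProjSpace r k}
  [IsClosedImmersion i] [X.Over (Spec (CommRingCat.of k))] {n : ℕ}

/-- The value and the differential of a function at a point. -/
def Chart.jetVec (C : Chart i n) [Nontrivial C.B] (ev : C.B →ₐ[k] k) (h : C.B) : Option (Fin n) → k :=
  fun j => ev (Option.elim j h fun l => C.ω.coord l (D k C.B h))

omit [IsClosedImmersion i] in
theorem Chart.jetVec_none (C : Chart i n) [Nontrivial C.B] (ev : C.B →ₐ[k] k) (h : C.B) :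
    C.jetVec ev h none = ev h := rfl

omit [IsClosedImmersion i] in
theorem Chart.jetVec_add (C : Chart i n) [Nontrivial C.B] (ev : C.B →ₐ[k] k) (a b : C.B) :
    C.jetVec ev (a + b) = C.jetVec ev a + C.jetVec ev b := by
  funext j
  rcases j with _ | l <;> simp [Chart.jetVec]

omit [IsClosedImmersion i] in
theorem Chart.jetVec_mul (C : Chart i n) [Nontrivial C.B] (ev : C.B →ₐ[k] k) (a b : C.B) :
    C.jetVec ev (a * b) = fun j => Option.elim j (ev a * ev b)
      (fun l => ev a * C.jetVec ev b (some l) + ev b * C.jetVec ev a (some l)) := by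
  funext j
  rcases j with _ | l <;> simp [Chart.jetVec, Derivation.leibniz]

omit [IsClosedImmersion i] in
theorem Chart.jetVec_algebraMap (C : Chart i n) [Nontrivial C.B] (ev : C.B →ₐ[k] k) (t : k) (a : C.B) :
    C.jetVec ev (algebraMap k C.B t * a) = t • C.jetVec ev a := by
  funext j
  rcases j with _ | l <;> simp [Chart.jetVec, Derivation.leibniz]

variable (hi : X ↘ Spec (CommRingCat.of k) = i ≫ CohB1.ProjSpace.toSpec r k)

/-- The first order jet of a form at a point. -/
def Chart.jetAt (C : Chart i n) [Nontrivial C.B] (ev : C.B →ₐ[k] k) :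
    LefPen.Form r k d →ₗ[k] (Option (Fin n) → k) where
  toFun G := C.jetVec ev (C.pull G.1)
  map_add' G G' := by rw [Submodule.coe_add, map_add, C.jetVec_add]
  map_smul' t G := by
    have hC : C.pull (MvPolynomial.C t) = algebraMap k C.B t := by
      exact C.pull_C hi t
    rw [RingHom.id_apply, Submodule.coe_smul, MvPolynomial.smul_eq_C_mul, map_mul, hC, C.jetVec_algebraMap]

include hi in
theorem Chart.badAt_iff_jetAt (C : Chart i n) [Nontrivial C.B] (H : LefPen.Form r k d) {x : X} (hx : x ∈ C.U.1)
    (hxc : IsClosed ({x} : Set X)) (ev : C.B →ₐ[k] k) (hev : RingHom.ker ev = (C.U.2.primeIdealOf ⟨x, hx⟩).asIdeal) :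
    BadAt i H x ↔ C.jetAt hi ev H = 0 := by
  rw [C.badAt_iff_le H hx hxc, C.badIdeal_le_iff, ← hev, funext_iff]
  constructor
  · rintro ⟨h1, h2⟩ (_ | l)
    · exact h1
    · exact h2 l
  · exact fun h => ⟨h none, fun l => h (some l)⟩

include hi in
theorem Chart.jetAt_surjective (hd : 1 ≤ d) (C : Chart i n) [Nontrivial C.B]
    (t : Γ(X, i ⁻¹ᵁ LefPen.chart r k C.j)) (ht : X.basicOpen t = C.U.1) (ev : C.B →ₐ[k] k) :
    Function.Surjective (C.jetAt (d := d) hi ev) := by
  intro v
  obtain ⟨σ, h0, h1⟩ := Hess.exists_coords C.ω ev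
  obtain ⟨G, hG⟩ := C.hjet (d := d) hi hd t ht (RingHom.ker ev) (Hess.isMaximal_ker ev)
    (algebraMap k C.B (v none) + ∑ l, algebraMap k C.B (v (some l)) * σ l)
  refine ⟨G, funext fun j => ?_⟩
  show C.jetVec ev (C.pull G.1) j = v j
  rw [← sub_add_cancel (C.pull G.1) (algebraMap k C.B (v none) + ∑ l, algebraMap k C.B (v (some l)) * σ l)]
  rcases j with _ | l
  · simp only [Chart.jetVec, Option.elim_none, map_add, map_sum, map_mul, ev.commutes, h0, mul_zero,
      Finset.sum_const_zero, add_zero, RingHom.mem_ker.1 (Ideal.pow_le_self two_ne_zero hG), zero_add]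
    rfl
  · simp only [Chart.jetVec, Option.elim_some, map_add]
    rw [RingHom.mem_ker.1 (functional_mem_of_mem_sq _ hG (C.ω.coord l))]
    simp [Derivation.leibniz, h1, h0, -Module.Basis.coord_apply]

variable [hsm : SmoothOfRelativeDimension n (X ↘ Spec (CommRingCat.of k))]

include hi hsm in
/-- Linear forms separate closed points. -/
theorem exists_linear_sep {x y : X} (hx : IsClosed ({x} : Set X)) (hne : y ≠ x) :
    ∃ L : LefPen.Form r k 1, L.1 ∈ (i x).asHomogeneousIdeal.toIdeal ∧ L.1 ∉ (i y).asHomogeneousIdeal.toIdeal := by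
  by_contra! hall
  obtain ⟨C, hxC, -⟩ := exists_chart' i (n := n) x
  let ev := C.evAt hxC hx
  let a : Fin (r + 1) → k := fun l => ev (C.pull (MvPolynomial.X l))
  have hev : ∀ P, ev (C.pull P) = MvPolynomial.eval a P := by
    intro P
    refine RingHom.congr_fun (f := (ev : C.B →+* k).comp C.pull) (MvPolynomial.ringHom_ext (fun c => ?_) fun l => ?_) P
    · rw [RingHom.comp_apply, C.pull_C hi, MvPolynomial.eval_C]; exact ev.commutes c
    · rw [MvPolynomial.eval_X]; rfl
  let L : Fin (r + 1) → LefPen.Form r k 1 := fun l =>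
    ⟨MvPolynomial.X l - MvPolynomial.C (a l) * MvPolynomial.X C.j, sub_mem (LefPen.X_mem r k l)
      ((MvPolynomial.mem_homogeneousSubmodule _ _).2 (by
        simpa using (MvPolynomial.isHomogeneous_C (Fin (r + 1)) (a l)).mul (MvPolynomial.isHomogeneous_X k C.j)))⟩
  have hL : ∀ l, (L l).1 ∈ (i y).asHomogeneousIdeal.toIdeal := fun l => hall _ ((C.pull_mem_iff _ hxC).1 (by
    rw [← C.ker_evAt hxC hx, RingHom.mem_ker, hev]
    have : a C.j = 1 := by show ev (C.pull _) = 1; rw [C.pull_X_self, map_one]
    simp [L, this]))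
  have hle : (i x).asHomogeneousIdeal.toIdeal ≤ (i y).asHomogeneousIdeal.toIdeal := by
    intro P hP
    rw [← MvPolynomial.sum_homogeneousComponent P]
    refine sum_mem fun e _ => ?_
    have hPe : MvPolynomial.homogeneousComponent e P ∈ (i x).asHomogeneousIdeal.toIdeal := by
      have := (i x).asHomogeneousIdeal.isHomogeneous e hP
      rw [← GradedRing.proj_apply] at this
      convert this using 1
      exact (MvPolynomial.decomposition.decompose'_apply (φ := P) (i := e)).symm
    let Pe : LefPen.Form r k e := ⟨_, (MvPolynomial.mem_homogeneousSubmodule _ _).2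
      (MvPolynomial.homogeneousComponent_isHomogeneous e P)⟩
    have h0 : MvPolynomial.eval a Pe.1 = 0 := by
      rw [← hev, ← RingHom.mem_ker, C.ker_evAt hxC hx]; exact (C.pull_mem_iff Pe hxC).2 hPe
    let sub : MvPolynomial (Fin (r + 1)) k →ₐ[k] MvPolynomial (Fin (r + 1)) k :=
      MvPolynomial.aeval fun l => MvPolynomial.C (a l) * MvPolynomial.X C.j
    have hsub0 : sub Pe.1 = 0 := MvPolynomial.funext fun v => by
      have e1 : MvPolynomial.eval v (sub Pe.1) = MvPolynomial.eval (v C.j • a) Pe.1 := by
        rw [show MvPolynomial.eval v (sub Pe.1) = ((MvPolynomial.aeval v).comp sub) Pe.1 by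
            rw [AlgHom.comp_apply, MvPolynomial.aeval_eq_eval],
          show (MvPolynomial.aeval v).comp sub = MvPolynomial.aeval (v C.j • a) from
            MvPolynomial.algHom_ext fun l => by simp [sub, mul_comm], MvPolynomial.aeval_eq_eval]
      rw [e1, P1.eval_smul_homogeneous _ _ ((MvPolynomial.mem_homogeneousSubmodule _ _).1 Pe.2), h0, mul_zero, map_zero]
    have hdiff : ∀ Q, Q - sub Q ∈ (i y).asHomogeneousIdeal.toIdeal := by
      intro Q
      induction Q using MvPolynomial.induction_on with
      | C c => simp [sub]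
      | add p q hp hq => rw [map_add, add_sub_add_comm]; exact add_mem hp hq
      | mul_X p l hp =>
        rw [map_mul, show sub (MvPolynomial.X l) = MvPolynomial.C (a l) * MvPolynomial.X C.j from MvPolynomial.aeval_X _ _,
          show p * MvPolynomial.X l - sub p * (MvPolynomial.C (a l) * MvPolynomial.X C.j) =
            (p - sub p) * MvPolynomial.X l + sub p * (L l).1 by simp only [L]; ring]
        exact add_mem (Ideal.mul_mem_right _ _ hp) (Ideal.mul_mem_left _ _ (hL l))
    have := hdiff Pe.1
    rw [hsub0, sub_zero] at this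
    exact this
  have hy : i y ∈ closure ({i x} : Set (CohB1.ProjSpace r k)) := (ProjectiveSpectrum.le_iff_mem_closure _ (i x) (i y)).1 hle
  have hixc : IsClosed ({i x} : Set (CohB1.ProjSpace r k)) := by
    have h := i.isClosedEmbedding.isClosedMap _ hx
    rwa [Set.image_singleton] at h
  rw [hixc.closure_eq] at hy
  exact hne (i.isEmbedding.injective hy)

end Groth.Agent.H9LefPen

end
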