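import Groth.Agent.BertiniSec.Scheme
import Groth.Agent.BertiniAff.Quot
import Groth.Agent.HypCurve.IdealChart
import Groth.Agent.HypCurve.CoordMap
import Groth.Agent.CurveVA.Converse
import Groth.Agent.ModPairLib.Basic
import Groth.Prelude.Def_LefPen

/-! Hypersurface sections of a smooth embedded scheme separate first order jets. -/

set_option autoImplicit false
set_option linter.style.haveILetI false
set_option backward.isDefEq.respectTransparency false
set_option backward.isDefEq.respectTransparency.types false

universe u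

open CategoryTheory CategoryTheory.Limits AlgebraicGeometry TopologicalSpace Opposite

noncomputable section

namespace Groth.Agent.H9LefPen

open Groth.Agent

variable {k : Type u} [Field k] {B : Type u} [CommRing B] [Algebra k B]

/-- Modulo the square of a rational maximal ideal affine combinations are closed under products. -/
theorem exists_affine_of_polynomial {σ : Type*} [Fintype σ] (a : MvPolynomial σ k →+* B)
    (ha : ∀ c, a (MvPolynomial.C c) = algebraMap k B c) (n : Ideal B)
    (hconst : ∀ w : B, ∃ c : k, w - algebraMap k B c ∈ n) (p : MvPolynomial σ k) :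
    ∃ (c₀ : k) (c : σ → k), a p - (algebraMap k B c₀ + ∑ l, algebraMap k B (c l) * a (MvPolynomial.X l)) ∈ n ^ 2 := by
  classical
  let W : Submodule k B := (Submodule.span k (insert 1 (Set.range fun l => a (MvPolynomial.X l)))) ⊔
    (n ^ 2).restrictScalars k
  have h1 : (1 : B) ∈ W := Submodule.mem_sup_left (Submodule.subset_span (Set.mem_insert _ _))
  have hx : ∀ l, a (MvPolynomial.X l) ∈ W := fun l =>
    Submodule.mem_sup_left (Submodule.subset_span (Set.mem_insert_of_mem _ ⟨l, rfl⟩))
  have hk : ∀ t : k, algebraMap k B t ∈ W := fun t => by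
    rw [Algebra.algebraMap_eq_smul_one]; exact W.smul_mem t h1
  have hmul : ∀ l, ∀ w ∈ W, w * a (MvPolynomial.X l) ∈ W := by
    intro l w hw
    obtain ⟨u, hu, v, hv, rfl⟩ := Submodule.mem_sup.1 hw
    clear hw
    rw [add_mul]
    refine add_mem ?_ (Submodule.mem_sup_right (Ideal.mul_mem_right _ _ hv))
    induction hu using Submodule.span_induction with
    | mem y hy =>
      rcases hy with rfl | ⟨m, rfl⟩
      · rw [one_mul]; exact hx l
      · obtain ⟨cm, hcm⟩ := hconst (a (MvPolynomial.X m))
        obtain ⟨cl, hcl⟩ := hconst (a (MvPolynomial.X l))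
        have e : a (MvPolynomial.X m) * a (MvPolynomial.X l) =
            (a (MvPolynomial.X m) - algebraMap k B cm) * (a (MvPolynomial.X l) - algebraMap k B cl) +
              (cm • a (MvPolynomial.X l) + (cl • a (MvPolynomial.X m) - algebraMap k B (cm * cl))) := by
          rw [Algebra.smul_def, Algebra.smul_def, map_mul]; ring
        rw [e]
        exact add_mem (Submodule.mem_sup_right (by rw [pow_two]; exact Ideal.mul_mem_mul hcm hcl))
          (add_mem (W.smul_mem _ (hx l)) (sub_mem (W.smul_mem _ (hx m)) (hk _)))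
    | zero => rw [zero_mul]; exact zero_mem _
    | add y z _ _ hy hz => rw [add_mul]; exact add_mem hy hz
    | smul t y _ hy => rw [smul_mul_assoc]; exact W.smul_mem t hy
  have hp : a p ∈ W := by
    induction p using MvPolynomial.induction_on with
    | C c => rw [ha]; exact hk c
    | add p q hp hq => rw [map_add]; exact add_mem hp hq
    | mul_X p l hp => rw [map_mul]; exact hmul l _ hp
  obtain ⟨u, hu, v, hv, huv⟩ := Submodule.mem_sup.1 hp
  rw [Submodule.mem_span_insert] at hu
  obtain ⟨c₀, z, hz, rfl⟩ := hu
  obtain ⟨c, rfl⟩ := (Submodule.mem_span_range_iff_exists_fun k).1 hz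
  refine ⟨c₀, c, ?_⟩
  have e : a p - (algebraMap k B c₀ + ∑ l, algebraMap k B (c l) * a (MvPolynomial.X l)) = v := by
    simp only [← huv, Algebra.smul_def, mul_one]
    abel
  rw [e]
  exact hv

/-- Inverses modulo the square of a rational maximal ideal are affine in the element. -/
theorem exists_inverse_mod_sq (n : Ideal B) (hconst : ∀ w : B, ∃ c : k, w - algebraMap k B c ∈ n) (t : B) (ht : t ∉ n) :
    ∃ α β : k, t * (algebraMap k B α + algebraMap k B β * t) - 1 ∈ n ^ 2 := by
  obtain ⟨c, hc⟩ := hconst t
  have hc0 : c ≠ 0 := by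
    rintro rfl
    exact ht (by simpa using hc)
  refine ⟨2 * c⁻¹, -(c⁻¹ * c⁻¹), ?_⟩
  have h1 : algebraMap k B c⁻¹ * algebraMap k B c = 1 := by rw [← map_mul, inv_mul_cancel₀ hc0, map_one]
  have e : t * (algebraMap k B (2 * c⁻¹) + algebraMap k B (-(c⁻¹ * c⁻¹)) * t) - 1 =
      -(algebraMap k B c⁻¹ * algebraMap k B c⁻¹) * ((t - algebraMap k B c) * (t - algebraMap k B c)) := by
    simp only [map_mul, map_neg, map_ofNat]
    linear_combination (algebraMap k B c⁻¹ * algebraMap k B c + 1 - 2 * algebraMap k B c⁻¹ * t) * h1
  rw [e, pow_two]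
  exact Ideal.mul_mem_left _ _ (Ideal.mul_mem_mul hc hc)

end Groth.Agent.H9LefPen

end
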