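import Groth.Agent.H9LefPen.Chart

/-! Hypersurfaces of positive degree separate first order jets on a chart. -/

set_option autoImplicit false
set_option linter.style.haveILetI false
set_option backward.isDefEq.respectTransparency false
set_option backward.isDefEq.respectTransparency.types false
set_option maxHeartbeats 1000000

universe u

open CategoryTheory CategoryTheory.Limits AlgebraicGeometry TopologicalSpace Opposite
open KaehlerDifferential (D)

noncomputable section

namespace Groth.Agent.H9LefPen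

open Groth.Agent

variable {k : Type u} [Field k] [IsAlgClosed k] {r d : ℕ} {X : Scheme.{u}} {i : X ⟶ CohB1.ProjSpace r k}
  [IsClosedImmersion i] [X.Over (Spec (CommRingCat.of k))] {n : ℕ}

theorem Chart.hjet (hi : X ↘ Spec (CommRingCat.of k) = i ≫ CohB1.ProjSpace.toSpec r k) (hd : 1 ≤ d) (C : Chart i n)
    (t : Γ(X, i ⁻¹ᵁ LefPen.chart r k C.j)) (ht : X.basicOpen t = C.U.1) (nn : Ideal C.B) (hnn : nn.IsMaximal)
    (y : C.B) : ∃ G : LefPen.Form r k d, C.pull G.1 - y ∈ nn ^ 2 := by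
  classical
  haveI := hnn
  have hconst := exists_const (k := k) nn
  have hV : IsAffineOpen (i ⁻¹ᵁ LefPen.chart r k C.j) := (HypCurve.isAffineOpen_chart r k C.j).preimage i
  letI : Algebra Γ(X, i ⁻¹ᵁ LefPen.chart r k C.j) C.B := (AModX.resR C.le).toAlgebra
  haveI : IsLocalization.Away t C.B := hV.isLocalization_of_eq_basicOpen t (homOfLE C.le) ht.symm
  have hlarge : ∀ z : Γ(X, i ⁻¹ᵁ LefPen.chart r k C.j),
      ∃ p, algebraMap Γ(X, i ⁻¹ᵁ LefPen.chart r k C.j) C.B z = C.pull p := fun z => by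
    obtain ⟨w, hw⟩ := i.app_surjective (LefPen.chart r k C.j) (HypCurve.isAffineOpen_chart r k C.j) z
    obtain ⟨v, rfl⟩ := (HypCurve.awayToSection_bijective C.j).2 w
    obtain ⟨p, rfl⟩ := ZetaLib.surjective_dehom r k C.j v
    exact ⟨p, by rw [← hw]; rfl⟩
  obtain ⟨z, ⟨_, e, rfl⟩, hz⟩ := IsLocalization.exists_mk'_eq (Submonoid.powers t) y
  let T := algebraMap Γ(X, i ⁻¹ᵁ LefPen.chart r k C.j) C.B t
  have hu : T ∉ nn := fun h =>
    hnn.ne_top (Ideal.eq_top_of_isUnit_mem _ h (IsLocalization.Away.algebraMap_isUnit t))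
  obtain ⟨α, β, hαβ⟩ := exists_inverse_mod_sq nn hconst T hu
  obtain ⟨pz, hpz⟩ := hlarge z
  obtain ⟨pt, hpt⟩ := hlarge t
  let q : MvPolynomial (Fin (r + 1)) k := pz * (MvPolynomial.C α + MvPolynomial.C β * pt) ^ e
  have hq : y - C.pull q ∈ nn ^ 2 := by
    let I := algebraMap k C.B α + algebraMap k C.B β * T
    have hyz : y * T ^ e = algebraMap _ C.B z := by
      rw [← hz, ← map_pow]; exact IsLocalization.mk'_spec _ z (⟨t ^ e, e, rfl⟩ : Submonoid.powers t)
    have hpq : C.pull q = algebraMap _ C.B z * I ^ e := by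
      simp only [q, map_mul, map_pow, map_add, C.pull_C hi, ← hpz, ← hpt, I, T]
    have h1 : (T * I) ^ e - 1 ∈ nn ^ 2 := Ideal.mem_of_dvd _ (sub_one_dvd_pow_sub_one (T * I) e) hαβ
    rw [hpq, ← hyz, show y - y * T ^ e * I ^ e = -(y * ((T * I) ^ e - 1)) by rw [mul_pow]; ring]
    exact neg_mem (Ideal.mul_mem_left _ _ h1)
  obtain ⟨c₀, c, hc⟩ := exists_affine_of_polynomial C.pull (C.pull_C hi) nn hconst q
  let Xd : Fin (r + 1) → LefPen.Form r k d := fun l =>
    ⟨MvPolynomial.X l * MvPolynomial.X C.j ^ (d - 1), (MvPolynomial.mem_homogeneousSubmodule _ _).2 (by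
      have := (MvPolynomial.isHomogeneous_X k l).mul ((MvPolynomial.isHomogeneous_X k C.j).pow (d - 1))
      rwa [one_mul, show 1 + (d - 1) = d by omega] at this)⟩
  refine ⟨c₀ • Xd C.j + ∑ l, c l • Xd l, ?_⟩
  have hG : C.pull (c₀ • Xd C.j + ∑ l, c l • Xd l : LefPen.Form r k d).1 =
      algebraMap k _ c₀ + ∑ l, algebraMap k _ (c l) * C.pull (MvPolynomial.X l) := by
    simp only [Xd, Submodule.coe_add, Submodule.coe_sum, Submodule.coe_smul, MvPolynomial.smul_eq_C_mul,
      map_add, map_sum, map_mul, map_pow, C.pull_X_self, one_pow, mul_one, C.pull_C hi]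
  rw [hG]
  have := sub_mem (neg_mem hc) hq
  convert this using 1
  ring

end Groth.Agent.H9LefPen

end
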