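import Mathlib.RingTheory.MvPolynomial.Homogeneous
import Mathlib.RingTheory.Polynomial.UniqueFactorization
import Mathlib.FieldTheory.Minpoly.Basic
import Mathlib.RingTheory.AdjoinRoot
import Mathlib.RingTheory.IntegralClosure.IsIntegralClosure.Basic
import Mathlib.FieldTheory.IsAlgClosed.Basic

/-! Elimination along the lines through a point. -/

set_option autoImplicit false
set_option linter.style.haveILetI false

universe u

noncomputable section

namespace Groth.Agent.H9LefPen.Line

open MvPolynomial

variable {k : Type u} [Field k] {m : ℕ}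

/-- Restriction of a polynomial to the lines of direction `c`. -/
def theta (c : Fin m → k) : MvPolynomial (Fin m) k →ₐ[k] Polynomial (MvPolynomial (Fin m) k) :=
  aeval fun l => Polynomial.C (X l) + Polynomial.X * Polynomial.C (C (c l))

theorem eval_theta (c v : Fin m → k) (t : k) (p : MvPolynomial (Fin m) k) :
    ((theta c p).map (MvPolynomial.eval v)).eval t = MvPolynomial.eval (v + t • c) p := by
  induction p using MvPolynomial.induction_on with
  | C a => simp [theta, IsScalarTower.algebraMap_apply k (MvPolynomial (Fin m) k) (Polynomial (MvPolynomial (Fin m) k))]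
  | add p q hp hq => simp [hp, hq]
  | mul_X p l hp =>
    have : ((theta c (X l)).map (MvPolynomial.eval v)).eval t = v l + t * c l := by
      rw [theta, aeval_X]; simp only [Polynomial.map_add, Polynomial.map_mul, Polynomial.map_X, Polynomial.map_C,
        MvPolynomial.eval_X, MvPolynomial.eval_C, Polynomial.eval_add, Polynomial.eval_mul, Polynomial.eval_X, Polynomial.eval_C]
    rw [map_mul, Polynomial.map_mul, Polynomial.eval_mul, hp, this]
    simp

/-- The lines of direction `c` as a change of coordinates. -/
def shear (c : Fin m → k) : Polynomial (MvPolynomial (Fin m) k) →ₐ[k] Polynomial (MvPolynomial (Fin m) k) :=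
  { Polynomial.eval₂RingHom (theta c).toRingHom Polynomial.X with
    commutes' := fun a => by
      show Polynomial.eval₂ (theta c).toRingHom Polynomial.X (algebraMap k _ a) = _
      rw [IsScalarTower.algebraMap_apply k (MvPolynomial (Fin m) k) (Polynomial (MvPolynomial (Fin m) k)),
        Polynomial.algebraMap_eq, Polynomial.eval₂_C]
      exact (theta c).commutes a }

theorem shear_X (c : Fin m → k) : shear c Polynomial.X = Polynomial.X := Polynomial.eval₂_X _ _

theorem shear_C (c : Fin m → k) (p : MvPolynomial (Fin m) k) : shear c (Polynomial.C p) = theta c p :=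
  Polynomial.eval₂_C _ _

theorem shear_shear (c : Fin m → k) (P : Polynomial (MvPolynomial (Fin m) k)) : shear (-c) (shear c P) = P := by
  have h0 : ∀ p : MvPolynomial (Fin m) k, shear (-c) (theta c p) = Polynomial.C p := by
    intro p
    induction p using MvPolynomial.induction_on with
    | C a =>
      rw [← MvPolynomial.algebraMap_eq, AlgHom.commutes, AlgHom.commutes,
        IsScalarTower.algebraMap_apply k (MvPolynomial (Fin m) k) (Polynomial (MvPolynomial (Fin m) k))]
      rfl
    | add p q hp hq => rw [map_add, map_add, hp, hq, map_add]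
    | mul_X p l hp =>
      rw [map_mul, map_mul, hp, map_mul]
      congr 1
      simp [theta, shear_X, shear_C]
      ring
  induction P using Polynomial.induction_on' with
  | add p q hp hq => rw [map_add, map_add, hp, hq]
  | monomial e p =>
    rw [← Polynomial.C_mul_X_pow_eq_monomial, map_mul, map_pow, shear_C, shear_X, map_mul, map_pow, h0, shear_X]

/-- The shear is an automorphism. -/
def shearEquiv (c : Fin m → k) : Polynomial (MvPolynomial (Fin m) k) ≃ₐ[k] Polynomial (MvPolynomial (Fin m) k) :=
  AlgEquiv.ofAlgHom (shear c) (shear (-c))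
    (AlgHom.ext fun P => by simpa [neg_neg] using shear_shear (-c) P)
    (AlgHom.ext fun P => shear_shear c P)

theorem prime_theta (c : Fin m → k) {p : MvPolynomial (Fin m) k} (hp : Prime p) : Prime (theta c p) := by
  rw [← shear_C c p]
  exact (MulEquiv.prime_iff (shearEquiv c).toMulEquiv).2 (Polynomial.prime_C_iff.2 hp)

theorem theta_dvd_iff (c : Fin m → k) {p q : MvPolynomial (Fin m) k} : theta c p ∣ theta c q ↔ p ∣ q := by
  refine ⟨fun h => ?_, map_dvd _⟩
  have := map_dvd (shear (-c)) h
  rw [← shear_C c p, ← shear_C c q, shear_shear, shear_shear, Polynomial.C_dvd_iff_dvd_coeff] at this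
  simpa using this 0

theorem theta_degree (c : Fin m → k) {e : ℕ} {h : MvPolynomial (Fin m) k} (hh : h.IsHomogeneous e) :
    (theta c h).natDegree ≤ e ∧ (theta c h).coeff e = C (MvPolynomial.eval c h) := by
  classical
  rw [show theta c h = ∑ s ∈ h.support, theta c (monomial s (h.coeff s)) by rw [← map_sum, ← h.as_sum]]
  have hmon : ∀ s ∈ h.support, (theta c (monomial s (h.coeff s))).natDegree ≤ e ∧
      (theta c (monomial s (h.coeff s))).coeff e = C (h.coeff s * ∏ l, c l ^ s l) := by
    intro s hs
    have hse : ∑ l, s l = e := by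
      have := hh (MvPolynomial.mem_support_iff.1 hs)
      rw [← this, Finsupp.weight_apply, Finsupp.sum_fintype _ _ (by simp)]
      simp
    have e1 : theta c (monomial s (h.coeff s)) =
        Polynomial.C (C (h.coeff s)) * ∏ l, (Polynomial.C (X l) + Polynomial.X * Polynomial.C (C (c l))) ^ s l := by
      rw [theta, aeval_monomial, Finsupp.prod_fintype _ _ (by simp),
        IsScalarTower.algebraMap_apply k (MvPolynomial (Fin m) k) (Polynomial (MvPolynomial (Fin m) k))]
      rfl
    have h1 : ∀ l, ((Polynomial.C (X l) + Polynomial.X * Polynomial.C (C (c l))) ^ s l :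
        Polynomial (MvPolynomial (Fin m) k)).natDegree ≤ s l := fun l =>
      Polynomial.natDegree_pow_le.trans (by
        refine (Nat.mul_le_mul_left (s l) ?_).trans (mul_one _).le
        rw [Polynomial.X_mul_C]
        exact (Polynomial.natDegree_add_le _ _).trans (by simp [Polynomial.natDegree_C_mul_le,
          (Polynomial.natDegree_C_mul_le _ _).trans Polynomial.natDegree_X_le]))
    have h2 : (∏ l, (Polynomial.C (X l) + Polynomial.X * Polynomial.C (C (c l))) ^ s l :
        Polynomial (MvPolynomial (Fin m) k)).natDegree ≤ e :=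
      (Polynomial.natDegree_prod_le _ _).trans (hse ▸ Finset.sum_le_sum fun l _ => h1 l)
    refine ⟨e1 ▸ (Polynomial.natDegree_C_mul_le _ _).trans h2, ?_⟩
    rw [e1, Polynomial.coeff_C_mul, map_mul]
    congr 1
    have : ∀ (n : Fin m → ℕ) (S : Finset (Fin m)) (f : Fin m → Polynomial (MvPolynomial (Fin m) k)),
        (∀ l, (f l).natDegree ≤ n l) → (∏ l ∈ S, f l).coeff (∑ l ∈ S, n l) = ∏ l ∈ S, (f l).coeff (n l) := by
      intro n S f hf
      induction S using Finset.induction_on with
      | empty => simp
      | insert a S ha ih =>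
        rw [Finset.prod_insert ha, Finset.sum_insert ha, Finset.prod_insert ha,
          Polynomial.coeff_mul_add_eq_of_natDegree_le (hf a)
            ((Polynomial.natDegree_prod_le _ _).trans (Finset.sum_le_sum fun l _ => hf l)), ih]
    rw [← hse, this _ _ _ h1, map_prod]
    refine Finset.prod_congr rfl fun l _ => ?_
    have hlin : (Polynomial.C (X l) + Polynomial.X * Polynomial.C (C (c l)) :
        Polynomial (MvPolynomial (Fin m) k)).natDegree ≤ 1 := by
      rw [Polynomial.X_mul_C]
      exact (Polynomial.natDegree_add_le _ _).trans (by simp [(Polynomial.natDegree_C_mul_le _ _).trans Polynomial.natDegree_X_le])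
    have := Polynomial.coeff_pow_of_natDegree_le (n := 1) (m := s l) hlin
    rw [mul_one] at this
    rw [this, map_pow]
    simp
  refine ⟨Polynomial.natDegree_sum_le_of_forall_le _ _ fun s hs => (hmon s hs).1, ?_⟩
  rw [Polynomial.finsetSum_coeff, Finset.sum_congr rfl fun s hs => (hmon s hs).2, ← map_sum, MvPolynomial.eval_eq']

theorem theta_monic (c : Fin m → k) {e : ℕ} {h : MvPolynomial (Fin m) k} (hh : h.IsHomogeneous e)
    (hc : MvPolynomial.eval c h ≠ 0) {p : MvPolynomial (Fin m) k} (hp : p ∣ h) :
    IsUnit (theta c p).leadingCoeff := by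
  obtain ⟨h1, h2⟩ := theta_degree c hh
  have hne : (theta c h).coeff e ≠ 0 := by rw [h2]; simpa using hc
  have hdeg : (theta c h).natDegree = e := le_antisymm h1 (Polynomial.le_natDegree_of_ne_zero hne)
  obtain ⟨q, rfl⟩ := hp
  have hu : IsUnit (theta c (p * q)).leadingCoeff := by
    rw [Polynomial.leadingCoeff, hdeg, h2]
    exact (isUnit_iff_ne_zero.2 hc).map C
  rw [map_mul, Polynomial.leadingCoeff_mul] at hu
  exact (IsUnit.mul_iff.1 hu).1

/-- Outside a proper closed set of starting points the lines miss the common zeros. -/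
theorem exists_elim (c : Fin m → k) {e : ℕ} {h : MvPolynomial (Fin m) k} (hh : h.IsHomogeneous e)
    (hc : MvPolynomial.eval c h ≠ 0) {p g : MvPolynomial (Fin m) k} (hp : Prime p) (hph : p ∣ h) (hpg : ¬ p ∣ g) :
    ∃ a : MvPolynomial (Fin m) k, a ≠ 0 ∧ ∀ (v : Fin m → k) (t : k), MvPolynomial.eval v a ≠ 0 →
      MvPolynomial.eval (v + t • c) p = 0 → MvPolynomial.eval (v + t • c) g ≠ 0 := by
  obtain ⟨u, hu⟩ := theta_monic c hh hc hph
  let P := theta c p * Polynomial.C (↑u⁻¹ : MvPolynomial (Fin m) k)
  have hPm : P.Monic := by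
    rw [Polynomial.Monic, Polynomial.leadingCoeff_mul, Polynomial.leadingCoeff_C, ← hu, Units.mul_inv]
  have hassoc : Associated (theta c p) P := associated_mul_unit_right _ _ (u⁻¹.isUnit.map Polynomial.C)
  have hPp : Prime P := hassoc.prime (prime_theta c hp)
  haveI : IsDomain (AdjoinRoot P) := AdjoinRoot.isDomain_of_prime hPp
  haveI := hPm.finite_adjoinRoot
  have hg0 : AdjoinRoot.mk P (theta c g) ≠ 0 := by
    rw [Ne, AdjoinRoot.mk_eq_zero]
    exact fun hd => hpg ((theta_dvd_iff c).1 (hassoc.dvd_iff_dvd_left.2 hd))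
  have hint : IsIntegral (MvPolynomial (Fin m) k) (AdjoinRoot.mk P (theta c g)) := Algebra.IsIntegral.isIntegral _
  let M := minpoly (MvPolynomial (Fin m) k) (AdjoinRoot.mk P (theta c g))
  refine ⟨M.coeff 0, ?_, fun v t hv hp0 hg => hv ?_⟩
  · intro h0
    obtain ⟨Q, hQ⟩ : Polynomial.X ∣ M := Polynomial.X_dvd_iff.2 h0
    have hQm : Q.Monic := Polynomial.Monic.of_mul_monic_left Polynomial.monic_X (hQ ▸ minpoly.monic hint)
    have hQ0 : Polynomial.aeval (AdjoinRoot.mk P (theta c g)) Q = 0 := by
      have := minpoly.aeval (MvPolynomial (Fin m) k) (AdjoinRoot.mk P (theta c g))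
      rw [show minpoly (MvPolynomial (Fin m) k) (AdjoinRoot.mk P (theta c g)) = M from rfl, hQ, map_mul,
        Polynomial.aeval_X] at this
      exact (mul_eq_zero.1 this).resolve_left hg0
    have := minpoly.min (MvPolynomial (Fin m) k) _ hQm hQ0
    rw [show minpoly (MvPolynomial (Fin m) k) (AdjoinRoot.mk P (theta c g)) = M from rfl, hQ, mul_comm,
      Polynomial.degree_mul_X, Polynomial.degree_eq_natDegree hQm.ne_zero] at this
    norm_cast at this
    omega
  obtain ⟨q, hq⟩ : P ∣ M.eval₂ Polynomial.C (theta c g) := by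
    rw [← AdjoinRoot.mk_eq_zero, Polynomial.hom_eval₂]
    exact minpoly.aeval _ _
  let ev : Polynomial (MvPolynomial (Fin m) k) →+* k :=
    (Polynomial.evalRingHom t).comp (Polynomial.mapRingHom (MvPolynomial.eval v))
  have hev : ∀ w, ev (theta c w) = MvPolynomial.eval (v + t • c) w := eval_theta c v t
  have hevC : ev.comp Polynomial.C = MvPolynomial.eval v := RingHom.ext fun w => by simp [ev]
  have := congrArg ev hq
  rw [Polynomial.hom_eval₂, hevC, hev, hg, map_mul, map_mul, hev, hp0, zero_mul, zero_mul,
    Polynomial.eval₂_at_zero] at this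
  exact this

theorem exists_root [IsAlgClosed k] (c : Fin m → k) {e : ℕ} {h : MvPolynomial (Fin m) k} (hh : h.IsHomogeneous e)
    (hc : MvPolynomial.eval c h ≠ 0) {p : MvPolynomial (Fin m) k} (hp : Prime p) (hph : p ∣ h) (v : Fin m → k) :
    ∃ t : k, MvPolynomial.eval (v + t • c) p = 0 := by
  obtain ⟨u, hu⟩ := theta_monic c hh hc hph
  have h1 : (theta c p).natDegree ≠ 0 := fun h0 => hp.not_unit (by
    have e1 := Polynomial.eq_C_of_natDegree_eq_zero h0
    have h2 : theta c p = Polynomial.C (↑u : MvPolynomial (Fin m) k) := by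
      rw [hu, Polynomial.leadingCoeff, h0]; exact e1
    refine isUnit_of_dvd_one ((theta_dvd_iff c).1 ?_)
    rw [map_one, h2]
    exact (u.isUnit.map Polynomial.C).dvd)
  have hne : MvPolynomial.eval v (theta c p).leadingCoeff ≠ 0 := (hu ▸ u.isUnit.map (MvPolynomial.eval v)).ne_zero
  obtain ⟨t, ht⟩ := IsAlgClosed.exists_root ((theta c p).map (MvPolynomial.eval v)) (by
    rw [Polynomial.degree_eq_natDegree (fun h0 => hne (by
        rw [Polynomial.leadingCoeff, ← Polynomial.coeff_map, h0, Polynomial.coeff_zero])),
      Polynomial.natDegree_map_of_leadingCoeff_ne_zero _ hne]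
    exact_mod_cast h1)
  exact ⟨t, by rw [← eval_theta]; exact ht⟩

theorem finite_roots (c : Fin m → k) {e : ℕ} {h : MvPolynomial (Fin m) k} (hh : h.IsHomogeneous e)
    (hc : MvPolynomial.eval c h ≠ 0) (v : Fin m → k) :
    {t : k | MvPolynomial.eval (v + t • c) h = 0}.Finite := by
  obtain ⟨u, hu⟩ := theta_monic c hh hc dvd_rfl
  have hne : MvPolynomial.eval v (theta c h).leadingCoeff ≠ 0 := (hu ▸ u.isUnit.map (MvPolynomial.eval v)).ne_zero
  have hP : (theta c h).map (MvPolynomial.eval v) ≠ 0 := fun h0 => hne (by
    rw [Polynomial.leadingCoeff, ← Polynomial.coeff_map, h0, Polynomial.coeff_zero])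
  refine (Polynomial.finite_setOf_isRoot hP).subset fun t ht => ?_
  show Polynomial.eval t _ = 0
  rw [eval_theta]
  exact ht

end Groth.Agent.H9LefPen.Line

end
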