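import Groth.Agent.H9LefPen.QuadRing
import Groth.Agent.H9LefPen.QuadAlg

/-! Completions of hypersurface germs and their quadratic parts. -/

set_option autoImplicit false
set_option linter.style.haveILetI false
set_option maxHeartbeats 1000000

universe u

noncomputable section

namespace Groth.Agent.H9LefPen.Loc

open Groth.Agent IsLocalRing
open KaehlerDifferential (D)

variable {k : Type u} [Field k] {n : ℕ}

local notation "𝑷" => MvPowerSeries (Fin n) k
local notation "𝔪" => PSLib.vars n k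

variable {S : Type u} [CommRing S] [IsLocalRing S] [Algebra k S]

theorem exists_approx (hres : ∀ s : S, ∃ a : k, s - algebraMap k S a ∈ maximalIdeal S) (σ : Fin n → S)
    (hgen : maximalIdeal S = Ideal.span (Set.range σ)) :
    ∀ (N : ℕ) (s : S), ∃ p : MvPolynomial (Fin n) k, s - MvPolynomial.aeval σ p ∈ maximalIdeal S ^ N := by
  intro N
  induction N with
  | zero => exact fun s => ⟨0, by simp⟩
  | succ N ih =>
    intro s
    obtain ⟨a, ha⟩ := hres s
    rw [hgen] at ha
    obtain ⟨c, hc⟩ := Ideal.mem_span_range_iff_exists_fun.1 ha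
    choose p hp using fun l => ih (c l)
    refine ⟨MvPolynomial.C a + ∑ l, p l * MvPolynomial.X l, ?_⟩
    have e : s - MvPolynomial.aeval σ (MvPolynomial.C a + ∑ l, p l * MvPolynomial.X l) =
        ∑ l, (c l - MvPolynomial.aeval σ (p l)) * σ l := by
      simp only [map_add, map_sum, map_mul, MvPolynomial.aeval_C, MvPolynomial.aeval_X, sub_mul, Finset.sum_sub_distrib, hc]
      ring
    rw [e, pow_succ]
    exact sum_mem fun l _ => Ideal.mul_mem_mul (hp l) (hgen ▸ Ideal.subset_span ⟨l, rfl⟩)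

theorem algHom_ext' (hres : ∀ s : S, ∃ a : k, s - algebraMap k S a ∈ maximalIdeal S) (σ : Fin n → S)
    (hgen : maximalIdeal S = Ideal.span (Set.range σ)) {R : Type u} [CommRing R] [Algebra k R] (I : Ideal R)
    [IsHausdorff I R] (f g : S →ₐ[k] R) (hσ : ∀ l, f (σ l) = g (σ l)) (hI : ∀ l, f (σ l) ∈ I) : f = g := by
  refine AlgHom.ext fun s => ?_
  rw [← sub_eq_zero]
  refine IsHausdorff.haus (I := I) (M := R) inferInstance _ fun N => ?_
  rw [SModEq.zero, smul_eq_mul, Ideal.mul_top]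
  obtain ⟨p, hp⟩ := exists_approx hres σ hgen N s
  have hle : ∀ F : S →ₐ[k] R, (∀ l, F (σ l) ∈ I) → F (s - MvPolynomial.aeval σ p) ∈ I ^ N := fun F hF => by
    refine (Ideal.map_le_iff_le_comap.1 ?_ hp : s - MvPolynomial.aeval σ p ∈ (I ^ N).comap F)
    rw [Ideal.map_pow]
    refine Ideal.pow_right_mono ?_ N
    rw [hgen, Ideal.map_span, Ideal.span_le]
    rintro _ ⟨_, ⟨l, rfl⟩, rfl⟩
    exact hF l
  have heq : f (MvPolynomial.aeval σ p) = g (MvPolynomial.aeval σ p) :=
    AlgHom.congr_fun (show f.comp (MvPolynomial.aeval σ) = g.comp (MvPolynomial.aeval σ) from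
      MvPolynomial.algHom_ext fun l => by simp [hσ]) p
  have h3 := sub_mem (hle f hI) (hle g fun l => hσ l ▸ hI l)
  rwa [map_sub, map_sub, heq, sub_sub_sub_cancel_right] at h3

variable [IsNoetherianRing S]

/-- The completion of a hypersurface germ. -/
theorem completion_equiv (hres : ∀ s : S, ∃ a : k, s - algebraMap k S a ∈ maximalIdeal S) (σ : Fin n → S)
    (hgen : maximalIdeal S = Ideal.span (Set.range σ)) (Φ : S →ₐ[k] 𝑷) (hΦ : ∀ l, Φ (σ l) = MvPowerSeries.X l)
    (h : S) (hh : Φ h ∈ 𝔪)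
    (A : Type u) [CommRing A] [IsLocalRing A] [Algebra k A] (π : S →ₐ[k] A) (hπ : Function.Surjective π)
    (hker : RingHom.ker π = Ideal.span {h}) :
    Nonempty ((𝑷 ⧸ Ideal.span {Φ h}) ≃ₐ[k] AdicCompletion (maximalIdeal A) A) := by
  classical
  haveI : IsNoetherianRing A := isNoetherianRing_of_surjective S A π.toRingHom hπ
  let Q := 𝑷 ⧸ Ideal.span {Φ h}
  haveI : IsLocalRing Q := PSQuad.isLocalRing_quot hh
  haveI : IsAdicComplete (maximalIdeal Q) Q := PSQuad.isAdicComplete_quot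
  let Cp := AdicCompletion (maximalIdeal A) A
  haveI : IsAdicComplete (maximalIdeal Cp) Cp := NodeLib.isAdicComplete_maximalIdeal A
  haveI : IsNoetherianRing Cp := LC.Canon.isNoetherianRing_completion (R := A)
  have hmC : maximalIdeal Cp = (maximalIdeal A).map (algebraMap A Cp) := AdicCompletion.maximalIdeal_eq_map
  have hmA : (maximalIdeal S).map π = maximalIdeal A := map_maximalIdeal_of_surjective π.toRingHom hπ
  have hb : ∀ i, algebraMap A Cp (π (σ i)) ∈ maximalIdeal Cp := fun i => by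
    rw [hmC]
    exact Ideal.mem_map_of_mem _ (hmA ▸ Ideal.mem_map_of_mem _ (hgen ▸ Ideal.subset_span ⟨i, rfl⟩))
  obtain ⟨Ψ, hΨ⟩ := PSLib.exists_algHom (R := k) (maximalIdeal Cp) _ hb
  have hΨS : Ψ.comp Φ = (IsScalarTower.toAlgHom k A Cp).comp π :=
    algHom_ext' hres σ hgen (maximalIdeal Cp) _ _ (fun l => by simp [hΦ, hΨ]) fun l => by
      rw [AlgHom.comp_apply, hΦ, hΨ]; exact hb l
  have hsurj : Function.Surjective Ψ := by
    refine PSLib.surjective_of_span (K := k) (n := n) (R := Cp) ?_ Ψ (fun i => (hΨ i).symm ▸ hb i) ?_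
    · intro z
      obtain ⟨z, rfl⟩ := IsLocalRing.residue_surjective z
      obtain ⟨x, hx⟩ := Adic7.exists_sub_algebraMap_mem (maximalIdeal A) (IsNoetherian.noetherian _) z 1
      rw [pow_one, ← hmC] at hx
      obtain ⟨s, rfl⟩ := hπ x
      obtain ⟨a, ha⟩ := hres s
      refine ⟨a, ?_⟩
      rw [RingHom.comp_apply, eq_comm, ← sub_eq_zero, ← map_sub, residue_eq_zero_iff,
        show z - algebraMap k Cp a = (z - algebraMap A Cp (π s)) + algebraMap A Cp (π (s - algebraMap k S a)) by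
          rw [map_sub π, AlgHom.commutes, map_sub, ← IsScalarTower.algebraMap_apply]; ring]
      exact add_mem hx (hmC ▸ Ideal.mem_map_of_mem _ (hmA ▸ Ideal.mem_map_of_mem _ ha))
    · refine le_trans ?_ le_sup_left
      rw [hmC, show (maximalIdeal A).map (algebraMap A Cp) = _ from congrArg (Ideal.map (algebraMap A Cp)) hmA.symm,
        hgen, Ideal.map_span, Ideal.map_span, ← Set.range_comp, ← Set.range_comp]
      exact Ideal.span_mono (Set.range_subset_iff.2 fun i => ⟨i, hΨ i⟩)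
  let q := (Ideal.Quotient.mkₐ k (Ideal.span {Φ h})).comp Φ
  have hq : RingHom.ker π ≤ RingHom.ker q := by
    rw [hker, Ideal.span_le, Set.singleton_subset_iff]
    show Ideal.Quotient.mk _ (Φ h) = 0
    rw [Ideal.Quotient.eq_zero_iff_mem]
    exact Ideal.mem_span_singleton_self _
  let Φ0 := AlgHom.liftOfSurjective π hπ q hq
  have hΦ0 : ∀ s, Φ0 (π s) = Ideal.Quotient.mk _ (Φ s) := fun s => AlgHom.liftOfSurjective_apply π hπ q hq s
  have hΦm : (maximalIdeal A).map Φ0 ≤ maximalIdeal Q := by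
    rw [← hmA, hgen, Ideal.map_span, Ideal.map_span, Ideal.span_le]
    rintro _ ⟨_, ⟨_, ⟨i, rfl⟩, rfl⟩, rfl⟩
    rw [SetLike.mem_coe, hΦ0, hΦ]
    exact PSQuad.mk_mem_maximalIdeal (Ideal.subset_span ⟨i, rfl⟩)
  obtain ⟨Φ', hΦ'⟩ := Adic7.exists_lift_completion (R := k) (maximalIdeal A) (maximalIdeal Q) Φ0 hΦm
  have hX : ∀ i, Φ' (Ψ (MvPowerSeries.X i)) = Ideal.Quotient.mk _ (MvPowerSeries.X i) := fun i => by
    rw [hΨ, hΦ', hΦ0, hΦ]
  have hcomp : Φ'.comp Ψ = Ideal.Quotient.mkₐ k (Ideal.span {Φ h}) := by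
    refine PSLib.algHom_ext (I := maximalIdeal Q) _ _ (fun i => ?_) hX
    rw [AlgHom.comp_apply, hX]
    exact PSQuad.mk_mem_maximalIdeal (Ideal.subset_span ⟨i, rfl⟩)
  have hk : RingHom.ker Ψ = Ideal.span {Φ h} := by
    refine le_antisymm (fun x hx => ?_) (Ideal.span_le.2 (Set.singleton_subset_iff.2 ?_))
    · rw [← Ideal.Quotient.eq_zero_iff_mem]
      have := AlgHom.congr_fun hcomp x
      rw [AlgHom.comp_apply, RingHom.mem_ker.1 hx, map_zero] at this
      exact this.symm
    · show Ψ (Φ h) = 0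
      rw [← AlgHom.comp_apply, hΨS, AlgHom.comp_apply, show π h = 0 from hker.ge (Ideal.mem_span_singleton_self h), map_zero]
  exact ⟨(Ideal.quotientEquivAlgOfEq k hk.symm).trans (Ideal.quotientKerAlgEquivOfSurjective hsurj)⟩

omit [IsNoetherianRing S] in
/-- The quadratic part of the image of a function vanishing to second order. -/
theorem quad_part (σ : Fin n → S) (hgen : maximalIdeal S = Ideal.span (Set.range σ)) (Φ : S →ₐ[k] 𝑷)
    (hΦ : ∀ l, Φ (σ l) = MvPowerSeries.X l) (h : S) (c : Fin n → Fin n → k)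
    (hc : h - MvPolynomial.aeval σ (VanCyc.quadPoly c) ∈ maximalIdeal S ^ 3) :
    Φ h - (VanCyc.quadPoly c : MvPolynomial (Fin n) k) ∈ 𝔪 ^ 3 := by
  have hpoly : Φ (MvPolynomial.aeval σ (VanCyc.quadPoly c)) = ((VanCyc.quadPoly c : MvPolynomial (Fin n) k) : 𝑷) := by
    have : Φ.comp (MvPolynomial.aeval σ) = MvPolynomial.coeToMvPowerSeries.algHom k :=
      MvPolynomial.algHom_ext fun i => by simp [hΦ]
    simpa using AlgHom.congr_fun this (VanCyc.quadPoly c)
  have hm : (maximalIdeal S).map Φ ≤ 𝔪 := by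
    rw [hgen, Ideal.map_span, Ideal.span_le]
    rintro _ ⟨_, ⟨l, rfl⟩, rfl⟩
    rw [SetLike.mem_coe, hΦ]
    exact Ideal.subset_span ⟨l, rfl⟩
  rw [← hpoly, ← map_sub]
  exact Ideal.pow_right_mono hm 3 (by rw [← Ideal.map_pow]; exact Ideal.mem_map_of_mem _ hc)

theorem coeff_of_quad {f : 𝑷} {c : Fin n → Fin n → k}
    (hf : f - (VanCyc.quadPoly c : MvPolynomial (Fin n) k) ∈ 𝔪 ^ 3) {e : Fin n →₀ ℕ} (he : e.degree < 3) :
    MvPowerSeries.coeff e f = (VanCyc.quadPoly c).coeff e := by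
  have := PSLib.coeff_eq_zero_of_mem_pow 3 _ hf e he
  rwa [map_sub, sub_eq_zero, MvPolynomial.coeff_coe] at this

theorem sub_quadPart_mem {f : 𝑷} (hf : f ∈ 𝔪 ^ 2) :
    f - (VanCyc.quadPoly (VanCyc.quadPart f) : MvPolynomial (Fin n) k) ∈ 𝔪 ^ 3 := by
  refine PSLib.mem_pow_iff.2 fun e he => ?_
  rw [map_sub, MvPolynomial.coeff_coe]
  rcases Nat.lt_or_ge e.degree 2 with h | h
  · rw [PSLib.coeff_eq_zero_of_mem_pow 2 _ hf e h, PSQuad.coeff_quadPoly_eq_zero _ (by omega), sub_zero]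
  · rcases PSQuad.degree_le_two_cases (d := e) (by omega) with rfl | ⟨i, rfl⟩ | ⟨i, j, hij, rfl⟩
    · simp at h
    · simp [Finsupp.degree_single] at h
    · rw [PSQuad.coeff_quadPoly_pair _ hij, PSQuad.quadPart_apply hij, sub_self]

theorem eval_quad (c : Fin n → Fin n → k) (v : Fin n → k) :
    MvPolynomial.eval v (VanCyc.quadPoly c) = VanCyc.quadEval c v := by
  simp only [VanCyc.quadPoly, VanCyc.quadEval, map_sum]
  refine Finset.sum_congr rfl fun i _ => Finset.sum_congr rfl fun j _ => ?_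
  split_ifs <;> simp

/-- Ordinary quadratic parts are preserved by isomorphisms of the quotients. -/
theorem quadOrd_of_equiv {f g : 𝑷} (hf : f ∈ 𝔪 ^ 2) (hg : g ∈ 𝔪 ^ 2) (hn : 1 ≤ n)
    (θ : (𝑷 ⧸ Ideal.span {f}) ≃ₐ[k] 𝑷 ⧸ Ideal.span {g})
    (hord : VanCyc.QuadOrd (VanCyc.quadPart f)) : VanCyc.QuadOrd (VanCyc.quadPart g) := by
  classical
  have hle : 𝔪 ^ 2 ≤ 𝔪 := Ideal.pow_le_self two_ne_zero
  haveI := PSQuad.isLocalRing_quot (hle hf)
  haveI := PSQuad.isLocalRing_quot (hle hg)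
  haveI := PSQuad.isAdicComplete_quot (k := k) (h := g)
  choose v hv using fun i => Ideal.Quotient.mk_surjective (θ (Ideal.Quotient.mk _ (MvPowerSeries.X i)))
  have hθm : ∀ {x}, x ∈ maximalIdeal (𝑷 ⧸ Ideal.span {f}) → θ x ∈ maximalIdeal _ := fun {x} hx hu =>
    hx (by simpa using hu.map θ.symm)
  have hvm : ∀ i, v i ∈ 𝔪 := fun i => PSQuad.mem_vars_of_mk_mem ((hv i).symm ▸
    hθm (PSQuad.mk_mem_maximalIdeal (Ideal.subset_span ⟨i, rfl⟩)))
  obtain ⟨φ, hφ⟩ := PSLib.exists_algHom (R := k) 𝔪 v hvm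
  have hφm : ∀ i, φ (MvPowerSeries.X i) ∈ 𝔪 := fun i => (hφ i).symm ▸ hvm i
  have hc : ∀ x, Ideal.Quotient.mk (Ideal.span {g}) (φ x) = θ (Ideal.Quotient.mk _ x) := fun x =>
    AlgHom.congr_fun (PSLib.algHom_ext (I := maximalIdeal (𝑷 ⧸ Ideal.span {g}))
      ((Ideal.Quotient.mkₐ k (Ideal.span {g})).comp φ) (θ.toAlgHom.comp (Ideal.Quotient.mkₐ k (Ideal.span {f})))
      (fun i => PSQuad.mk_mem_maximalIdeal (hφm i)) fun i => by
        show Ideal.Quotient.mk _ (φ (MvPowerSeries.X i)) = θ (Ideal.Quotient.mk _ (MvPowerSeries.X i))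
        rw [hφ]; exact hv i) x
  have hgen : 𝔪 ≤ Ideal.span (Set.range fun i => φ (MvPowerSeries.X i)) ⊔ 𝔪 ^ 2 := by
    refine Ideal.span_le.2 ?_
    rintro _ ⟨j, rfl⟩
    obtain ⟨a, ha⟩ := Ideal.Quotient.mk_surjective (θ.symm (Ideal.Quotient.mk _ (MvPowerSeries.X j)))
    have ham : a ∈ 𝔪 := PSQuad.mem_vars_of_mk_mem (h := f) (by
      rw [ha]
      intro hu
      refine PSQuad.mk_mem_maximalIdeal (h := g) (Ideal.subset_span ⟨j, rfl⟩) ?_
      have := hu.map θ
      rwa [θ.apply_symm_apply] at this)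
    have hmem : φ a ∈ Ideal.span (Set.range fun i => φ (MvPowerSeries.X i)) := by
      obtain ⟨c, rfl⟩ := Ideal.mem_span_range_iff_exists_fun.1 ham
      simp only [map_sum, map_mul]
      exact Ideal.sum_mem _ fun i _ => Ideal.mul_mem_left _ _ (Ideal.subset_span ⟨i, rfl⟩)
    rw [SetLike.mem_coe, show (MvPowerSeries.X j : 𝑷) = φ a - (φ a - MvPowerSeries.X j) by ring]
    refine sub_mem (Submodule.mem_sup_left hmem) (Submodule.mem_sup_right ?_)
    refine Ideal.span_le.2 (Set.singleton_subset_iff.2 hg) (Ideal.Quotient.eq.1 ?_)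
    rw [hc, ha]
    exact θ.apply_symm_apply _
  let Λ : Matrix (Fin n) (Fin n) k := Matrix.of fun i j => MvPowerSeries.coeff (Finsupp.single j 1) (v i)
  have hΛ : Λ.det ≠ 0 := by
    refine (PSQuad.isUnit_det_of_vars_le v hvm ?_).ne_zero
    rwa [show (fun i => φ (MvPowerSeries.X i)) = v from funext hφ] at hgen
  have hbij : Function.Bijective φ := PSLib.bijective_of_first_order φ hφm fun j => hgen (Ideal.subset_span ⟨j, rfl⟩)
  obtain ⟨r, hr⟩ : ∃ r, r * g = φ f := Ideal.mem_span_singleton'.1 (Ideal.Quotient.eq_zero_iff_mem.1 (by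
    rw [hc, Ideal.Quotient.eq_zero_iff_mem.2 (Ideal.mem_span_singleton_self f), map_zero]))
  let r0 := MvPowerSeries.constantCoeff r
  let L : Fin n → MvPolynomial (Fin n) k := fun i => ∑ j, MvPolynomial.C (Λ i j) * MvPolynomial.X j
  have hL : ∀ i, v i - (L i : 𝑷) ∈ 𝔪 ^ 2 := fun i => by
    refine PSLib.mem_pow_iff.2 fun e he => ?_
    rw [map_sub, MvPolynomial.coeff_coe]
    rcases PSQuad.degree_le_two_cases (d := e) (by omega) with rfl | ⟨a, rfl⟩ | ⟨a, b, -, rfl⟩
    · rw [MvPowerSeries.coeff_zero_eq_constantCoeff_apply, PSLib.mem_vars_iff.1 (hvm i)]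
      simp [L, MvPolynomial.coeff_sum, MvPolynomial.coeff_C_mul]
    · simp [L, Λ, MvPolynomial.coeff_sum, MvPolynomial.coeff_C_mul, MvPolynomial.coeff_X, Finsupp.single_left_inj]
    · simp [map_add, Finsupp.degree_single] at he
  let pF : MvPolynomial (Fin n) k := MvPolynomial.aeval L (VanCyc.quadPoly (VanCyc.quadPart f))
  let pG : MvPolynomial (Fin n) k := MvPolynomial.C r0 * VanCyc.quadPoly (VanCyc.quadPart g)
  have hF : φ f - (pF : 𝑷) ∈ 𝔪 ^ 3 := by
    have h1 : φ (f - (VanCyc.quadPoly (VanCyc.quadPart f) : MvPolynomial (Fin n) k)) ∈ 𝔪 ^ 3 :=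
      PSLib.map_pow_le φ hφm 3 (Ideal.mem_map_of_mem _ (sub_quadPart_mem hf))
    have h2 : φ ((VanCyc.quadPoly (VanCyc.quadPart f) : MvPolynomial (Fin n) k) : 𝑷) - (pF : 𝑷) ∈ 𝔪 ^ 3 := by
      have key : ∀ a b, φ (MvPowerSeries.X a) * φ (MvPowerSeries.X b) - (L a : 𝑷) * (L b : 𝑷) ∈ 𝔪 ^ 3 := by
        intro a b
        rw [hφ, hφ, show v a * v b - (L a : 𝑷) * (L b : 𝑷) = (v a - (L a : 𝑷)) * v b + (L a : 𝑷) * (v b - (L b : 𝑷)) by ring]
        refine add_mem ?_ ?_
        · rw [pow_succ]; exact Ideal.mul_mem_mul (hL a) (hvm b)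
        · rw [pow_succ']
          exact Ideal.mul_mem_mul (by
            rw [← sub_sub_cancel (v a) (L a : 𝑷)]
            exact sub_mem (hvm a) (Ideal.pow_le_self two_ne_zero (hL a))) (hL b)
      let ι : MvPolynomial (Fin n) k →ₐ[k] 𝑷 := MvPolynomial.coeToMvPowerSeries.algHom k
      have hι : ∀ p, ι p = (p : 𝑷) := fun p => by simp [ι]
      rw [← hι, ← hι, show ι pF = (ι.comp (MvPolynomial.aeval L)) (VanCyc.quadPoly (VanCyc.quadPart f)) from rfl,
        show φ (ι (VanCyc.quadPoly (VanCyc.quadPart f))) = (φ.comp ι) (VanCyc.quadPoly (VanCyc.quadPart f)) from rfl,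
        VanCyc.quadPoly]
      simp only [map_sum, ← Finset.sum_sub_distrib]
      refine Ideal.sum_mem _ fun a _ => Ideal.sum_mem _ fun b _ => ?_
      split_ifs
      swap
      · simp
      have := Ideal.mul_mem_left _ (algebraMap k 𝑷 (VanCyc.quadPart f a b)) (key a b)
      convert this using 1
      simp only [AlgHom.comp_apply, map_mul, MvPolynomial.aeval_C, MvPolynomial.aeval_X, hι, MvPolynomial.coe_X,
        ← MvPolynomial.algebraMap_eq, AlgHom.commutes]
      ring
    rw [map_sub] at h1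
    have := add_mem h1 h2
    rwa [sub_add_sub_cancel] at this
  have hG : φ f - (pG : 𝑷) ∈ 𝔪 ^ 3 := by
    have e : φ f - (pG : 𝑷) = (r - MvPowerSeries.C r0) * g +
        MvPowerSeries.C r0 * (g - ((VanCyc.quadPoly (VanCyc.quadPart g) : MvPolynomial (Fin n) k) : 𝑷)) := by
      simp only [pG, MvPolynomial.coe_mul, MvPolynomial.coe_C, ← hr]
      ring
    rw [e]
    refine add_mem ?_ (Ideal.mul_mem_left _ _ (sub_quadPart_mem hg))
    rw [pow_succ']
    exact Ideal.mul_mem_mul (PSLib.mem_vars_iff.2 (by simp [r0])) hg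
  have hfun : ∀ w : Fin n → k,
      VanCyc.quadEval (VanCyc.quadPart f) (Λ.mulVec w) = r0 * VanCyc.quadEval (VanCyc.quadPart g) w := by
    have hpq : pF = pG := by
      ext e
      rcases eq_or_ne e.degree 2 with he | he
      · have := sub_mem hG hF
        rw [sub_sub_sub_cancel_left] at this
        have h0 := PSLib.coeff_eq_zero_of_mem_pow 3 _ this e (by omega)
        rwa [map_sub, MvPolynomial.coeff_coe, MvPolynomial.coeff_coe, sub_eq_zero] at h0
      · have hq2 : ∀ c : Fin n → Fin n → k, (VanCyc.quadPoly c).IsHomogeneous 2 := fun c a ha => by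
          by_contra hne
          exact ha (PSQuad.coeff_quadPoly_eq_zero c (by
            rwa [Finsupp.degree_eq_weight_one]))
        rw [MvPolynomial.IsHomogeneous.coeff_eq_zero ((hq2 _).aeval L (n := 1) fun i =>
            MvPolynomial.IsHomogeneous.sum _ _ _ fun j _ => MvPolynomial.isHomogeneous_C_mul_X _ _) (by simpa using he),
          MvPolynomial.IsHomogeneous.coeff_eq_zero ((hq2 _).C_mul r0) he]
    intro w
    have h1 := congrArg (MvPolynomial.eval w) hpq
    simp only [pG, map_mul, MvPolynomial.eval_C, eval_quad] at h1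
    rw [← h1, ← eval_quad]
    have : (MvPolynomial.eval w).comp (MvPolynomial.aeval (R := k) L).toRingHom = MvPolynomial.eval (Λ.mulVec w) :=
      MvPolynomial.ringHom_ext (fun a => by simp) fun i => by simp [L, Matrix.mulVec, dotProduct]
    exact (congrArg (fun F => F (VanCyc.quadPoly (VanCyc.quadPart f))) this).symm
  exact QA.quadOrd_transfer _ _ Λ hΛ r0 hfun hord

omit [IsNoetherianRing S] in
/-- A hypersurface vanishing to second order at the closed point is not formally smooth there. -/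
theorem not_formallySmooth [Algebra.FormallySmooth k S] [IsDomain S] {h : S} (hh : h ∈ maximalIdeal S ^ 2) (h0 : h ≠ 0)
    {A : Type u} [CommRing A] [Algebra k A] (π : S →ₐ[k] A) (hπ : Function.Surjective π)
    (hker : RingHom.ker π = Ideal.span {h}) : ¬ Algebra.FormallySmooth k A := by
  intro hA
  letI : Algebra S A := π.toRingHom.toAlgebra
  haveI : IsScalarTower k S A := IsScalarTower.of_algebraMap_eq fun a => (π.commutes a).symm
  obtain ⟨l, hl⟩ := (Algebra.FormallySmooth.iff_split_injection (P := S) (A := A) hπ).1 hA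
  let I := RingHom.ker (algebraMap S A)
  have hI : h ∈ I := hker.ge (Ideal.mem_span_singleton_self h)
  have hD : D k S h ∈ maximalIdeal S • (⊤ : Submodule S Ω[S⁄k]) := by
    rw [pow_two] at hh
    refine Submodule.mul_induction_on hh (fun x hx y hy => ?_) fun x y hx hy => ?_
    · rw [Derivation.leibniz]
      exact add_mem (Submodule.smul_mem_smul hx trivial) (Submodule.smul_mem_smul hy trivial)
    · rw [map_add]; exact add_mem hx hy
  have h1 : I.toCotangent ⟨h, hI⟩ ∈ maximalIdeal S • (⊤ : Submodule S I.Cotangent) := by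
    have e := LinearMap.congr_fun hl (I.toCotangent ⟨h, hI⟩)
    rw [LinearMap.comp_apply, LinearMap.id_apply, KaehlerDifferential.kerCotangentToTensor_toCotangent] at e
    rw [← e]
    let f : Ω[S⁄k] →ₗ[S] I.Cotangent := l.comp ((TensorProduct.mk S A Ω[S⁄k]) 1)
    exact Submodule.smul_top_le_comap_smul_top (maximalIdeal S) f hD
  have h2 : h ∈ maximalIdeal S * I ⊔ I ^ 2 := by
    have h3 : I.toCotangent ⟨h, hI⟩ ∈ (maximalIdeal S • (⊤ : Submodule S I)).map I.toCotangent := by
      rwa [Submodule.map_smul'', Submodule.map_top, LinearMap.range_eq_top.2 I.toCotangent_surjective]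
    obtain ⟨z, hz, hz'⟩ := h3
    have h4 : h - z.1 ∈ I ^ 2 := I.toCotangent_eq.1 hz'.symm
    have h5 : z.1 ∈ maximalIdeal S * I := by
      have := Submodule.mem_map_of_mem (f := Submodule.subtype I) hz
      rwa [Submodule.map_smul'', Submodule.map_top, Submodule.range_subtype, smul_eq_mul] at this
    rw [← sub_add_cancel h z.1]
    exact add_mem (Submodule.mem_sup_right h4) (Submodule.mem_sup_left h5)
  have hhm : h ∈ maximalIdeal S := Ideal.pow_le_self two_ne_zero hh
  have h6 : h ∈ maximalIdeal S * Ideal.span {h} := by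
    refine (sup_le ?_ ?_ : maximalIdeal S * I ⊔ I ^ 2 ≤ maximalIdeal S * Ideal.span {h}) h2
    · rw [show I = Ideal.span {h} from hker]
    · rw [show I = Ideal.span {h} from hker, pow_two]
      exact Ideal.mul_mono_left ((Ideal.span_singleton_le_iff_mem _).2 hhm)
  obtain ⟨x, hx, hxh⟩ := Ideal.mem_mul_span_singleton.1 h6
  have : x = 1 := mul_right_cancel₀ h0 (by rw [hxh, one_mul])
  exact (IsLocalRing.maximalIdeal.isMaximal S).ne_top ((Ideal.eq_top_iff_one _).2 (this ▸ hx))

end Groth.Agent.H9LefPen.Loc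

end
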