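import Groth.Agent.H9LefPen.RankAvoid
import Groth.Agent.H9LefPen.OneBad
import Groth.Agent.H9LefPen.BadMain

/-! A form of degree at least two with a single ordinary quadratic point. -/

set_option autoImplicit false
set_option linter.style.haveILetI false
set_option backward.isDefEq.respectTransparency false
set_option backward.isDefEq.respectTransparency.types false
set_option maxHeartbeats 1000000

universe u

open CategoryTheory CategoryTheory.Limits AlgebraicGeometry TopologicalSpace Opposite Matrix
open KaehlerDifferential (D)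

noncomputable section

namespace Groth.Agent.H9LefPen

open Groth.Agent

variable {k : Type u} [Field k] [IsAlgClosed k] {r d n : ℕ} {X : Scheme.{u}} {i : X ⟶ CohB1.ProjSpace r k}
  [IsClosedImmersion i] [X.Over (Spec (CommRingCat.of k))]
  (hi : X ↘ Spec (CommRingCat.of k) = i ≫ CohB1.ProjSpace.toSpec r k)

/-- The product of two forms. -/
def formMul {a b : ℕ} (h : a + b = d) (A : LefPen.Form r k a) (M : LefPen.Form r k b) : LefPen.Form r k d :=
  ⟨A.1 * M.1, (MvPolynomial.mem_homogeneousSubmodule _ _).2
    (h ▸ ((MvPolynomial.mem_homogeneousSubmodule _ _).1 A.2).mul ((MvPolynomial.mem_homogeneousSubmodule _ _).1 M.2))⟩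

include hi in
theorem Chart.jetAt_formMul (C : Chart i n) [Nontrivial C.B] (ev : C.B →ₐ[k] k) {a b : ℕ} (h : a + b = d)
    (A : LefPen.Form r k a) (M : LefPen.Form r k b) :
    C.jetAt hi ev (formMul h A M) = fun j => Option.elim j (C.jetAt hi ev A none * C.jetAt hi ev M none)
      (fun l => C.jetAt hi ev A none * C.jetAt hi ev M (some l) + C.jetAt hi ev M none * C.jetAt hi ev A (some l)) := by
  show C.jetVec ev (C.pull (A.1 * M.1)) = _
  rw [map_mul, C.jetVec_mul]
  rfl

/-- Multiplication by a jet. -/
def mulJet (a : Option (Fin n) → k) : (Option (Fin n) → k) →ₗ[k] (Option (Fin n) → k) where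
  toFun v := fun j => Option.elim j (a none * v none) (fun l => a none * v (some l) + v none * a (some l))
  map_add' v w := by funext j; rcases j with _ | l <;> simp <;> ring
  map_smul' t v := by funext j; rcases j with _ | l <;> simp <;> ring

omit [IsAlgClosed k] in
theorem mulJet_injective {a : Option (Fin n) → k} (ha : a none ≠ 0) : Function.Injective (mulJet a) := by
  rw [← LinearMap.ker_eq_bot, LinearMap.ker_eq_bot']
  intro v hv
  have h0 : v none = 0 := (mul_eq_zero.1 (congrFun hv none)).resolve_left ha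
  funext j
  rcases j with _ | l
  · exact h0
  · have h := congrFun hv (some l)
    simp only [mulJet, LinearMap.coe_mk, AddHom.coe_mk, Option.elim_some, h0, zero_mul, add_zero, Pi.zero_apply,
      mul_eq_zero] at h
    exact h.resolve_left ha

omit [IsAlgClosed k] in
/-- A hyperplane of a space mapping onto has an image of codimension at most one. -/
theorem exists_indep_image {V W : Type u} [AddCommGroup V] [Module k V] [AddCommGroup W] [Module k W] [Module.Finite k W]
    (L : V →ₗ[k] W) (hL : Function.Surjective L) (φ : Module.Dual k V) {s : ℕ} (hW : s + 1 = Module.finrank k W) :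
    ∃ v : Fin s → V, (∀ a, φ (v a) = 0) ∧ LinearIndependent k fun a => L (v a) := by
  classical
  let U := (LinearMap.ker φ).map L
  have hU : s ≤ Module.finrank k U := by
    by_cases hφ : φ = 0
    · have : U = ⊤ := by
        simp only [U, hφ, LinearMap.ker_zero, Submodule.map_top]
        exact LinearMap.range_eq_top.2 hL
      rw [this, finrank_top]; omega
    · obtain ⟨v₀, hv₀⟩ : ∃ v₀, φ v₀ ≠ 0 := by
        by_contra! h
        exact hφ (LinearMap.ext h)
      have htop : (⊤ : Submodule k W) ≤ U ⊔ Submodule.span k {L v₀} := by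
        intro w _
        obtain ⟨v, rfl⟩ := hL w
        rw [← sub_add_cancel v ((φ v / φ v₀) • v₀), map_add, map_smul]
        refine add_mem (Submodule.mem_sup_left (Submodule.mem_map_of_mem ?_))
          (Submodule.mem_sup_right (Submodule.smul_mem _ _ (Submodule.mem_span_singleton_self _)))
        rw [LinearMap.mem_ker, map_sub, map_smul, smul_eq_mul, div_mul_cancel₀ _ hv₀, sub_self]
      have h1 : Module.finrank k W ≤ Module.finrank k U + Module.finrank k (Submodule.span k {L v₀}) := by
        rw [← finrank_top k W]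
        exact (Submodule.finrank_mono htop).trans (Submodule.finrank_add_le_finrank_add_finrank _ _)
      have h2 : Module.finrank k (Submodule.span k {L v₀}) ≤ 1 := (finrank_span_le_card _).trans (by simp)
      omega
  let b := Module.finBasis k U
  choose v hv using fun a : Fin s => Submodule.mem_map.1 (b (Fin.castLE hU a)).2
  refine ⟨v, fun a => LinearMap.mem_ker.1 (hv a).1, ?_⟩
  have : LinearIndependent k fun a : Fin s => (b (Fin.castLE hU a)).1 :=
    (b.linearIndependent.map' U.subtype U.ker_subtype).comp _ (Fin.castLE_injective hU)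
  convert this using 1
  funext a
  exact (hv a).2

variable [IrreducibleSpace X] [hsm : SmoothOfRelativeDimension n (X ↘ Spec (CommRingCat.of k))]

include hi hsm in
omit [IrreducibleSpace X] in
theorem mulVec_jetMat (C : Chart i n) [Nontrivial C.B] {m : ℕ} (G : Fin m → LefPen.Form r k d) (ev : C.B →ₐ[k] k)
    (e : Fin m → k) : (C.jetMat G).map ev *ᵥ e = C.jetAt hi ev (∑ p, e p • G p) := by
  funext j
  have h := congrArg ev (congrFun (C.mulVec_const hi G e) j)
  simp only [mulVec, dotProduct, map_sum, map_mul, ev.commutes, Algebra.algebraMap_self, RingHom.id_apply] at h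
  exact h

include hi hsm in
/-- Near a point of full enough rank the singular members of a family satisfy an equation. -/
theorem exists_piece {m s : ℕ} (G : Fin m → LefPen.Form r k d) (C : Chart i n) [Nontrivial C.B] (I : Ideal C.B)
    (hdim : ringKrullDim (C.B ⧸ I) ≤ (s : ℕ)) {y : X} (hy : y ∈ C.U.1) (hyc : IsClosed ({y} : Set X))
    (v : Fin (s + 1) → Fin m → k) (hv : LinearIndependent k fun a => C.jetAt hi (C.evAt hy hyc) (∑ p, v a p • G p)) :
    ∃ O : X.Opens, y ∈ O ∧ ∃ g : MvPolynomial (Fin m) k, g ≠ 0 ∧ ∀ z, IsClosed ({z} : Set X) → z ∈ O →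
      ∀ hz : z ∈ C.U.1, I ≤ (C.U.2.primeIdealOf ⟨z, hz⟩).asIdeal →
        ∀ e : Fin m → k, BadAt i (∑ p, e p • G p) z → MvPolynomial.eval e g = 0 := by
  obtain ⟨f, hf, g, hg, hgz⟩ := RankAvoid.exists_poly (C.jetMat G) I hdim (C.evAt hy hyc) v
    (by simpa only [mulVec_jetMat hi] using hv)
  refine ⟨X.basicOpen f, ?_, g, hg, fun z hzc hzO hz hI e hbad => ?_⟩
  · rw [QCoh.mem_basicOpen_iff_notMem C.U.2 hy, ← C.ker_evAt hy hyc]
    exact hf
  · refine hgz (C.evAt hz hzc) (C.ker_evAt hz hzc ▸ hI) ?_ e fun j => ?_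
    · intro h
      exact (QCoh.mem_basicOpen_iff_notMem C.U.2 hz f).1 hzO (C.ker_evAt hz hzc ▸ RingHom.mem_ker.2 h)
    · rw [mulVec_jetMat hi, (C.badAt_iff_jetAt hi _ hz hzc _ (C.ker_evAt hz hzc)).1 hbad]
      rfl

include hi hsm in
omit [IrreducibleSpace X] in
/-- Finitely many pieces give one equation. -/
theorem exists_poly_cover {m : ℕ} (G : Fin m → LefPen.Form r k d) (P : Set X)
    (hP : ∀ y ∈ P, ∃ O : X.Opens, y ∈ O ∧ ∃ g : MvPolynomial (Fin m) k, g ≠ 0 ∧ ∀ z, z ∈ O → z ∈ P →
      ∀ e : Fin m → k, BadAt i (∑ p, e p • G p) z → MvPolynomial.eval e g = 0) :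
    ∃ g : MvPolynomial (Fin m) k, g ≠ 0 ∧ ∀ z ∈ P, ∀ e : Fin m → k, BadAt i (∑ p, e p • G p) z →
      MvPolynomial.eval e g = 0 := by
  classical
  haveI : IsProper (CohB1.ProjSpace.toSpec r k) := PnCoh.Chow.isProper_toSpec r k
  haveI : IsLocallyNoetherian X := LocallyOfFiniteType.isLocallyNoetherian (i ≫ CohB1.ProjSpace.toSpec r k)
  haveI : CompactSpace X := QuasiCompact.compactSpace_of_compactSpace (i ≫ CohB1.ProjSpace.toSpec r k)
  haveI : IsNoetherian X := { }
  choose! O hO g hg hgz using hP
  obtain ⟨T, hT⟩ := (NoetherianSpace.isCompact P).elim_finite_subcover (fun y : P => ((O y.1 : X.Opens) : Set X))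
    (fun y => (O y.1).2) fun z hz => Set.mem_iUnion.2 ⟨⟨z, hz⟩, hO z hz⟩
  refine ⟨∏ y ∈ T, g y.1, Finset.prod_ne_zero_iff.2 fun y _ => hg y.1 y.2, fun z hz e hbad => ?_⟩
  obtain ⟨y, hyT, hzy⟩ := Set.mem_iUnion₂.1 (hT hz)
  rw [map_prod]
  exact Finset.prod_eq_zero hyT (hgz y.1 y.2 z hzy hz e hbad)

end Groth.Agent.H9LefPen

end
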