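import Groth.Agent.H9LefPen.StalkSec

/-! A hypersurface section with an ordinary quadratic point. -/

set_option autoImplicit false
set_option linter.style.haveILetI false
set_option backward.isDefEq.respectTransparency false
set_option backward.isDefEq.respectTransparency.types false
set_option maxHeartbeats 1000000

universe u

open CategoryTheory CategoryTheory.Limits AlgebraicGeometry TopologicalSpace Opposite Matrix
open KaehlerDifferential (D)
open IsLocalRing (maximalIdeal)

noncomputable section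

namespace Groth.Agent.H9LefPen

open Groth.Agent

theorem toStalk_comp {k : Type u} [Field k] {X Y : Scheme.{u}} (f : Y ⟶ X) (g : X ⟶ Spec (CommRingCat.of k)) (y : Y)
    (c : k) : LefPen.toStalk k (f ≫ g) y c = (f.stalkMap y).hom (LefPen.toStalk k g (f y) c) := by
  show (Y.presheaf.germ ⊤ y trivial).hom ((f ≫ g).appTop.hom _) = _
  refine (Eq.trans ?_ (Scheme.Hom.germ_stalkMap_apply f ⊤ y trivial (Coh.toGlobal g c)).symm : _)
  rfl

theorem toStalk_eq_germ {k : Type u} [Field k] {X : Scheme.{u}} [X.Over (Spec (CommRingCat.of k))] (x : X)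
    (U : X.Opens) (hx : x ∈ U) (c : k) :
    LefPen.toStalk k (X ↘ Spec (CommRingCat.of k)) x c = (X.presheaf.germ U x hx).hom (BertiniSec.cst k U c) :=
  (X.presheaf.germ_res_apply (homOfLE (le_top : U ≤ ⊤)) x hx _).symm

variable {k : Type u} [Field k] [IsAlgClosed k] {r d : ℕ} {X : Scheme.{u}} {i : X ⟶ CohB1.ProjSpace r k}
  [IsClosedImmersion i] [X.Over (Spec (CommRingCat.of k))] {m : ℕ}

/-- There are linear forms giving local coordinates at a closed point. -/
theorem Chart.exists_coords (hi : X ↘ Spec (CommRingCat.of k) = i ≫ CohB1.ProjSpace.toSpec r k) {n : ℕ}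
    (C : Chart i n) (t : Γ(X, i ⁻¹ᵁ LefPen.chart r k C.j)) (ht : X.basicOpen t = C.U.1) {x : X} (hx : x ∈ C.U.1)
    (hxc : IsClosed ({x} : Set X)) :
    ∃ L : Fin n → LefPen.Form r k 1, (C.U.2.primeIdealOf ⟨x, hx⟩).asIdeal ≤
      Ideal.span (Set.range fun l => C.pull (L l).1) ⊔ (C.U.2.primeIdealOf ⟨x, hx⟩).asIdeal ^ 2 ∧
      ∀ l, C.pull (L l).1 ∈ (C.U.2.primeIdealOf ⟨x, hx⟩).asIdeal := by
  classical
  let q := (C.U.2.primeIdealOf ⟨x, hx⟩).asIdeal
  haveI : q.IsMaximal := isMaximal_of_closed hx hxc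
  haveI : Nontrivial C.B := (Ideal.Quotient.mk q).domain_nontrivial
  haveI := finite_form (k := k) (r := r) 1
  let b := Module.finBasis k (LefPen.Form r k 1)
  obtain ⟨N, hN⟩ := C.exists_rightInv hi le_rfl t ht b
  choose c hc using exists_const (k := k) q
  let L : Fin n → LefPen.Form r k 1 := fun l => ∑ p, c (N p (some l)) • b p
  have hL : ∀ l j, (Option.elim j (C.pull (L l).1) fun l' => C.ω.coord l' (D k C.B (C.pull (L l).1))) -
      (1 : Matrix (Option (Fin n)) (Option (Fin n)) C.B) j (some l) ∈ q := fun l j => by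
    rw [← congrFun (C.mulVec_const hi b fun p => c (N p (some l))) j, ← hN]
    simp only [mulVec, dotProduct, Matrix.mul_apply, ← Finset.sum_sub_distrib, ← mul_sub]
    refine sum_mem fun p _ => Ideal.mul_mem_left _ _ ?_
    rw [← neg_sub]
    exact neg_mem (hc _)
  have hL0 : ∀ l, C.pull (L l).1 ∈ q := fun l => by simpa using hL l none
  refine ⟨L, fun a ha => ?_, hL0⟩
  let e : Fin n → k := fun l => c (C.ω.coord l (D k C.B a))
  refine Submodule.mem_sup.2 ⟨∑ l, algebraMap k C.B (e l) * C.pull (L l).1,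
    sum_mem fun l _ => Ideal.mul_mem_left _ _ (Ideal.subset_span ⟨l, rfl⟩),
    a - ∑ l, algebraMap k C.B (e l) * C.pull (L l).1, ?_, add_sub_cancel _ _⟩
  refine mem_sq_of_functional_mem q C.ω (sub_mem ha (sum_mem fun l _ => Ideal.mul_mem_left _ _ (hL0 l))) fun l' => ?_
  have e1 : C.ω.coord l' (D k C.B (a - ∑ l, algebraMap k C.B (e l) * C.pull (L l).1)) =
      (C.ω.coord l' (D k C.B a) - algebraMap k C.B (e l')) -
        ∑ l, algebraMap k C.B (e l) * (C.ω.coord l' (D k C.B (C.pull (L l).1)) -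
          (1 : Matrix (Option (Fin n)) (Option (Fin n)) C.B) (some l') (some l)) := by
    simp only [map_sub, map_sum, Derivation.leibniz, Derivation.map_algebraMap, smul_zero, add_zero, map_smul,
      smul_eq_mul, mul_sub, Finset.sum_sub_distrib]
    simp [Matrix.one_apply]
  rw [e1]
  exact sub_mem (hc _) (sum_mem fun l _ => Ideal.mul_mem_left _ _ (hL l (some l')))

theorem exists_ordQuadSing (hi : X ↘ Spec (CommRingCat.of k) = i ≫ CohB1.ProjSpace.toSpec r k)
    [IrreducibleSpace X] [SmoothOfRelativeDimension (m + 1) (X ↘ Spec (CommRingCat.of k))] (x₀ : X)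
    (hx₀ : IsClosed ({x₀} : Set X)) (hd : 2 ≤ d) :
    ∃ (H : LefPen.Form r k d) (y : LefPen.Sec i ({H} : Set (LefPen.Form r k d))),
      LefPen.secι i ({H} : Set (LefPen.Form r k d)) y = x₀ ∧
      LefPen.IsOrdQuadSing k m (LefPen.secToSpec i ({H} : Set (LefPen.Form r k d))) y := by
  classical
  obtain ⟨C, hxC, t, ht⟩ := exists_chart' i (n := m + 1) x₀
  let q := (C.U.2.primeIdealOf ⟨x₀, hxC⟩).asIdeal
  haveI : q.IsMaximal := isMaximal_of_closed hxC hx₀
  obtain ⟨L, hLgen, hL0⟩ := C.exists_coords hi t ht hxC hx₀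
  let Q2 := splitQuad k m
  let P : MvPolynomial (Fin (r + 1)) k :=
    MvPolynomial.aeval (fun l => (L l).1) Q2 * MvPolynomial.X C.j ^ (d - 2)
  have hP : P ∈ CohB1.polyGrading r k d := (MvPolynomial.mem_homogeneousSubmodule _ _).2 (by
    have h := (((MvPolynomial.mem_homogeneousSubmodule _ _).1 (splitQuad_mem k m)).aeval (fun l => (L l).1)
      (n := 1) fun l => (MvPolynomial.mem_homogeneousSubmodule _ _).1 (L l).2).mul
      ((MvPolynomial.isHomogeneous_X k C.j).pow (d - 2))
    rwa [show 1 * 2 + 1 * (d - 2) = d by omega] at h)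
  let H : LefPen.Form r k d := ⟨P, hP⟩
  let s : Fin (m + 1) → C.B := fun l => C.pull (L l).1
  have hH : C.pull H.1 = MvPolynomial.aeval s Q2 := by
    show C.pull (_ * _) = _
    rw [map_mul, map_pow, C.pull_X_self, one_pow, mul_one]
    have : C.pull.comp (MvPolynomial.aeval (R := k) fun l => (L l).1).toRingHom = (MvPolynomial.aeval (R := k) s).toRingHom :=
      MvPolynomial.ringHom_ext (fun c => by simp [MvPolynomial.algebraMap_eq, C.pull_C hi]) fun l => by simp [s]
    exact congrArg (fun f => f Q2) this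
  have hQvars : (Q2 : MvPowerSeries (Fin (m + 1)) k) ∈ PSLib.vars (m + 1) k := by
    rw [PSLib.mem_vars_iff, ← MvPowerSeries.coeff_zero_eq_constantCoeff_apply, MvPolynomial.coeff_coe]
    exact MvPolynomial.IsHomogeneous.coeff_eq_zero ((MvPolynomial.mem_homogeneousSubmodule _ _).1 (splitQuad_mem k m))
      (by simp)
  have hHq : C.pull H.1 ∈ q := by
    rw [hH]
    have hmem : Q2 ∈ MvPolynomial.idealOfVars (Fin (m + 1)) k := by
      rw [← pow_one (MvPolynomial.idealOfVars _ k), MvPolynomial.mem_pow_idealOfVars_iff']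
      intro x hx
      exact MvPolynomial.IsHomogeneous.coeff_eq_zero ((MvPolynomial.mem_homogeneousSubmodule _ _).1 (splitQuad_mem k m))
        (by omega)
    refine (Ideal.map_le_iff_le_comap.1 ?_ hmem : Q2 ∈ q.comap (MvPolynomial.aeval s).toRingHom)
    rw [MvPolynomial.idealOfVars, Ideal.map_span, Ideal.span_le]
    rintro _ ⟨_, ⟨l, rfl⟩, rfl⟩
    simpa [s] using hL0 l
  let I := LefPen.secIdeal i ({H} : Set (LefPen.Form r k d))
  have hsupp : x₀ ∈ Set.range I.subschemeι := by
    rw [Scheme.IdealSheafData.range_subschemeι]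
    show x₀ ∈ (I.support : Set X)
    refine (I.coe_support_inter C.U ▸ (⟨?_, hxC⟩ : x₀ ∈ X.zeroLocus (U := C.U.1) (I.ideal C.U) ∩ C.U.1) :
      x₀ ∈ (I.support : Set X) ∩ C.U.1).1
    rw [Scheme.mem_zeroLocus_iff, C.ideal_sec]
    intro f hf hxf
    obtain ⟨g, rfl⟩ := Ideal.mem_span_singleton'.1 hf
    exact (QCoh.mem_basicOpen_iff_notMem C.U.2 hxC _).1 hxf (Ideal.mul_mem_left _ _ hHq)
  obtain ⟨y, rfl⟩ := hsupp
  refine ⟨H, y, rfl, ?_, ?_⟩
  · have := hx₀.preimage I.subschemeι.continuous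
    rwa [show I.subschemeι ⁻¹' {I.subschemeι y} = {y} from Set.ext fun z =>
      ⟨fun h => I.subschemeι.isEmbedding.injective h, fun h => by rw [Set.mem_singleton_iff.1 h]; rfl⟩] at this
  let S := X.presheaf.stalk (I.subschemeι y)
  letI algBS : Algebra C.B S := (X.presheaf.germ C.U.1 _ hxC).hom.toAlgebra
  haveI : IsLocalization.AtPrime S q := C.U.2.isLocalization_stalk ⟨_, hxC⟩
  letI : Algebra k S := (LefPen.toStalk k (X ↘ Spec (CommRingCat.of k)) (I.subschemeι y)).toAlgebra
  haveI : IsScalarTower k C.B S := IsScalarTower.of_algebraMap_eq fun c => toStalk_eq_germ _ _ hxC c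
  haveI : IsNoetherianRing C.B := Algebra.FiniteType.isNoetherianRing k C.B
  haveI : IsNoetherianRing S := IsLocalization.isNoetherianRing q.primeCompl S inferInstance
  have hmS : q.map (algebraMap C.B S) = maximalIdeal S := IsLocalization.AtPrime.map_eq_maximalIdeal q S
  let σ : Fin (m + 1) → S := fun l => algebraMap C.B S (s l)
  have hdim : ringKrullDim S = ((m + 1 : ℕ) : WithBot ℕ∞) := by
    rw [IsLocalization.AtPrime.ringKrullDim_eq_height q S]
    exact height_maximal k C.B (m + 1) q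
  have hres : ∀ z : S, ∃ a : k, z - algebraMap k S a ∈ maximalIdeal S := fun z => by
    obtain ⟨⟨b, u⟩, rfl⟩ := IsLocalization.mk'_surjective q.primeCompl z
    obtain ⟨cb, hcb⟩ := exists_const (k := k) q b
    obtain ⟨cu, hcu⟩ := exists_const (k := k) q u.1
    have hcu0 : cu ≠ 0 := fun h => u.2 (by simpa [h] using hcu)
    refine ⟨cb / cu, ?_⟩
    have hu : IsUnit (algebraMap C.B S u.1) := IsLocalization.map_units S u
    show IsLocalization.mk' S b u - algebraMap k S (cb / cu) ∈ maximalIdeal S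
    rw [← Ideal.mul_unit_mem_iff_mem _ hu, sub_mul, IsLocalization.mk'_spec,
      IsScalarTower.algebraMap_apply k C.B S, ← map_mul, ← map_sub, ← hmS]
    refine Ideal.mem_map_of_mem _ ?_
    rw [show b - algebraMap k C.B (cb / cu) * u.1 = (b - algebraMap k C.B cb) -
      algebraMap k C.B (cb / cu) * (u.1 - algebraMap k C.B cu) by
        rw [mul_sub, ← map_mul, div_mul_cancel₀ _ hcu0]; ring]
    exact sub_mem hcb (Ideal.mul_mem_left _ _ hcu)
  have hgen : maximalIdeal S = Ideal.span (Set.range σ) := by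
    refine le_antisymm (PSQuad.maximalIdeal_le_of_le_sup_sq ?_) (Ideal.span_le.2 ?_)
    · have h1 := Ideal.map_mono (f := algebraMap C.B S) hLgen
      rwa [Ideal.map_sup, Ideal.map_pow, hmS, Ideal.map_span, ← Set.range_comp] at h1
    · rintro _ ⟨l, rfl⟩
      exact hmS ▸ Ideal.mem_map_of_mem _ (hL0 l)
  let A := (LefPen.Sec i ({H} : Set (LefPen.Form r k d))).presheaf.stalk y
  let g := LefPen.secToSpec i ({H} : Set (LefPen.Form r k d))
  letI : Algebra k A := (LefPen.toStalk k g y).toAlgebra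
  let π : S →ₐ[k] A := AlgHom.mk (I.subschemeι.stalkMap y).hom fun c => by
    show (I.subschemeι.stalkMap y).hom (LefPen.toStalk k (X ↘ Spec (CommRingCat.of k)) (I.subschemeι y) c) = _
    rw [← toStalk_comp, hi]
    rfl
  have hker : RingHom.ker π = Ideal.span {MvPolynomial.aeval σ Q2} := by
    refine (ker_stalkMap_subschemeι y C.U hxC _ (C.ideal_sec H)).trans ?_
    rw [hH]
    refine congrArg (fun z => Ideal.span {z}) ?_
    exact (MvPolynomial.aeval_algebraMap_apply S s Q2).symm
  obtain ⟨e⟩ := completion_quotient S hres hdim σ hgen Q2 hQvars A π (I.subschemeι.stalkMap_surjective y) hker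
  refine ⟨(Q2 : MvPowerSeries (Fin (m + 1)) k), ⟨Q2, splitQuad_mem k m⟩, e.symm.toRingEquiv, fun c => ?_, fun z hz => ?_,
    fun z _ => (MvPolynomial.coeff_coe ..).symm, ?_, Or.inr (smooth_splitQuad k m)⟩
  · show e.symm (algebraMap A _ (algebraMap k A c)) = _
    rw [← IsScalarTower.algebraMap_apply, AlgEquiv.commutes]
    rfl
  · rw [MvPolynomial.coeff_coe]
    exact MvPolynomial.IsHomogeneous.coeff_eq_zero ((MvPolynomial.mem_homogeneousSubmodule _ _).1 (splitQuad_mem k m))
      (by omega)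
  · exact splitQuad_ne_zero k m

end Groth.Agent.H9LefPen

end
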