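import Groth.Agent.PSQuad.Hypersurface
import Groth.Agent.SmoothDim.Basic
import Groth.Agent.HypCurve.Smooth
import Groth.Prelude.Def_LefPen

/-! Completed local rings at rational smooth points and the split quadric. -/

set_option autoImplicit false
set_option linter.style.haveILetI false
set_option maxHeartbeats 800000

universe u

noncomputable section

namespace Groth.Agent.H9LefPen

open Groth.Agent IsLocalRing AlgebraicGeometry CategoryTheory

variable {k : Type u} [Field k] {n : ℕ}

/-- A regular local ring with rational residue field maps to power series in a system of parameters. -/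
theorem exists_toPowerSeries (S : Type u) [CommRing S] [IsLocalRing S] [IsNoetherianRing S] [Algebra k S]
    (hres : ∀ s : S, ∃ a : k, s - algebraMap k S a ∈ maximalIdeal S) (hdim : ringKrullDim S = n)
    (σ : Fin n → S) (hgen : maximalIdeal S = Ideal.span (Set.range σ)) :
    ∃ Φ : S →ₐ[k] MvPowerSeries (Fin n) k, ∀ l, Φ (σ l) = MvPowerSeries.X l := by
  classical
  let Cp := AdicCompletion (maximalIdeal S) S
  haveI : IsAdicComplete (maximalIdeal Cp) Cp := NodeLib.isAdicComplete_maximalIdeal S
  haveI : IsNoetherianRing Cp := LC.Canon.isNoetherianRing_completion (R := S)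
  have hmC : maximalIdeal Cp = (maximalIdeal S).map (algebraMap S Cp) := AdicCompletion.maximalIdeal_eq_map
  have hb : ∀ i, algebraMap S Cp (σ i) ∈ maximalIdeal Cp := fun i => by
    rw [hmC]; exact Ideal.mem_map_of_mem _ (hgen ▸ Ideal.subset_span ⟨i, rfl⟩)
  obtain ⟨Ψ, hΨ⟩ := PSLib.exists_algHom (R := k) (maximalIdeal Cp) _ hb
  have hsurj : Function.Surjective Ψ := by
    refine PSLib.surjective_of_span (K := k) (n := n) (R := Cp) ?_ Ψ (fun i => (hΨ i).symm ▸ hb i) ?_
    · intro z
      obtain ⟨z, rfl⟩ := IsLocalRing.residue_surjective z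
      obtain ⟨s, hs⟩ := Adic7.exists_sub_algebraMap_mem (maximalIdeal S) (IsNoetherian.noetherian _) z 1
      rw [pow_one, ← hmC] at hs
      obtain ⟨a, ha⟩ := hres s
      refine ⟨a, ?_⟩
      rw [RingHom.comp_apply, eq_comm, ← sub_eq_zero, ← map_sub, residue_eq_zero_iff,
        show z - algebraMap k Cp a = (z - algebraMap S Cp s) + algebraMap S Cp (s - algebraMap k S a) by
          rw [map_sub, ← IsScalarTower.algebraMap_apply]; ring]
      exact add_mem hs (hmC ▸ Ideal.mem_map_of_mem _ ha)
    · refine le_trans ?_ le_sup_left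
      rw [hmC, show (maximalIdeal S).map (algebraMap S Cp) = _ from congrArg (Ideal.map (algebraMap S Cp)) hgen,
        Ideal.map_span, ← Set.range_comp]
      exact Ideal.span_mono (Set.range_subset_iff.2 fun i => ⟨i, hΨ i⟩)
  have hinj : Function.Injective Ψ := by
    rw [injective_iff_map_eq_zero]
    intro z hz
    by_contra hne
    have h1 := ringKrullDim_quotient_succ_le_of_nonZeroDivisor (mem_nonZeroDivisors_of_ne_zero hne)
    let f : MvPowerSeries (Fin n) k ⧸ Ideal.span {z} →+* Cp :=
      Ideal.Quotient.lift _ Ψ.toRingHom (fun a ha => by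
        obtain ⟨b, rfl⟩ := Ideal.mem_span_singleton'.1 ha
        show Ψ (b * z) = 0
        rw [map_mul, hz, mul_zero])
    have h2 := ringKrullDim_le_of_surjective f (Ideal.Quotient.lift_surjective_of_surjective _ _ hsurj)
    rw [CILib.ringKrullDim_adicCompletion, hdim] at h2
    rw [PSLib.ringKrullDim_eq] at h1
    have h3 := (add_le_add_left h2 1).trans h1
    norm_cast at h3
    omega
  let e := AlgEquiv.ofBijective Ψ ⟨hinj, hsurj⟩
  refine ⟨e.symm.toAlgHom.comp (IsScalarTower.toAlgHom k S Cp), fun l => ?_⟩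
  show e.symm (algebraMap S Cp (σ l)) = _
  rw [← hΨ]
  exact e.symm_apply_apply _

/-- The completion of a hypersurface germ cut out by a polynomial in a system of parameters. -/
theorem completion_quotient (S : Type u) [CommRing S] [IsLocalRing S] [IsNoetherianRing S] [Algebra k S]
    (hres : ∀ s : S, ∃ a : k, s - algebraMap k S a ∈ maximalIdeal S) (hdim : ringKrullDim S = n)
    (σ : Fin n → S) (hgen : maximalIdeal S = Ideal.span (Set.range σ))
    (g : MvPolynomial (Fin n) k) (hg : (g : MvPowerSeries (Fin n) k) ∈ PSLib.vars n k)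
    (A : Type u) [CommRing A] [IsLocalRing A] [Algebra k A] (π : S →ₐ[k] A) (hπ : Function.Surjective π)
    (hker : RingHom.ker π = Ideal.span {MvPolynomial.aeval σ g}) :
    Nonempty ((MvPowerSeries (Fin n) k ⧸ Ideal.span {(g : MvPowerSeries (Fin n) k)}) ≃ₐ[k]
      AdicCompletion (maximalIdeal A) A) := by
  haveI : IsNoetherianRing A := isNoetherianRing_of_surjective S A π.toRingHom hπ
  obtain ⟨Φ, hΦ⟩ := exists_toPowerSeries S hres hdim σ hgen
  have hmA : (maximalIdeal S).map π = maximalIdeal A := map_maximalIdeal_of_surjective π.toRingHom hπ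
  have hΦp : ∀ p : MvPolynomial (Fin n) k, Φ (MvPolynomial.aeval σ p) = (p : MvPowerSeries (Fin n) k) := fun p => by
    have : Φ.comp (MvPolynomial.aeval σ) = MvPolynomial.coeToMvPowerSeries.algHom k :=
      MvPolynomial.algHom_ext fun i => by simp [hΦ]
    simpa using AlgHom.congr_fun this p
  let q := (Ideal.Quotient.mkₐ k (Ideal.span {(g : MvPowerSeries (Fin n) k)})).comp Φ
  have hq : RingHom.ker π ≤ RingHom.ker q := by
    rw [hker, Ideal.span_le, Set.singleton_subset_iff]
    show Ideal.Quotient.mk _ (Φ (MvPolynomial.aeval σ g)) = 0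
    rw [hΦp, Ideal.Quotient.eq_zero_iff_mem]
    exact Ideal.mem_span_singleton_self _
  refine PSQuad.exists_completion_equiv A (fun a => ?_) g hg (π.comp (MvPolynomial.aeval σ)) ?_ ?_
    (AlgHom.liftOfSurjective π hπ q hq) fun p => ?_
  · obtain ⟨s, rfl⟩ := hπ a
    obtain ⟨c, hc⟩ := hres s
    refine ⟨c, ?_⟩
    have := Ideal.mem_map_of_mem π hc
    rwa [hmA, map_sub, AlgHom.commutes] at this
  · rw [← hmA, hgen, MvPolynomial.idealOfVars, Ideal.map_span, Ideal.map_span, ← Set.range_comp, ← Set.range_comp]
    congr 2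
    funext i
    simp
  · rw [AlgHom.comp_apply]
    exact hker.ge (Ideal.mem_span_singleton_self _)
  · refine (AlgHom.liftOfSurjective_apply π hπ q hq _).trans ?_
    exact congrArg (Ideal.Quotient.mk _) (hΦp p)

section Split

open MvPolynomial

/-- The split quadratic form, with a square for the odd variable. -/
def splitQuad (k : Type u) [Field k] (m : ℕ) : MvPolynomial (Fin (m + 1)) k :=
  ∑ j : Fin (m + 1), if Even j.1 then (if h : j.1 + 1 < m + 1 then X j * X ⟨j.1 + 1, h⟩ else X j * X j) else 0

variable (k) (m : ℕ)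

theorem splitQuad_mem : splitQuad k m ∈ CohB1.polyGrading m k 2 := by
  refine sum_mem fun j _ => ?_
  have h2 : ∀ a b : Fin (m + 1), (X a * X b : MvPolynomial (Fin (m + 1)) k) ∈ CohB1.polyGrading m k 2 := fun a b =>
    (mem_homogeneousSubmodule _ _).2 ((isHomogeneous_X k a).mul (isHomogeneous_X k b))
  split_ifs
  · exact h2 _ _
  · exact h2 _ _
  · exact zero_mem _

theorem splitQuad_ne_zero : splitQuad k m ≠ 0 := by
  classical
  intro h
  have h1 := congrArg (eval fun l : Fin (m + 1) => if l.1 ≤ 1 then (1 : k) else 0) h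
  rw [splitQuad, map_sum, map_zero, Finset.sum_eq_single (0 : Fin (m + 1))] at h1
  · rw [if_pos (by simp)] at h1
    split_ifs at h1 <;> simp [eval_X] at h1
  · intro j _ hj
    split_ifs with he hlt
    · have : 2 ≤ j.1 := by
        rcases he with ⟨a, ha⟩
        have : j.1 ≠ 0 := fun e => hj (Fin.ext e)
        omega
      simp [show ¬ j.1 ≤ 1 by omega]
    · have : 2 ≤ j.1 := by
        rcases he with ⟨a, ha⟩
        have : j.1 ≠ 0 := fun e => hj (Fin.ext e)
        omega
      simp [show ¬ j.1 ≤ 1 by omega]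
    · rw [map_zero]
  · exact fun h => absurd (Finset.mem_univ _) h

theorem smooth_splitQuad :
    Smooth ((LefPen.hypIdeal (⟨splitQuad k m, splitQuad_mem k m⟩ : LefPen.Form m k 2)).subschemeι ≫
      CohB1.ProjSpace.toSpec m k) := by
  classical
  rw [HypCurve.smooth_iff_no_singular_point (fun h => splitQuad_ne_zero k m (Subtype.ext_iff.1 h))]
  intro i v hv h0
  by_contra! hall
  -- the partial derivatives exhibit the paired coordinates
  have hder : ∀ (a : Fin (m + 1)) (ha : Even a.1) (hlt : a.1 + 1 < m + 1),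
      v ⟨a.1 + 1, hlt⟩ = 0 ∧ v a = 0 := by
    intro a ha hlt
    have hne : ∀ j : Fin (m + 1), Even j.1 → j ≠ a → j.1 ≠ a.1 + 1 ∧ j.1 + 1 ≠ a.1 ∧ j.1 ≠ a.1 := by
      intro j hj hja
      have : j.1 ≠ a.1 := fun e => hja (Fin.ext e)
      rcases hj with ⟨x, hx⟩
      rcases ha with ⟨y, hy⟩
      omega
    constructor
    · have h1 := hall a
      simp only [splitQuad, map_sum] at h1
      rw [Finset.sum_eq_single a] at h1
      · rw [if_pos ha, dif_pos hlt, pderiv_mul, pderiv_X_self, pderiv_X_of_ne (by simp [Fin.ext_iff])] at h1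
        simpa using h1
      · intro j _ hja
        split_ifs with hj h
        · obtain ⟨e1, e2, e3⟩ := hne j hj hja
          rw [pderiv_mul, pderiv_X_of_ne (by simpa [Fin.ext_iff] using e3),
            pderiv_X_of_ne (by simpa [Fin.ext_iff] using e2)]
          simp
        · obtain ⟨e1, e2, e3⟩ := hne j hj hja
          rw [pderiv_mul, pderiv_X_of_ne (by simpa [Fin.ext_iff] using e3)]
          simp
        · simp
      · exact fun h => absurd (Finset.mem_univ _) h
    · have h1 := hall ⟨a.1 + 1, hlt⟩
      simp only [splitQuad, map_sum] at h1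
      rw [Finset.sum_eq_single a] at h1
      · rw [if_pos ha, dif_pos hlt, pderiv_mul, pderiv_X_self, pderiv_X_of_ne (by simp [Fin.ext_iff])] at h1
        simpa using h1
      · intro j _ hja
        split_ifs with hj h
        · obtain ⟨e1, e2, e3⟩ := hne j hj hja
          rw [pderiv_mul, pderiv_X_of_ne (by simpa [Fin.ext_iff] using e1),
            pderiv_X_of_ne (by simp [Fin.ext_iff]; omega)]
          simp
        · obtain ⟨e1, e2, e3⟩ := hne j hj hja
          rw [pderiv_mul, pderiv_X_of_ne (by simpa [Fin.ext_iff] using e1)]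
          simp
        · simp
      · exact fun h => absurd (Finset.mem_univ _) h
  have hi : Even i.1 ∧ ¬ i.1 + 1 < m + 1 := by
    rcases Nat.even_or_odd i.1 with he | ho
    · refine ⟨he, fun h => ?_⟩
      exact one_ne_zero (hv.symm.trans (hder i he h).2)
    · exfalso
      obtain ⟨a, ha⟩ := ho
      refine one_ne_zero (hv.symm.trans ?_)
      have hlt : 2 * a + 1 < m + 1 := ha ▸ i.2
      have := (hder ⟨2 * a, by omega⟩ (even_two_mul a) hlt).1
      rwa [show i = ⟨2 * a + 1, hlt⟩ from Fin.ext ha]
  simp only [splitQuad, map_sum] at h0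
  rw [Finset.sum_eq_single i] at h0
  · rw [if_pos hi.1, dif_neg hi.2, map_mul, aeval_X, hv, mul_one] at h0
    exact one_ne_zero h0
  · intro j _ hji
    split_ifs with hj h
    · rw [map_mul, aeval_X, (hder j hj h).2, zero_mul]
    · refine absurd (Fin.ext ?_) hji
      have := j.2
      have := i.2
      have := hi.2
      omega
    · rw [map_zero]
  · exact fun h => absurd (Finset.mem_univ _) h

end Split

end Groth.Agent.H9LefPen

end
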