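import Groth.Agent.H9LefPen.JetsChart
import Groth.Agent.H9LefPen.Irred
import Groth.Agent.H9LefPen.QuadRing
import Groth.Agent.AlgSpLib.CartierDepth

/-! A hypersurface section with an ordinary quadratic point. -/

set_option autoImplicit false
set_option linter.style.haveILetI false
set_option backward.isDefEq.respectTransparency false
set_option backward.isDefEq.respectTransparency.types false
set_option maxHeartbeats 1000000

universe u

open CategoryTheory CategoryTheory.Limits AlgebraicGeometry TopologicalSpace Opposite Matrix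
open KaehlerDifferential (D)
open IsLocalRing (maximalIdeal)

noncomputable section

namespace Groth.Agent.H9LefPen

open Groth.Agent

theorem height_maximal (k B : Type u) [Field k] [CommRing B] [Algebra k B] (n : ℕ)
    [Algebra.IsStandardSmoothOfRelativeDimension n k B] (m : Ideal B) [hm : m.IsMaximal] :
    (m.height : WithBot ℕ∞) = n := by
  haveI : Nontrivial B := (Ideal.Quotient.mk m).domain_nontrivial
  refine le_antisymm ((Ideal.height_le_ringKrullDim_of_ne_top hm.ne_top).trans (SmoothDim.ringKrullDim_eq k B n).le) ?_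
  obtain ⟨g, hg⟩ := Algebra.IsStandardSmoothOfRelativeDimension.exists_etale_mvPolynomial (n := n) k B
  let R := MvPolynomial (Fin n) k
  let : Algebra R B := g.toRingHom.toAlgebra
  have : IsScalarTower k R B := IsScalarTower.of_algebraMap_eq fun x => (g.commutes x).symm
  have : Algebra.Etale R B := hg
  have : Algebra.FiniteType k B := Algebra.FiniteType.trans (S := R) inferInstance inferInstance
  have : IsNoetherianRing B := Algebra.FiniteType.isNoetherianRing k B
  have : IsJacobsonRing R := inferInstance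
  let M : PrimeSpectrum R := ⟨m.under R, inferInstance⟩
  have hM : M.asIdeal.IsMaximal := by
    let _ := Ideal.Quotient.field m
    have : Module.Finite k (B ⧸ m) := finite_of_finite_type_of_isJacobsonRing k (B ⧸ m)
    have : Algebra.IsIntegral R (B ⧸ m) := Algebra.IsIntegral.tower_top k
    have h : ((⊥ : Ideal (B ⧸ m)).comap (algebraMap R (B ⧸ m))).IsMaximal :=
      Ideal.isMaximal_comap_of_isIntegral_of_isMaximal _
    convert! h using 1
    show m.comap (algebraMap R B) = _
    rw [IsScalarTower.algebraMap_eq R B (B ⧸ m), ← Ideal.comap_comap, Ideal.Quotient.algebraMap_eq,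
      ← RingHom.ker_eq_comap_bot, Ideal.mk_ker]
  have h1 : (M.asIdeal).height ≤ m.height := by
    rw [Ideal.height_eq_height_add_of_liesOver_of_hasGoingDown M.asIdeal m]
    exact le_self_add
  rw [M.height_eq_orderHeight, SmoothDim.height_maximal_mvPolynomial k n M hM] at h1
  exact WithBot.coe_le_coe.2 h1

theorem ker_stalkMap_subschemeι {X : Scheme.{u}} {I : X.IdealSheafData} (d : ↥I.subscheme) (U : X.affineOpens)
    (hdU : I.subschemeι d ∈ U.1) (a : Γ(X, U.1)) (hU : I.ideal U = Ideal.span {a}) :
    RingHom.ker (I.subschemeι.stalkMap d).hom =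
      Ideal.span {(X.presheaf.germ U.1 (I.subschemeι d) hdU).hom a} := by
  let p := (U.2.primeIdealOf ⟨I.subschemeι d, hdU⟩).asIdeal
  let _ := X.presheaf.algebra_section_stalk (⟨I.subschemeι d, hdU⟩ : U.1)
  have : IsLocalization.AtPrime (X.presheaf.stalk (I.subschemeι d)) p :=
    U.2.isLocalization_stalk ⟨I.subschemeι d, hdU⟩
  let g : X.presheaf.stalk (I.subschemeι d) := X.presheaf.germ U.1 _ hdU a
  have key : ∀ b : Γ(X, U.1), I.subschemeι.stalkMap d (X.presheaf.germ U.1 _ hdU b) =
      I.subscheme.presheaf.germ (I.subschemeι ⁻¹ᵁ U.1) d hdU (I.subschemeι.app U.1 b) := fun b =>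
    Scheme.Hom.germ_stalkMap_apply I.subschemeι U.1 d hdU b
  have hker : ∀ b, b ∈ I.ideal U ↔ I.subschemeι.app U.1 b = 0 := fun b => by
    rw [← I.ker_subschemeι_app U]; rfl
  refine le_antisymm (fun s hs => ?_) ?_
  · obtain ⟨⟨b, c⟩, hbc⟩ := IsLocalization.surj p.primeCompl s
    have hb : I.subscheme.presheaf.germ (I.subschemeι ⁻¹ᵁ U.1) d hdU (I.subschemeι.app U.1 b) = 0 := by
      rw [← key]
      show (I.subschemeι.stalkMap d).hom (algebraMap Γ(X, U.1) _ b) = 0
      rw [← hbc, map_mul, RingHom.mem_ker.1 hs, zero_mul]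
    have hV : IsAffineOpen (I.subschemeι ⁻¹ᵁ U.1) := U.2.preimage _
    let q := (hV.primeIdealOf ⟨d, hdU⟩).asIdeal
    let _ := I.subscheme.presheaf.algebra_section_stalk (⟨d, hdU⟩ : (I.subschemeι ⁻¹ᵁ U.1 : I.subscheme.Opens))
    have : IsLocalization.AtPrime (I.subscheme.presheaf.stalk d) q := hV.isLocalization_stalk ⟨d, hdU⟩
    obtain ⟨⟨c', hc'⟩, h0⟩ := (IsLocalization.map_eq_zero_iff q.primeCompl (I.subscheme.presheaf.stalk d)
      (I.subschemeι.app U.1 b)).1 hb
    obtain ⟨e, rfl⟩ := I.subschemeι_app_surjective U c'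
    have he : IsUnit (algebraMap Γ(X, U.1) (X.presheaf.stalk (I.subschemeι d)) e) := by
      refine isUnit_of_map_unit (I.subschemeι.stalkMap d).hom _ ?_
      show IsUnit (I.subschemeι.stalkMap d (X.presheaf.germ U.1 _ hdU e))
      rw [key]
      exact IsLocalization.map_units (I.subscheme.presheaf.stalk d) (⟨_, hc'⟩ : q.primeCompl)
    have hmem : e * b ∈ Ideal.span {a} := hU ▸ (hker _).2 (by rw [map_mul]; exact h0)
    obtain ⟨z, hz⟩ := Ideal.mem_span_singleton'.1 hmem
    have hcu := IsLocalization.map_units (X.presheaf.stalk (I.subschemeι d)) c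
    rw [Ideal.mem_span_singleton]
    refine (hcu.dvd_mul_right).1 ?_
    rw [hbc]
    refine (he.dvd_mul_left).1 ?_
    rw [← map_mul, ← hz, map_mul]
    exact dvd_mul_left _ _
  · rw [Ideal.span_le, Set.singleton_subset_iff]
    show I.subschemeι.stalkMap d g = 0
    rw [key, (hker a).1 (hU ▸ Ideal.mem_span_singleton_self a), map_zero]

end Groth.Agent.H9LefPen

end
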