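import Groth.Agent.H9LefPen.SecPair
import Groth.Agent.H9LefPen.Irred
import Groth.Agent.H9LefPen.StalkSec

/-! Transversality of a pair of sections read on the members of their pencil. -/

set_option autoImplicit false
set_option linter.style.haveILetI false
set_option backward.isDefEq.respectTransparency false
set_option backward.isDefEq.respectTransparency.types false
set_option maxHeartbeats 1000000

universe u

open CategoryTheory CategoryTheory.Limits AlgebraicGeometry TopologicalSpace Opposite Matrix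
open KaehlerDifferential (D)
open IsLocalRing (maximalIdeal)

noncomputable section

namespace Groth.Agent.H9LefPen

open Groth.Agent

variable {k : Type u} [Field k] {r d : ℕ} {X : Scheme.{u}} (i : X ⟶ CohB1.ProjSpace r k)

theorem secIdeal_pair (F G : LefPen.Form r k d) :
    LefPen.secIdeal i ({F, G} : Set (LefPen.Form r k d)) = (LefPen.hypIdeal F ⊔ LefPen.hypIdeal G).comap i := by
  rw [LefPen.secIdeal, iSup_pair]

/-- The base locus depends only on the pencil. -/
theorem secIdeal_pair_add_smul (F G : LefPen.Form r k d) (c : k) :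
    LefPen.secIdeal i ({F + c • G, G} : Set (LefPen.Form r k d)) = LefPen.secIdeal i ({F, G} : Set (LefPen.Form r k d)) := by
  rw [secIdeal_pair, secIdeal_pair]
  congr 1
  refine Scheme.IdealSheafData.ext_of_iSup_eq_top (fun j => HypCurve.achart r k j) (HypCurve.iSup_chart r k) fun j => ?_
  have e : LefPen.dehom (F + c • G) j = LefPen.dehom F j + LefPen.dehom (c • G) j := by
    rw [HypCurve.dehom_eq, HypCurve.dehom_eq, HypCurve.dehom_eq, Submodule.coe_add, map_add, map_add]
  have hc : LefPen.dehom (c • G) j ∈ Ideal.span {LefPen.dehom G j} := by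
    rcases eq_or_ne c 0 with rfl | hc0
    · rw [zero_smul, show LefPen.dehom (0 : LefPen.Form r k d) j = 0 by rw [HypCurve.dehom_eq]; simp [ZetaLib.dehom]]
      exact zero_mem _
    · rw [← HypCurve.Scale.span_dehom_smul k G hc0 j]; exact Ideal.mem_span_singleton_self _
  simp only [Scheme.IdealSheafData.ideal_sup, Pi.sup_apply, HypCurve.hypIdeal_chart]
  refine le_antisymm (sup_le ((Ideal.span_singleton_le_iff_mem _).2 (e ▸ add_mem
    (Submodule.mem_sup_left (Ideal.mem_span_singleton_self _)) (Submodule.mem_sup_right hc))) le_sup_right)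
    (sup_le ((Ideal.span_singleton_le_iff_mem _).2 ?_) le_sup_right)
  rw [← add_sub_cancel_right (LefPen.dehom F j) (LefPen.dehom (c • G) j), ← e]
  exact sub_mem (Submodule.mem_sup_left (Ideal.mem_span_singleton_self _)) (Submodule.mem_sup_right hc)

theorem transversal_pair_add_smul (n : ℕ) (F G : LefPen.Form r k d) (c : k) :
    LefPen.Transversal k n 2 (LefPen.secToSpec i ({F + c • G, G} : Set (LefPen.Form r k d))) ↔
      LefPen.Transversal k n 2 (LefPen.secToSpec i ({F, G} : Set (LefPen.Form r k d))) := by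
  have key : ∀ I : X.IdealSheafData, I = LefPen.secIdeal i ({F, G} : Set (LefPen.Form r k d)) →
      (LefPen.Transversal k n 2 (I.subschemeι ≫ i ≫ CohB1.ProjSpace.toSpec r k) ↔
        LefPen.Transversal k n 2 (LefPen.secToSpec i ({F, G} : Set (LefPen.Form r k d)))) := by
    rintro I rfl; exact Iff.rfl
  exact key _ (secIdeal_pair_add_smul i F G c)

variable [IsAlgClosed k] [IsClosedImmersion i] [X.Over (Spec (CommRingCat.of k))] {n : ℕ}

/-- Pulling a function back to a section loses multiples of its equation. -/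
theorem badAt_sec_iff (hi : X ↘ Spec (CommRingCat.of k) = i ≫ CohB1.ProjSpace.toSpec r k)
    [SmoothOfRelativeDimension n (X ↘ Spec (CommRingCat.of k))] (F G : LefPen.Form r k d)
    (z : LefPen.Sec i ({F} : Set (LefPen.Form r k d)))
    (hz : IsClosed ({LefPen.secι i ({F} : Set (LefPen.Form r k d)) z} : Set X)) :
    BadAt (LefPen.secι i ({F} : Set (LefPen.Form r k d)) ≫ i) G z ↔
      ∃ a : k, BadAt i (G + a • F) (LefPen.secι i ({F} : Set (LefPen.Form r k d)) z) := by
  let ι' := LefPen.secι i ({F} : Set (LefPen.Form r k d))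
  obtain ⟨C, hx, -⟩ := exists_chart' i (n := n) (ι' z)
  let x := ι' z
  let q := (C.U.2.primeIdealOf ⟨x, hx⟩).asIdeal
  haveI : q.IsMaximal := isMaximal_of_closed hx hz
  let V : (LefPen.Sec i ({F} : Set (LefPen.Form r k d))).affineOpens :=
    ⟨ι' ⁻¹ᵁ C.U.1, C.U.2.preimage ι'⟩
  have hV : (LefPen.secIdeal (ι' ≫ i) ({G} : Set (LefPen.Form r k d))).ideal V =
      Ideal.span {(ι'.appLE C.U.1 V.1 le_rfl).hom (C.pull G.1)} := by
    have e : LefPen.secIdeal (ι' ≫ i) ({G} : Set (LefPen.Form r k d)) =
        (LefPen.secIdeal i ({G} : Set (LefPen.Form r k d))).comap ι' := by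
      rw [LefPen.secIdeal, LefPen.secIdeal, Scheme.IdealSheafData.comap_comp]
    rw [e, ModPairLib.ideal_comap _ ι' C.U V le_rfl, C.ideal_sec, Ideal.map_span, Set.image_singleton]
  rw [H9LefPen.badAt_iff (ι' ≫ i) (show z ∈ V.1 from hx) _ hV]
  let S := X.presheaf.stalk x
  let A := (LefPen.Sec i ({F} : Set (LefPen.Form r k d))).presheaf.stalk z
  let π : S →+* A := (ι'.stalkMap z).hom
  have hπ : Function.Surjective π := Scheme.Hom.stalkMap_surjective _ z
  letI : Algebra C.B S := (X.presheaf.germ C.U.1 _ hx).hom.toAlgebra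
  haveI : IsLocalization.AtPrime S q := C.U.2.isLocalization_stalk ⟨_, hx⟩
  have hker : RingHom.ker π = Ideal.span {algebraMap C.B S (C.pull F.1)} :=
    ker_stalkMap_subschemeι z C.U hx _ (C.ideal_sec F)
  have hgerm : ((LefPen.Sec i ({F} : Set (LefPen.Form r k d))).presheaf.germ V.1 z hx).hom
      ((ι'.appLE C.U.1 V.1 le_rfl).hom (C.pull G.1)) = π (algebraMap C.B S (C.pull G.1)) := by
    rw [Scheme.Hom.appLE_eq_app]
    exact (Scheme.Hom.germ_stalkMap_apply ι' C.U.1 z hx (C.pull G.1)).symm
  rw [hgerm]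
  have hmax : (maximalIdeal S).map π = maximalIdeal A := by
    refine IsLocalRing.eq_maximalIdeal (((Ideal.map_eq_top_or_isMaximal_of_surjective π hπ
      (IsLocalRing.maximalIdeal.isMaximal S))).resolve_left ?_)
    refine fun h => ?_
    have h1 : (1 : A) ∈ (maximalIdeal S).map π := h ▸ trivial
    obtain ⟨s, hs, hs1⟩ := (Ideal.mem_map_iff_of_surjective π hπ).1 h1
    exact hs (isUnit_of_map_unit π s (hs1 ▸ isUnit_one))
  have hFq : C.pull F.1 ∈ q := by
    by_contra hne
    have h1 : π (algebraMap C.B S (C.pull F.1)) = 0 :=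
      RingHom.mem_ker.1 (hker.symm ▸ Ideal.mem_span_singleton_self _)
    have h2 := (IsLocalization.map_units S (⟨_, hne⟩ : q.primeCompl)).map π
    rw [h1] at h2
    exact not_isUnit_zero h2
  constructor
  · intro h
    rw [← hmax, ← Ideal.map_pow] at h
    obtain ⟨s, hs, hs1⟩ := (Ideal.mem_map_iff_of_surjective π hπ).1 h
    have h2 : algebraMap C.B S (C.pull G.1) - s ∈ RingHom.ker π := by rw [RingHom.mem_ker, map_sub, hs1, sub_self]
    rw [hker] at h2
    obtain ⟨b, hb⟩ := Ideal.mem_span_singleton'.1 h2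
    obtain ⟨a₀, ha₀⟩ : ∃ a₀ : k, b - algebraMap C.B S (algebraMap k C.B a₀) ∈ maximalIdeal S := by
      obtain ⟨⟨p, v⟩, rfl⟩ := IsLocalization.mk'_surjective q.primeCompl b
      obtain ⟨cp, hcp⟩ := exists_const (k := k) q p
      obtain ⟨cv, hcv⟩ := exists_const (k := k) q v.1
      have hcv0 : cv ≠ 0 := fun h => v.2 (by simpa [h] using hcv)
      refine ⟨cp / cv, ?_⟩
      rw [← Ideal.mul_unit_mem_iff_mem _ (IsLocalization.map_units S v), sub_mul, IsLocalization.mk'_spec, ← map_mul,
        ← map_sub, ← IsLocalization.AtPrime.map_eq_maximalIdeal q S]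
      refine Ideal.mem_map_of_mem _ ?_
      rw [show p - algebraMap k C.B (cp / cv) * v.1 = (p - algebraMap k C.B cp) -
        algebraMap k C.B (cp / cv) * (v.1 - algebraMap k C.B cv) by
          rw [mul_sub, ← map_mul, div_mul_cancel₀ _ hcv0]; ring]
      exact sub_mem hcp (Ideal.mul_mem_left _ _ hcv)
    refine ⟨-a₀, (C.badAt_iff _ hx hz).2 ?_⟩
    rw [← IsLocalization.AtPrime.under_maximalIdeal_pow q S]
    show algebraMap C.B S (C.pull (G + -a₀ • F : LefPen.Form r k d).1) ∈ maximalIdeal S ^ 2
    rw [Submodule.coe_add, Submodule.coe_smul, map_add, MvPolynomial.smul_eq_C_mul, map_mul, C.pull_C hi, map_neg,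
      neg_mul, ← sub_eq_add_neg, map_sub, map_mul,
      show algebraMap C.B S (C.pull G.1) - algebraMap C.B S (algebraMap k C.B a₀) * algebraMap C.B S (C.pull F.1) =
        s + (b - algebraMap C.B S (algebraMap k C.B a₀)) * algebraMap C.B S (C.pull F.1) by
          rw [sub_mul, hb]; ring]
    refine add_mem hs ?_
    rw [pow_two]
    refine Ideal.mul_mem_mul ha₀ ?_
    rw [← IsLocalization.AtPrime.map_eq_maximalIdeal q S]
    exact Ideal.mem_map_of_mem _ hFq
  · rintro ⟨a, ha⟩
    have h1 := (C.badAt_iff _ hx hz).1 ha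
    have h2 : algebraMap C.B S (C.pull (G + a • F : LefPen.Form r k d).1) ∈ maximalIdeal S ^ 2 := by
      rw [← IsLocalization.AtPrime.map_eq_maximalIdeal q S, ← Ideal.map_pow]
      exact Ideal.mem_map_of_mem _ h1
    have h3 := Ideal.mem_map_of_mem π h2
    rw [Ideal.map_pow, hmax, Submodule.coe_add, Submodule.coe_smul, map_add, map_add, map_add,
      MvPolynomial.smul_eq_C_mul, map_mul, map_mul, map_mul,
      RingHom.mem_ker.1 (show algebraMap C.B S (C.pull F.1) ∈ RingHom.ker π from hker ▸ Ideal.mem_span_singleton_self _),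
      mul_zero, add_zero] at h3
    exact h3

/-- With a transversal member, the base locus is transversal exactly when no member is singular on it. -/
theorem transversal_pair_iff (hi : X ↘ Spec (CommRingCat.of k) = i ≫ CohB1.ProjSpace.toSpec r k)
    [SmoothOfRelativeDimension n (i ≫ CohB1.ProjSpace.toSpec r k)] (hn : 1 ≤ n) (F G : LefPen.Form r k d)
    (hF : LefPen.Transversal k n 1 (LefPen.secToSpec i ({F} : Set (LefPen.Form r k d)))) :
    LefPen.Transversal k n 2 (LefPen.secToSpec i ({F, G} : Set (LefPen.Form r k d))) ↔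
      ∀ (x : X) (a : k), IsClosed ({x} : Set X) → BadAt i (G + a • F) x → F.1 ∈ (i x).asHomogeneousIdeal.toIdeal → False := by
  haveI hsmX : SmoothOfRelativeDimension n (X ↘ Spec (CommRingCat.of k)) := hi ▸ ‹_›
  haveI : IsProper (CohB1.ProjSpace.toSpec r k) := PnCoh.Chow.isProper_toSpec r k
  haveI : JacobsonSpace X := LocallyOfFiniteType.jacobsonSpace (i ≫ CohB1.ProjSpace.toSpec r k)
  let ι' := LefPen.secι i ({F} : Set (LefPen.Form r k d))
  rcases (show 2 ≤ n ∨ n = 1 by omega) with hn2 | rfl
  · obtain ⟨-, hsm⟩ : 1 ≤ n ∧ SmoothOfRelativeDimension (n - 1) (LefPen.secToSpec i ({F} : Set (LefPen.Form r k d))) :=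
      hF.resolve_right (fun h => absurd h.1 (by omega))
    let j := ι' ≫ i
    haveI : SmoothOfRelativeDimension (n - 1) (j ≫ CohB1.ProjSpace.toSpec r k) := by
      rw [Category.assoc]; exact hsm
    letI : (LefPen.Sec i ({F} : Set (LefPen.Form r k d))).Over (Spec (CommRingCat.of k)) :=
      ⟨j ≫ CohB1.ProjSpace.toSpec r k⟩
    obtain ⟨e, he⟩ := exists_iso_pair i F G
    have hT : LefPen.Transversal k n 2 (LefPen.secToSpec i ({F, G} : Set (LefPen.Form r k d))) ↔
        LefPen.Transversal k (n - 1) 1 (LefPen.secToSpec j ({G} : Set (LefPen.Form r k d))) := by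
      rw [show LefPen.secToSpec i ({F, G} : Set (LefPen.Form r k d)) = e.inv ≫ LefPen.secToSpec j {G} by
        rw [← he, e.inv_hom_id_assoc]]
      simp only [LefPen.Transversal, show n - 1 - 1 = n - 2 by omega, show (2 : ℕ) ≤ n from hn2,
        show ¬ n < 2 by omega, show 1 ≤ n - 1 by omega, show ¬ n - 1 < 1 by omega, false_and, or_false, true_and]
      exact MorphismProperty.cancel_left_of_respectsIso (@SmoothOfRelativeDimension (n - 2)) e.inv _
    rw [hT, transversal_iff (i := j) (n := n - 1) rfl (by omega) G]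
    constructor
    · intro h x a hxc hbad hFx
      obtain ⟨C, hx, -⟩ := exists_chart' i (n := n) x
      have hxr : x ∈ Set.range ι' := by
        rw [Scheme.IdealSheafData.range_subschemeι]
        refine ((Scheme.IdealSheafData.coe_support_inter _ C.U).ge ⟨?_, hx⟩).1
        rw [C.ideal_sec, Scheme.zeroLocus_span, Scheme.zeroLocus_singleton, Set.mem_compl_iff, SetLike.mem_coe,
          QCoh.mem_basicOpen_iff_notMem C.U.2 hx, not_not]
        exact (C.pull_mem_iff F hx).2 hFx
      obtain ⟨z, rfl⟩ := hxr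
      refine h z ?_ ((badAt_sec_iff i (n := n) hi F G z hxc).2 ⟨a, hbad⟩)
      have := hxc.preimage ι'.continuous
      rwa [show ι' ⁻¹' {ι' z} = {z} from Set.ext fun w =>
        ⟨fun h => ι'.isEmbedding.injective h, fun h => by rw [Set.mem_singleton_iff.1 h]; rfl⟩] at this
    · intro h z hzc hbad
      have hxc : IsClosed ({ι' z} : Set X) := by
        have h' := ι'.isClosedEmbedding.isClosedMap _ hzc
        rwa [Set.image_singleton] at h'
      obtain ⟨a, ha⟩ := (badAt_sec_iff i (n := n) hi F G z hxc).1 hbad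
      refine h _ a hxc ha ?_
      obtain ⟨C, hx, -⟩ := exists_chart' i (n := n) (ι' z)
      refine (C.pull_mem_iff F hx).1 ?_
      have h1 : ι' z ∈ ((LefPen.secIdeal i ({F} : Set (LefPen.Form r k d))).support : Set X) :=
        (Scheme.IdealSheafData.range_subschemeι _).le ⟨z, rfl⟩
      have h2 := ((Scheme.IdealSheafData.coe_support_inter _ C.U).le ⟨h1, hx⟩).1
      rwa [C.ideal_sec, Scheme.zeroLocus_span, Scheme.zeroLocus_singleton, Set.mem_compl_iff, SetLike.mem_coe,
        QCoh.mem_basicOpen_iff_notMem C.U.2 hx, not_not] at h2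
  · -- no common zero
    let I := LefPen.secIdeal i ({F, G} : Set (LefPen.Form r k d))
    have hmem : ∀ (C : Chart i 1) (x : X) (hx : x ∈ C.U.1),
        x ∈ Set.range I.subschemeι ↔ C.pull F.1 ∈ (C.U.2.primeIdealOf ⟨x, hx⟩).asIdeal ∧
          C.pull G.1 ∈ (C.U.2.primeIdealOf ⟨x, hx⟩).asIdeal := by
      intro C x hx
      have hI : I.ideal C.U = Ideal.span {C.pull F.1} ⊔ Ideal.span {C.pull G.1} := by
        rw [← C.ideal_sec F, ← C.ideal_sec G]
        show (LefPen.secIdeal i ({F, G} : Set (LefPen.Form r k d))).ideal C.U = _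
        simp only [LefPen.secIdeal, iSup_singleton, iSup_pair, Scheme.IdealSheafData.comap_sup,
          Scheme.IdealSheafData.ideal_sup, Pi.sup_apply]
      have h2 := Set.ext_iff.1 (I.coe_support_inter C.U) x
      rw [Scheme.IdealSheafData.range_subschemeι]
      simp only [Set.mem_inter_iff, SetLike.mem_coe, hx, and_true] at h2
      rw [SetLike.mem_coe, h2, hI, Scheme.mem_zeroLocus_iff]
      constructor
      · intro h
        exact ⟨not_not.1 fun hc => h _ (Submodule.mem_sup_left (Ideal.mem_span_singleton_self _))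
          ((QCoh.mem_basicOpen_iff_notMem C.U.2 hx _).2 hc), not_not.1 fun hc =>
          h _ (Submodule.mem_sup_right (Ideal.mem_span_singleton_self _)) ((QCoh.mem_basicOpen_iff_notMem C.U.2 hx _).2 hc)⟩
      · rintro ⟨hF', hG'⟩ f hf hxf
        exact (QCoh.mem_basicOpen_iff_notMem C.U.2 hx _).1 hxf (sup_le ((Ideal.span_singleton_le_iff_mem _).2 hF')
          ((Ideal.span_singleton_le_iff_mem _).2 hG') hf)
    constructor
    · rintro (⟨h, -⟩ | ⟨-, hempty⟩) x a hxc hbad hFx
      · omega
      obtain ⟨C, hx, -⟩ := exists_chart' i (n := 1) x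
      have h1 := Ideal.pow_le_self two_ne_zero ((C.badAt_iff _ hx hxc).1 hbad)
      rw [Submodule.coe_add, Submodule.coe_smul, map_add, MvPolynomial.smul_eq_C_mul, map_mul] at h1
      have hFq := (C.pull_mem_iff F hx).2 hFx
      have hGq : C.pull G.1 ∈ (C.U.2.primeIdealOf ⟨x, hx⟩).asIdeal :=
        (Ideal.add_mem_iff_left _ (Ideal.mul_mem_left _ _ hFq)).1 h1
      obtain ⟨z, -⟩ := (hmem C x hx).2 ⟨hFq, hGq⟩
      exact hempty.false z
    · intro h
      refine Or.inr ⟨by omega, ⟨fun z => ?_⟩⟩
      haveI : JacobsonSpace I.subscheme := LocallyOfFiniteType.jacobsonSpace (I.subschemeι ≫ i ≫ CohB1.ProjSpace.toSpec r k)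
      haveI : CompactSpace I.subscheme := QuasiCompact.compactSpace_of_compactSpace (I.subschemeι ≫ i ≫ CohB1.ProjSpace.toSpec r k)
      obtain ⟨z', -, hzc⟩ := (isClosed_univ (X := I.subscheme)).exists_closed_singleton ⟨z, trivial⟩
      let x := I.subschemeι z'
      have hxc : IsClosed ({x} : Set X) := by
        have h' := I.subschemeι.isClosedEmbedding.isClosedMap _ hzc
        rwa [Set.image_singleton] at h'
      obtain ⟨C, hx, -⟩ := exists_chart' i (n := 1) x
      obtain ⟨hFq, hGq⟩ := (hmem C x hx).1 ⟨z', rfl⟩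
      let q := (C.U.2.primeIdealOf ⟨x, hx⟩).asIdeal
      haveI : q.IsMaximal := isMaximal_of_closed hx hxc
      haveI : Nontrivial C.B := (Ideal.Quotient.mk q).domain_nontrivial
      obtain ⟨cF, hcF⟩ := exists_const (k := k) q (C.ω.coord 0 (D k C.B (C.pull F.1)))
      obtain ⟨cG, hcG⟩ := exists_const (k := k) q (C.ω.coord 0 (D k C.B (C.pull G.1)))
      have hcF0 : cF ≠ 0 := fun h0 => by
        refine (transversal_iff hi le_rfl F).1 hF x hxc ((C.badAt_iff F hx hxc).2 (mem_sq_of_functional_mem q C.ω hFq fun l => ?_))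
        rw [Fin.fin_one_eq_zero l]
        simpa [h0] using hcF
      refine h x (-(cG / cF)) hxc ((C.badAt_iff _ hx hxc).2 (mem_sq_of_functional_mem q C.ω ?_ fun l => ?_))
        ((C.pull_mem_iff F hx).1 hFq)
      · rw [Submodule.coe_add, Submodule.coe_smul, map_add, MvPolynomial.smul_eq_C_mul, map_mul]
        exact add_mem hGq (Ideal.mul_mem_left _ _ hFq)
      · rw [Fin.fin_one_eq_zero l, Submodule.coe_add, Submodule.coe_smul, map_add, MvPolynomial.smul_eq_C_mul, map_mul,
          C.pull_C hi, map_add, Derivation.leibniz, Derivation.map_algebraMap, smul_zero, add_zero, map_add,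
          LinearMap.map_smul, smul_eq_mul,
          show C.ω.coord 0 (D k C.B (C.pull G.1)) + algebraMap k C.B (-(cG / cF)) * C.ω.coord 0 (D k C.B (C.pull F.1)) =
            (C.ω.coord 0 (D k C.B (C.pull G.1)) - algebraMap k C.B cG) +
              algebraMap k C.B (-(cG / cF)) * (C.ω.coord 0 (D k C.B (C.pull F.1)) - algebraMap k C.B cF) by
            have e : algebraMap k C.B (-(cG / cF)) * algebraMap k C.B cF = -algebraMap k C.B cG := by
              rw [← map_mul, ← map_neg, neg_mul, div_mul_cancel₀ _ hcF0]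
            rw [mul_sub, e]; ring]
        exact add_mem hcG (Ideal.mul_mem_left _ _ hcF)

end Groth.Agent.H9LefPen

end
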