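import Groth.Agent.H9LefPen.SecPair
import Groth.Agent.H9LefPen.LineElim
import Groth.Agent.H9LefPen.Irred

/-! Lefschetz pencils through a given transversal form. -/

set_option autoImplicit false
set_option linter.style.haveILetI false
set_option backward.isDefEq.respectTransparency false
set_option backward.isDefEq.respectTransparency.types false
set_option maxHeartbeats 1000000

universe u

open CategoryTheory CategoryTheory.Limits AlgebraicGeometry TopologicalSpace

noncomputable section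

namespace Groth.Agent.H9LefPen

open Groth.Agent

theorem isPolyFun_comp_affine {k : Type u} [Field k] {V W : Type u} [AddCommGroup V] [Module k V] [AddCommGroup W]
    [Module k W] {f : V → k} (hf : LefPen.IsPolyFun k f) (A : W →ₗ[k] V) (v₀ : V) :
    LefPen.IsPolyFun k (fun w => f (A w + v₀)) := by
  let S := Algebra.adjoin k (Set.range (fun l : Module.Dual k W => (l : W → k)))
  show (fun w => f (A w + v₀)) ∈ S
  change f ∈ Algebra.adjoin k (Set.range (fun l : Module.Dual k V => (l : V → k))) at hf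
  induction hf using Algebra.adjoin_induction with
  | mem x hx =>
    obtain ⟨l, rfl⟩ := hx
    have e : (fun w => l (A w + v₀)) = (⇑(l.comp A)) + algebraMap k (W → k) (l v₀) := funext fun w => by simp
    rw [e]
    exact S.add_mem (Algebra.subset_adjoin ⟨l.comp A, rfl⟩) (S.algebraMap_mem _)
  | algebraMap c => exact S.algebraMap_mem c
  | add x y _ _ hx hy => exact S.add_mem hx hy
  | mul x y _ _ hx hy => exact S.mul_mem hx hy

theorem exists_ne_zero_and {k : Type u} [Field k] [Infinite k] {V : Type u} [AddCommGroup V] [Module k V] {M : ℕ}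
    (b : Module.Basis (Fin M) k V) {f g : V → k} (hf : LefPen.IsPolyFun k f) (hg : LefPen.IsPolyFun k g)
    (hf0 : ∃ v, f v ≠ 0) (hg0 : ∃ v, g v ≠ 0) : ∃ v, f v ≠ 0 ∧ g v ≠ 0 := by
  obtain ⟨p, hp⟩ := exists_eval_of_isPolyFun b hf
  obtain ⟨q, hq⟩ := exists_eval_of_isPolyFun b hg
  have hne : p * q ≠ 0 := mul_ne_zero
    (fun h => by obtain ⟨v, hv⟩ := hf0; exact hv (by rw [hp, h, map_zero]))
    (fun h => by obtain ⟨v, hv⟩ := hg0; exact hv (by rw [hq, h, map_zero]))
  by_contra! hall
  refine hne (MvPolynomial.funext fun c => ?_)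
  rw [map_mul, map_zero, mul_eq_zero]
  by_cases h : f (∑ l, c l • b l) = 0
  · left; rw [hp, b.repr_sum_self] at h; exact h
  · right; have := hall _ h; rw [hq, b.repr_sum_self] at this; exact this

variable {k : Type u} [Field k] [IsAlgClosed k] {r d n : ℕ} {X : Scheme.{u}} {i : X ⟶ CohB1.ProjSpace r k}

/-- A homogeneous equation of the singular members not vanishing at a given good one. -/
theorem exists_homogeneous_equation [IsClosedImmersion i] [X.Over (Spec (CommRingCat.of k))]
    [SmoothOfRelativeDimension n (i ≫ CohB1.ProjSpace.toSpec r k)]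
    (hi : X ↘ Spec (CommRingCat.of k) = i ≫ CohB1.ProjSpace.toSpec r k) (hn : 1 ≤ n)
    {m : ℕ} (b : Module.Basis (Fin m) k (LefPen.Form r k d)) (H₀ : LefPen.Form r k d)
    (hH₀ : LefPen.Transversal k n 1 (LefPen.secToSpec i ({H₀} : Set (LefPen.Form r k d)))) :
    ∃ (e : ℕ) (h : MvPolynomial (Fin m) k), h.IsHomogeneous e ∧ MvPolynomial.eval (fun l => b.repr H₀ l) h ≠ 0 ∧
      ∀ H, ¬ LefPen.Transversal k n 1 (LefPen.secToSpec i ({H} : Set (LefPen.Form r k d))) →
        MvPolynomial.eval (fun l => b.repr H l) h = 0 := by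
  classical
  obtain ⟨f, hf, hf0, hfS⟩ := isZOpen_transversal (n := n) (d := d) hi hn H₀ hH₀
  obtain ⟨p, hp⟩ := exists_eval_of_isPolyFun b hf
  have hsum : ∑ e ∈ Finset.range (p.totalDegree + 1), MvPolynomial.homogeneousComponent e p = p :=
    MvPolynomial.sum_homogeneousComponent p
  obtain ⟨e, he, hne⟩ : ∃ e ∈ Finset.range (p.totalDegree + 1),
      MvPolynomial.eval (fun l => b.repr H₀ l) (MvPolynomial.homogeneousComponent e p) ≠ 0 := by
    by_contra! hall
    exact hf0 (by rw [hp, ← hsum, map_sum]; exact Finset.sum_eq_zero hall)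
  refine ⟨e, _, MvPolynomial.homogeneousComponent_isHomogeneous e p, hne, fun H hH => ?_⟩
  let P : Polynomial k := ∑ e ∈ Finset.range (p.totalDegree + 1),
    Polynomial.C (MvPolynomial.eval (fun l => b.repr H l) (MvPolynomial.homogeneousComponent e p)) * Polynomial.X ^ e
  have hP : P = 0 := by
    refine Polynomial.eq_zero_of_infinite_isRoot _ (Set.Infinite.mono (s := {(0 : k)}ᶜ) (fun a ha => ?_)
      ((Set.finite_singleton (0 : k)).infinite_compl))
    have h1 : MvPolynomial.eval (fun l => b.repr (a • H) l) p = 0 := by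
      rw [← hp]
      by_contra hne'
      have h2 := transversal_smul i n (a • H) (inv_ne_zero ha) (hfS _ hne')
      rw [inv_smul_smul₀ ha] at h2
      exact hH h2
    show Polynomial.eval a P = 0
    rw [← h1]
    conv_rhs => rw [← hsum, map_sum]
    simp only [P, Polynomial.eval_finsetSum, Polynomial.eval_mul, Polynomial.eval_C, Polynomial.eval_pow,
      Polynomial.eval_X]
    refine Finset.sum_congr rfl fun e _ => ?_
    have hh := MvPolynomial.homogeneousComponent_isHomogeneous e p
    rw [MvPolynomial.eval_eq', MvPolynomial.eval_eq', Finset.sum_mul]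
    refine Finset.sum_congr rfl fun s hs => ?_
    have hse : ∑ l, s l = e := by
      have := hh (MvPolynomial.mem_support_iff.1 hs)
      rw [← this, Finsupp.weight_apply, Finsupp.sum_fintype _ _ (by simp)]
      simp
    simp only [map_smul, Finsupp.smul_apply, smul_eq_mul, mul_pow, Finset.prod_mul_distrib,
      Finset.prod_pow_eq_pow_sum, hse]
    ring
  have := congrArg (fun Q => Polynomial.coeff Q e) hP
  simpa [P, Polynomial.finsetSum_coeff, Polynomial.coeff_X_pow, he] using this

theorem isGeneric_pencil_through [IsClosedImmersion i] [IrreducibleSpace X]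
    [SmoothOfRelativeDimension n (i ≫ CohB1.ProjSpace.toSpec r k)] (hn : 1 ≤ n) (hd : 1 ≤ d)
    (hL : LefPen.IsLefschetzEmb k n i d) (H₀ : LefPen.Form r k d)
    (hH₀ : LefPen.Transversal k n 1 (LefPen.secToSpec i ({H₀} : Set (LefPen.Form r k d)))) :
    LefPen.IsGeneric k {G : LefPen.Form r k d | LefPen.IsLefschetzPencil k n i d H₀ G} := by
  classical
  letI : X.Over (Spec (CommRingCat.of k)) := ⟨i ≫ CohB1.ProjSpace.toSpec r k⟩
  have hi : X ↘ Spec (CommRingCat.of k) = i ≫ CohB1.ProjSpace.toSpec r k := rfl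
  haveI := finite_form (k := k) (r := r) d
  let V := LefPen.Form r k d
  let b := Module.finBasis k V
  let m := Module.finrank k V
  let co : V → (Fin m → k) := fun H l => b.repr H l
  have hco : ∀ (G : V) (t : k), co (G + t • H₀) = co G + t • co H₀ := fun G t => funext fun l => by simp [co]
  obtain ⟨e, h, hh, hh0, hhX⟩ := exists_homogeneous_equation hi hn b H₀ hH₀
  obtain ⟨F, hF, ⟨⟨F₁, G₁⟩, hFG⟩, hFS⟩ := hL
  obtain ⟨hindep, -⟩ := hFS (F₁, G₁) hFG
  let Bad : Set V := {H | ¬ LefPen.Transversal k n 1 (LefPen.secToSpec i ({H} : Set (LefPen.Form r k d))) ∧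
    ¬ LefPen.OneOrdQuad k n i H}
  let W := V × V
  let bW := Module.finBasis k W
  have hhfun : LefPen.IsPolyFun k (fun v : W => MvPolynomial.eval (co v.2) h) := by
    have := isPolyFun_comp_affine (isPolyFun_eval b h) (LinearMap.snd k V V) 0
    simpa using this
  -- every component of the equation of the singular members has a good point
  have hgood : ∀ p : MvPolynomial (Fin m) k, Prime p → p ∣ h →
      ∃ g : MvPolynomial (Fin m) k, ¬ p ∣ g ∧ ∀ H ∈ Bad, MvPolynomial.eval (co H) g = 0 := by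
    intro p hp hph
    by_contra! hall
    obtain ⟨⟨F₂, G₂⟩, hf2, hh2⟩ := exists_ne_zero_and bW hF hhfun ⟨_, hFG⟩
      ⟨(H₀, H₀), hh0⟩
    obtain ⟨t, ht⟩ := Line.exists_root (co G₂) hh hh2 hp hph (co F₂)
    -- the function of the point on the line
    let A : V →ₗ[k] W := LinearMap.inl k V V
    obtain ⟨g, hg⟩ := exists_eval_of_isPolyFun b (isPolyFun_comp_affine hF A (-(t • G₂), G₂))
    have hgB : ∀ H ∈ Bad, MvPolynomial.eval (co H) g = 0 := fun H hH => by
      rw [← hg]
      by_contra hne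
      obtain ⟨-, -, -, hmem⟩ := hFS _ hne
      refine hH.2 (hmem H (Or.inr ⟨t, ?_⟩) hH.1)
      show (A H).1 + -(t • G₂) + t • ((A H).2 + G₂) = H
      rw [show A H = (H, 0) from rfl]
      show H + -(t • G₂) + t • (0 + G₂) = H
      rw [zero_add, neg_add_cancel_right]
    by_cases hpg : p ∣ g
    · refine hf2 ?_
      have h1 := hg (F₂ + t • G₂)
      have e : A (F₂ + t • G₂) + (-(t • G₂), G₂) = (F₂, G₂) := by
        rw [show A (F₂ + t • G₂) = (F₂ + t • G₂, 0) from rfl, Prod.mk_add_mk, zero_add, add_neg_cancel_right]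
      rw [e] at h1
      rw [h1]
      obtain ⟨q, rfl⟩ := hpg
      rw [map_mul, show (fun l => b.repr (F₂ + t • G₂) l) = co F₂ + t • co G₂ from funext fun l => by simp [co],
        ht, zero_mul]
    · obtain ⟨H, hH, hne⟩ := hall g hpg
      exact hne (hgB H hH)
  have helim : ∀ p : MvPolynomial (Fin m) k, Prime p → p ∣ h → ∃ a : MvPolynomial (Fin m) k, a ≠ 0 ∧
      ∀ (G : V) (t : k), MvPolynomial.eval (co G) a ≠ 0 → MvPolynomial.eval (co (G + t • H₀)) p = 0 →
        G + t • H₀ ∉ Bad := by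
    intro p hp hph
    obtain ⟨g, hpg, hgB⟩ := hgood p hp hph
    obtain ⟨a, ha0, ha⟩ := Line.exists_elim (co H₀) hh hh0 hp hph hpg
    exact ⟨a, ha0, fun G t hG hz hB => ha (co G) t hG (hco G t ▸ hz) (hco G t ▸ hgB _ hB)⟩
  have hh' : h ≠ 0 := fun hz => hh0 (by rw [hz, map_zero])
  obtain ⟨S, hSp, hSh⟩ := UniqueFactorizationMonoid.exists_prime_factors h hh'
  have hdvd : ∀ p ∈ S, p ∣ h := fun p hp => (Multiset.dvd_prod hp).trans hSh.dvd
  choose! a ha0 ha using fun p (hp : p ∈ S) => helim p (hSp p hp) (hdvd p hp)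
  let a₀ : MvPolynomial (Fin m) k := ∏ p ∈ S.toFinset, a p
  have ha₀ : a₀ ≠ 0 := Finset.prod_ne_zero_iff.2 fun p hp => ha0 p (Multiset.mem_toFinset.1 hp)
  -- independence
  have hindep' : ∃ φ : Module.Dual k V, φ H₀ = 0 ∧ ∃ G, φ G ≠ 0 := by
    obtain ⟨G₀, hG₀⟩ : ∃ G₀, G₀ ∉ Submodule.span k ({H₀} : Set V) := by
      by_contra! hall
      obtain ⟨x, hx⟩ := Submodule.mem_span_singleton.1 (hall F₁)
      obtain ⟨y, hy⟩ := Submodule.mem_span_singleton.1 (hall G₁)
      have := LinearIndependent.pair_iff.1 hindep y (-x) (by rw [← hx, ← hy, smul_smul, smul_smul, ← add_smul]; simp [mul_comm])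
      exact hindep.ne_zero 0 (by simp [← hx, neg_eq_zero.1 this.2])
    obtain ⟨φ, hφ1, hφW⟩ := Submodule.exists_dual_map_eq_bot_of_notMem hG₀ inferInstance
    refine ⟨φ, ?_, G₀, hφ1⟩
    have := Submodule.mem_map_of_mem (f := φ) (Submodule.mem_span_singleton_self H₀)
    rwa [hφW, Submodule.mem_bot] at this
  obtain ⟨φ, hφ0, hφ⟩ := hindep'
  obtain ⟨P, hP, hP0, hPS⟩ := isGeneric_transversal_pair i n hn hd H₀ hH₀
  have hafun : LefPen.IsPolyFun k (fun G : V => MvPolynomial.eval (co G) a₀) := isPolyFun_eval b a₀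
  have ha0' : ∃ G : V, MvPolynomial.eval (co G) a₀ ≠ 0 := by
    by_contra! hall
    refine ha₀ (MvPolynomial.funext fun c => ?_)
    have := hall (∑ l, c l • b l)
    rw [show co (∑ l, c l • b l) = c from b.repr_sum_self c] at this
    rw [this, map_zero]
  have hφfun : LefPen.IsPolyFun k (fun G : V => φ G) := Algebra.subset_adjoin ⟨φ, rfl⟩
  obtain ⟨G', hG'⟩ := exists_ne_zero_and b hafun hP ha0' hP0
  have h12 : LefPen.IsPolyFun k ((fun G : V => MvPolynomial.eval (co G) a₀) * P) := mul_mem hafun hP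
  obtain ⟨G'', hG''⟩ := exists_ne_zero_and b h12 hφfun ⟨G', mul_ne_zero hG'.1 hG'.2⟩ hφ
  refine ⟨((fun G : V => MvPolynomial.eval (co G) a₀) * P) * fun G => φ G, mul_mem h12 hφfun,
    ⟨G'', mul_ne_zero hG''.1 hG''.2⟩, fun G hG => ?_⟩
  simp only [Pi.mul_apply, mul_ne_zero_iff] at hG
  obtain ⟨⟨hGa, hGP⟩, hGφ⟩ := hG
  -- members of the pencil through H₀
  have hline : ∀ t : k, ¬ LefPen.Transversal k n 1 (LefPen.secToSpec i ({G + t • H₀} : Set (LefPen.Form r k d))) →
      MvPolynomial.eval (co (G + t • H₀)) h = 0 ∧ LefPen.OneOrdQuad k n i (G + t • H₀) := by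
    intro t ht
    have h0 := hhX _ ht
    refine ⟨h0, by_contra fun hq => ?_⟩
    obtain ⟨u, hu⟩ := hSh
    have h1 : MvPolynomial.eval (co (G + t • H₀)) S.prod = 0 := by
      have := hu ▸ h0
      rw [map_mul, mul_eq_zero] at this
      exact this.resolve_right (u.isUnit.map (MvPolynomial.eval _)).ne_zero
    rw [map_multiset_prod, Multiset.prod_eq_zero_iff, Multiset.mem_map] at h1
    obtain ⟨p, hpS, hp⟩ := h1
    refine ha p hpS G t ?_ hp ⟨ht, hq⟩
    rw [map_prod] at hGa
    exact Finset.prod_ne_zero_iff.1 hGa p (Multiset.mem_toFinset.2 hpS)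
  have hmem : ∀ c : k, c ≠ 0 → H₀ + c • G = c • (G + c⁻¹ • H₀) := fun c hc => by
    rw [smul_add, smul_smul, mul_inv_cancel₀ hc, one_smul, add_comm]
  refine ⟨?_, hPS G hGP, ?_, ?_⟩
  · refine LinearIndependent.pair_iff.2 fun x y hxy => ?_
    have h1 := congrArg φ hxy
    simp only [map_add, map_smul, hφ0, smul_eq_mul, mul_zero, zero_add, map_zero, mul_eq_zero] at h1
    have hy : y = 0 := h1.resolve_right hGφ
    subst hy
    rw [zero_smul, add_zero, smul_eq_zero] at hxy
    refine ⟨hxy.resolve_right fun hz => hh0 ?_, rfl⟩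
    refine hhX H₀ fun _ => ?_
    obtain ⟨x₀, hx₀⟩ : ∃ x : X, IsClosed ({x} : Set X) := by
      haveI : IsProper (CohB1.ProjSpace.toSpec r k) := PnCoh.Chow.isProper_toSpec r k
      haveI : CompactSpace X := QuasiCompact.compactSpace_of_compactSpace (i ≫ CohB1.ProjSpace.toSpec r k)
      obtain ⟨x, -, hx⟩ := (isClosed_univ (X := X)).exists_closed_singleton Set.univ_nonempty
      exact ⟨x, hx⟩
    haveI : SmoothOfRelativeDimension n (X ↘ Spec (CommRingCat.of k)) := ‹_›
    obtain ⟨C, hxC, -⟩ := exists_chart' i (n := n) x₀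
    exact (transversal_iff hi hn H₀).1 hH₀ x₀ hx₀ ((C.badAt_iff H₀ hxC hx₀).2 (by simp [hz]))
  · refine ((Line.finite_roots (co H₀) hh hh0 (co G)).image fun t => t⁻¹).subset fun c hc => ?_
    have hc0 : c ≠ 0 := fun hz => hc (by rwa [hz, zero_smul, add_zero])
    refine ⟨c⁻¹, ?_, inv_inv c⟩
    show MvPolynomial.eval (co G + c⁻¹ • co H₀) h = 0
    rw [← hco]
    refine (hline c⁻¹ fun hT => hc ?_).1
    show LefPen.Transversal k n 1 (LefPen.secToSpec i ({H₀ + c • G} : Set (LefPen.Form r k d)))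
    rw [hmem c hc0]
    exact transversal_smul i n _ hc0 hT
  · intro H hH hnT
    rcases hH with hH | ⟨c, rfl⟩
    · rw [Set.mem_singleton_iff] at hH
      subst hH
      have e0 : H + (0 : k) • H₀ = H := by rw [zero_smul, add_zero]
      exact e0 ▸ (hline 0 (e0.symm ▸ hnT)).2
    · replace hnT : ¬ LefPen.Transversal k n 1 (LefPen.secToSpec i ({H₀ + c • G} : Set (LefPen.Form r k d))) := hnT
      show LefPen.OneOrdQuad k n i (H₀ + c • G)
      by_cases hc0 : c = 0
      · refine absurd ?_ hnT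
        rw [hc0, zero_smul, add_zero]
        exact hH₀
      rw [hmem c hc0] at hnT ⊢
      exact oneOrdQuad_smul i n _ hc0 (hline c⁻¹ fun hT => hnT (transversal_smul i n _ hc0 hT)).2

end Groth.Agent.H9LefPen

end
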