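import Groth.Agent.H9LefPen.P1Elim
import Groth.Agent.H9LefPen.Avoid
import Groth.Agent.H9LefPen.PairTrans
import Groth.Agent.H9LefPen.Pencil
import Groth.Agent.H9LefPen.BadMain

/-! The pairs spanning Lefschetz pencils form an open set. -/

set_option autoImplicit false
set_option linter.style.haveILetI false
set_option backward.isDefEq.respectTransparency false
set_option backward.isDefEq.respectTransparency.types false
set_option maxHeartbeats 1000000

universe u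

open CategoryTheory CategoryTheory.Limits AlgebraicGeometry TopologicalSpace

noncomputable section

namespace Groth.Agent.H9LefPen

open Groth.Agent

variable {k : Type u} [Field k] [IsAlgClosed k] {r d n : ℕ} {X : Scheme.{u}} {i : X ⟶ CohB1.ProjSpace r k}

omit [IsAlgClosed k] in
theorem isPolyFun_mul {V : Type u} [AddCommGroup V] [Module k V] {f g : V → k} (hf : LefPen.IsPolyFun k f)
    (hg : LefPen.IsPolyFun k g) : LefPen.IsPolyFun k (fun v => f v * g v) :=
  Subalgebra.mul_mem _ hf hg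

omit [IsAlgClosed k] in
theorem exists_polynomial_line {V : Type u} [AddCommGroup V] [Module k V] {f : V → k} (hf : LefPen.IsPolyFun k f)
    (A B : V) : ∃ q : Polynomial k, ∀ t : k, q.eval t = f (A + t • B) := by
  change f ∈ Algebra.adjoin k (Set.range (fun l : Module.Dual k V => (l : V → k))) at hf
  induction hf using Algebra.adjoin_induction with
  | mem x hx =>
    obtain ⟨l, rfl⟩ := hx
    exact ⟨Polynomial.C (l A) + Polynomial.C (l B) * Polynomial.X, fun t => by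
      simp only [Polynomial.eval_add, Polynomial.eval_mul, Polynomial.eval_C, Polynomial.eval_X, map_add, map_smul,
        smul_eq_mul]
      ring⟩
  | algebraMap c => exact ⟨Polynomial.C c, fun t => by simp⟩
  | add x y _ _ hx hy =>
    obtain ⟨P, hP⟩ := hx; obtain ⟨Q, hQ⟩ := hy
    exact ⟨P + Q, fun t => by simp [hP, hQ]⟩
  | mul x y _ _ hx hy =>
    obtain ⟨P, hP⟩ := hx; obtain ⟨Q, hQ⟩ := hy
    exact ⟨P * Q, fun t => by simp [hP, hQ]⟩

variable [IsClosedImmersion i] [IrreducibleSpace X] [SmoothOfRelativeDimension n (i ≫ CohB1.ProjSpace.toSpec r k)]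

/-- Functions separating a good member from the bad forms and from the forms singular on the base locus. -/
theorem exists_separating {n : ℕ} [SmoothOfRelativeDimension (n + 1) (i ≫ CohB1.ProjSpace.toSpec r k)]
    [X.Over (Spec (CommRingCat.of k))] (hi : X ↘ Spec (CommRingCat.of k) = i ≫ CohB1.ProjSpace.toSpec r k)
    (hn : 1 ≤ n + 1) (H₀ F₀ G₀ : LefPen.Form r k d)
    (hgood : ¬ (¬ LefPen.Transversal k (n + 1) 1 (LefPen.secToSpec i ({H₀} : Set (LefPen.Form r k d))) ∧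
      ¬ LefPen.OneOrdQuad k (n + 1) i H₀))
    (hbase : ∀ x : X, IsClosed ({x} : Set X) → BadAt i H₀ x → F₀.1 ∈ (i x).asHomogeneousIdeal.toIdeal →
      G₀.1 ∈ (i x).asHomogeneousIdeal.toIdeal → False) :
    (∃ f : LefPen.Form r k d → k, LefPen.IsPolyFun k f ∧ f H₀ ≠ 0 ∧
      ∀ H, (¬ LefPen.Transversal k (n + 1) 1 (LefPen.secToSpec i ({H} : Set (LefPen.Form r k d))) ∧
        ¬ LefPen.OneOrdQuad k (n + 1) i H) → f H = 0) ∧
    ∃ f : LefPen.Form r k d × LefPen.Form r k d × LefPen.Form r k d → k, LefPen.IsPolyFun k f ∧ f (H₀, F₀, G₀) ≠ 0 ∧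
      ∀ W, f W ≠ 0 → ∀ x : X, ¬ (IsClosed ({x} : Set X) ∧ BadAt i W.1 x ∧
        W.2.1.1 ∈ (i x).asHomogeneousIdeal.toIdeal ∧ W.2.2.1 ∈ (i x).asHomogeneousIdeal.toIdeal) := by
  classical
  haveI := finite_form (k := k) (r := r) d
  refine ⟨?_, ?_⟩
  · by_cases hT : LefPen.Transversal k (n + 1) 1 (LefPen.secToSpec i ({H₀} : Set (LefPen.Form r k d)))
    · obtain ⟨f, hf, hf0, hfS⟩ := isZOpen_transversal (n := n + 1) (d := d) hi hn H₀ hT
      exact ⟨f, hf, hf0, fun H hH => by_contra fun hne => hH.1 (hfS H hne)⟩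
    · obtain ⟨f, hf, hf0, hfS⟩ := oneOrdQuad_open hi H₀ (by_contra fun hO => hgood ⟨hT, hO⟩)
      exact ⟨f, hf, hf0, fun H hH => by_contra fun hne => hH.2 (hfS H hH.1 hne)⟩
  · let V := LefPen.Form r k d
    refine exists_polyFun_avoid (i := i) (W := V × V × V) _ (H₀, F₀, G₀) fun y hy => ?_
    by_cases hF : F₀.1 ∈ y.asHomogeneousIdeal.toIdeal
    swap
    · refine ⟨⟨d, 0, (LinearMap.fst k V V).comp (LinearMap.snd k V (V × V))⟩, fun x W h => ?_, ?_⟩
      · show ((0 : V) + W.2.1).1 ∈ _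
        rw [zero_add]; exact h.2.2.1
      · show ((0 : V) + F₀).1 ∉ _
        rw [zero_add]; exact hF
    by_cases hG : G₀.1 ∈ y.asHomogeneousIdeal.toIdeal
    swap
    · refine ⟨⟨d, 0, (LinearMap.snd k V V).comp (LinearMap.snd k V (V × V))⟩, fun x W h => ?_, ?_⟩
      · show ((0 : V) + W.2.2).1 ∈ _
        rw [zero_add]; exact h.2.2.2
      · show ((0 : V) + G₀).1 ∉ _
        rw [zero_add]; exact hG
    let b := Module.finBasis k V
    obtain ⟨Fm, hFm, hFy⟩ := exists_kills (n := n + 1) hi b (fun p => b.repr H₀ p) y hy (fun x hxc hxy hbad => by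
      rw [b.sum_repr] at hbad
      exact hbase x hxc hbad (hxy ▸ hF) (hxy ▸ hG))
    let L : V × V × V →ₗ[k] LefPen.Form r k Fm.e :=
      (∑ p, (b.coord p).smulRight (Fm.G p)).comp (LinearMap.fst k V (V × V))
    have hL : ∀ W : V × V × V, (⟨Fm.e, Fm.G₀, L⟩ : VFam r k (V × V × V)).val W = Fm.val (fun p => b.repr W.1 p) :=
      fun W => by simp [VFam.val, Fam.val, L]
    refine ⟨⟨Fm.e, Fm.G₀, L⟩, fun x W h => ?_, ?_⟩
    · rw [hL]; exact hFm x _ h.1 (by rw [b.sum_repr]; exact h.2.1)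
    · rw [hL]; exact hFy

omit [IrreducibleSpace X] [IsClosedImmersion i] in
/-- The separating functions give a polynomial on the lines. -/
theorem exists_line_poly {M : ℕ} {V : Type u} [AddCommGroup V] [Module k V] {f₁ : V → k} (hf₁ : LefPen.IsPolyFun k f₁)
    {f₂ : V × V × V → k} (hf₂ : LefPen.IsPolyFun k f₂) (E : (Fin M → k) →ₗ[k] V × V) :
    ∃ P, ∀ c w, P1.ev2 c w P =
      f₁ (w 0 • (E c).1 + w 1 • (E c).2) * f₂ (w 0 • (E c).1 + w 1 • (E c).2, (E c).1, (E c).2) := by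
  let A := (LinearMap.fst k V V).comp E
  let B := (LinearMap.snd k V V).comp E
  obtain ⟨P₁, hP₁⟩ := P1.exists_ev2 hf₁ ![A, B] 0
  obtain ⟨P₂, hP₂⟩ := P1.exists_ev2 hf₂
    ![(LinearMap.inl k V (V × V)).comp A, (LinearMap.inl k V (V × V)).comp B] ((LinearMap.inr k V (V × V)).comp E)
  refine ⟨P₁ * P₂, fun c w => ?_⟩
  rw [map_mul, hP₁, hP₂]
  refine congrArg₂ (· * ·) (congrArg f₁ (add_zero _)) (congrArg f₂ (Prod.ext ?_ ?_))
  · show w 0 • (E c).1 + w 1 • (E c).2 + (0 : V) = _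
    rw [add_zero]
  · show w 0 • (0 : V × V) + w 1 • (0 : V × V) + E c = E c
    rw [smul_zero, smul_zero, add_zero, zero_add]

omit [IrreducibleSpace X] in
theorem badAt_smul {n : ℕ} [SmoothOfRelativeDimension (n + 1) (i ≫ CohB1.ProjSpace.toSpec r k)]
    [X.Over (Spec (CommRingCat.of k))] (hi : X ↘ Spec (CommRingCat.of k) = i ≫ CohB1.ProjSpace.toSpec r k) (H : LefPen.Form r k d) (a : k) (x : X) (hxc : IsClosed ({x} : Set X))
    (hbad : BadAt i H x) : BadAt i (a • H) x := by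
  haveI : SmoothOfRelativeDimension (n + 1) (X ↘ Spec (CommRingCat.of k)) := hi ▸ ‹_›
  obtain ⟨C, hx, -⟩ := exists_chart' i (n := n + 1) x
  refine (C.badAt_iff _ hx hxc).2 ?_
  rw [Submodule.coe_smul, MvPolynomial.smul_eq_C_mul, map_mul]
  exact Ideal.mul_mem_left _ _ ((C.badAt_iff H hx hxc).1 hbad)

omit [IrreducibleSpace X] in
/-- No member of a Lefschetz pencil is singular on the base locus. -/
theorem no_bad_on_base {n : ℕ} [SmoothOfRelativeDimension (n + 1) (i ≫ CohB1.ProjSpace.toSpec r k)]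
    [X.Over (Spec (CommRingCat.of k))] (hi : X ↘ Spec (CommRingCat.of k) = i ≫ CohB1.ProjSpace.toSpec r k)
    (hn : 1 ≤ n + 1) (F₀ G₀ : LefPen.Form r k d) (a₀ : k)
    (ha₀ : LefPen.Transversal k (n + 1) 1 (LefPen.secToSpec i ({F₀ + a₀ • G₀} : Set (LefPen.Form r k d))))
    (hpair : LefPen.Transversal k (n + 1) 2 (LefPen.secToSpec i ({F₀, G₀} : Set (LefPen.Form r k d))))
    (x : X) (w : Fin 2 → k) (hw : w ≠ 0) (hxc : IsClosed ({x} : Set X)) (hbad : BadAt i (w 0 • F₀ + w 1 • G₀) x)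
    (hFx : F₀.1 ∈ (i x).asHomogeneousIdeal.toIdeal) (hGx : G₀.1 ∈ (i x).asHomogeneousIdeal.toIdeal) : False := by
  have h := (transversal_pair_iff i hi hn (F₀ + a₀ • G₀) G₀ ha₀).1 ((transversal_pair_add_smul i _ F₀ G₀ a₀).2 hpair)
  have hFx' : (F₀ + a₀ • G₀).1 ∈ (i x).asHomogeneousIdeal.toIdeal := by
    rw [Submodule.coe_add, Submodule.coe_smul, MvPolynomial.smul_eq_C_mul]
    exact add_mem hFx (Ideal.mul_mem_left _ _ hGx)
  by_cases hs : w 1 - w 0 * a₀ = 0
  · have hw0 : w 0 ≠ 0 := fun h0 => hw (funext fun j => by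
      fin_cases j
      · exact h0
      · simpa [h0] using hs)
    have h2 := badAt_smul (n := n) hi _ (w 0)⁻¹ x hxc hbad
    rw [show (w 0)⁻¹ • (w 0 • F₀ + w 1 • G₀) = F₀ + a₀ • G₀ by
      rw [smul_add, inv_smul_smul₀ hw0, smul_smul, sub_eq_zero.1 hs, inv_mul_cancel_left₀ hw0]] at h2
    exact (transversal_iff hi hn _).1 ha₀ x hxc h2
  · have h2 := badAt_smul (n := n) hi _ (w 1 - w 0 * a₀)⁻¹ x hxc hbad
    rw [show (w 1 - w 0 * a₀)⁻¹ • (w 0 • F₀ + w 1 • G₀) = G₀ + ((w 1 - w 0 * a₀)⁻¹ * w 0) • (F₀ + a₀ • G₀) by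
      have e : w 0 • F₀ + w 1 • G₀ = (w 1 - w 0 * a₀) • G₀ + w 0 • (F₀ + a₀ • G₀) := by
        match_scalars <;> ring
      rw [e, smul_add, inv_smul_smul₀ hs, smul_smul]] at h2
    exact h x _ hxc h2 hFx'

/-- The conditions defining a Lefschetz pencil. -/
theorem pencil_of {n : ℕ} [SmoothOfRelativeDimension (n + 1) (i ≫ CohB1.ProjSpace.toSpec r k)]
    [X.Over (Spec (CommRingCat.of k))] (hi : X ↘ Spec (CommRingCat.of k) = i ≫ CohB1.ProjSpace.toSpec r k)
    (hn : 1 ≤ n + 1) (a₀ : k) (fT : LefPen.Form r k d → k) (hfT : LefPen.IsPolyFun k fT)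
    (hfTS : ∀ H, fT H ≠ 0 → LefPen.Transversal k (n + 1) 1 (LefPen.secToSpec i ({H} : Set (LefPen.Form r k d))))
    (φ ψ : Module.Dual k (LefPen.Form r k d)) (F G : LefPen.Form r k d)
    (hTr : LefPen.Transversal k (n + 1) 1 (LefPen.secToSpec i ({F + a₀ • G} : Set (LefPen.Form r k d))))
    (hT' : fT (F + a₀ • G) ≠ 0) (h3 : φ G * ψ F - φ F * ψ G ≠ 0)
    (hS : ∀ w : Fin 2 → k, w ≠ 0 →
      ¬ (¬ LefPen.Transversal k (n + 1) 1 (LefPen.secToSpec i ({w 0 • F + w 1 • G} : Set (LefPen.Form r k d))) ∧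
        ¬ LefPen.OneOrdQuad k (n + 1) i (w 0 • F + w 1 • G)) ∧
      ¬ ∃ x : X, IsClosed ({x} : Set X) ∧ BadAt i (w 0 • F + w 1 • G) x ∧
        F.1 ∈ (i x).asHomogeneousIdeal.toIdeal ∧ G.1 ∈ (i x).asHomogeneousIdeal.toIdeal) :
    LefPen.IsLefschetzPencil k (n + 1) i d F G := by
  classical
  haveI : SmoothOfRelativeDimension (n + 1) (X ↘ Spec (CommRingCat.of k)) := hi ▸ ‹_›
  refine ⟨LinearIndependent.pair_iff.2 fun x y hxy => ?_, ?_, ?_, ?_⟩
  · have e1 := congrArg φ hxy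
    have e2 := congrArg ψ hxy
    simp only [map_add, map_smul, smul_eq_mul, map_zero] at e1 e2
    constructor
    · refine (mul_eq_zero.1 (show x * (φ G * ψ F - φ F * ψ G) = 0 from ?_)).resolve_right h3
      linear_combination (φ G) * e2 - (ψ G) * e1
    · refine (mul_eq_zero.1 (show y * (φ G * ψ F - φ F * ψ G) = 0 from ?_)).resolve_right h3
      linear_combination (ψ F) * e1 - (φ F) * e2
  · rw [← transversal_pair_add_smul i (n + 1) F G a₀, transversal_pair_iff i hi hn _ G hTr]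
    intro x a hxc hbad hFx
    refine (hS ![a, 1 + a * a₀] (fun h => ?_)).2 ⟨x, hxc, ?_, ?_, ?_⟩
    · have h0 := congrFun h 0; have h1 := congrFun h 1
      simp only [Matrix.cons_val_zero, Matrix.cons_val_one, Pi.zero_apply] at h0 h1
      rw [h0, zero_mul, add_zero] at h1
      exact one_ne_zero h1
    · rw [show (![a, 1 + a * a₀] : Fin 2 → k) 0 • F + (![a, 1 + a * a₀] : Fin 2 → k) 1 • G = G + a • (F + a₀ • G) by
        simp only [Matrix.cons_val_zero, Matrix.cons_val_one, add_smul, one_smul, smul_add, smul_smul]; abel]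
      exact hbad
    all_goals
      obtain ⟨C, hx, -⟩ := exists_chart' i (n := n + 1) x
      have hGq : G.1 ∈ (i x).asHomogeneousIdeal.toIdeal := by
        have h1 := (C.pull_mem_iff _ hx).1 (Ideal.pow_le_self two_ne_zero ((C.badAt_iff _ hx hxc).1 hbad))
        rw [Submodule.coe_add, Submodule.coe_smul, MvPolynomial.smul_eq_C_mul] at h1
        exact (Ideal.add_mem_iff_left _ (Ideal.mul_mem_left _ _ hFx)).1 h1
    · rw [Submodule.coe_add, Submodule.coe_smul, MvPolynomial.smul_eq_C_mul] at hFx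
      exact (Ideal.add_mem_iff_left _ (Ideal.mul_mem_left _ _ hGq)).1 hFx
    · exact hGq
  · obtain ⟨q, hq⟩ := exists_polynomial_line hfT F G
    have hq0 : q ≠ 0 := fun h => hT' (by show fT (F + a₀ • G) = 0; rw [← hq, h, Polynomial.eval_zero])
    refine (Polynomial.finite_setOf_isRoot hq0).subset fun t ht => ?_
    show q.eval t = 0
    rw [hq]
    exact by_contra fun hne => ht (hfTS _ hne)
  · intro H hH hnT
    rcases hH with hH | ⟨t, rfl⟩
    · rw [Set.mem_singleton_iff] at hH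
      subst hH
      have := (hS ![0, 1] (fun h => by simpa using congrFun h 1)).1
      rw [show (![0, 1] : Fin 2 → k) 0 • F + (![0, 1] : Fin 2 → k) 1 • H = H by simp] at this
      by_contra hO; exact this ⟨hnT, hO⟩
    · have := (hS ![1, t] (fun h => by simpa using congrFun h 0)).1
      rw [show (![1, t] : Fin 2 → k) 0 • F + (![1, t] : Fin 2 → k) 1 • G = F + t • G by simp] at this
      by_contra hO; exact this ⟨hnT, hO⟩

theorem isZOpen_pencil (hn : 1 ≤ n) :
    LefPen.IsZOpen k {FG : LefPen.Form r k d × LefPen.Form r k d | LefPen.IsLefschetzPencil k n i d FG.1 FG.2} := by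
  classical
  letI : X.Over (Spec (CommRingCat.of k)) := ⟨i ≫ CohB1.ProjSpace.toSpec r k⟩
  have hi : X ↘ Spec (CommRingCat.of k) = i ≫ CohB1.ProjSpace.toSpec r k := rfl
  haveI := finite_form (k := k) (r := r) d
  obtain ⟨n, rfl⟩ : ∃ n', n = n' + 1 := ⟨n - 1, by omega⟩
  haveI : SmoothOfRelativeDimension (n + 1) (X ↘ Spec (CommRingCat.of k)) := ‹_›
  rintro ⟨F₀, G₀⟩ ⟨hindep, hpair, hfin, hmem⟩
  let V := LefPen.Form r k d
  let bW := Module.finBasis k (V × V)
  let c₀ : Fin (Module.finrank k (V × V)) → k := fun l => bW.repr (F₀, G₀) l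
  let E : (Fin (Module.finrank k (V × V)) → k) →ₗ[k] V × V := bW.equivFun.symm.toLinearMap
  have hE : ∀ v : V × V, E (fun l => bW.repr v l) = v := fun v => bW.equivFun.symm_apply_apply v
  let Tr : V → Prop := fun H => LefPen.Transversal k (n + 1) 1 (LefPen.secToSpec i ({H} : Set V))
  let Bad : V → Prop := fun H => ¬ Tr H ∧ ¬ LefPen.OneOrdQuad k (n + 1) i H
  have hBadsmul : ∀ H (a : k), a ≠ 0 → Bad H → Bad (a • H) := fun H a ha hH =>
    ⟨fun hT => hH.1 (by
      have := transversal_smul i (n + 1) _ (inv_ne_zero ha) hT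
      rwa [inv_smul_smul₀ ha] at this), fun hO => hH.2 (by
      have := oneOrdQuad_smul i (n + 1) _ (inv_ne_zero ha) hO
      rwa [inv_smul_smul₀ ha] at this)⟩
  have hbadsmul := fun H a x => badAt_smul (i := i) (d := d) (n := n) hi H a x
  -- a transversal member
  obtain ⟨a₀, ha₀⟩ : ∃ a₀ : k, Tr (F₀ + a₀ • G₀) := by
    obtain ⟨a₀, ha₀⟩ := hfin.infinite_compl.nonempty
    exact ⟨a₀, not_not.1 ha₀⟩
  have hbase := no_bad_on_base hi hn F₀ G₀ a₀ ha₀ hpair
  have hmemb : ∀ w : Fin 2 → k, w ≠ 0 → ¬ Bad (w 0 • F₀ + w 1 • G₀) := by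
    intro w hw hB
    by_cases hw0 : w 0 = 0
    · have hw1 : w 1 ≠ 0 := fun h1 => hw (funext fun j => by fin_cases j <;> assumption)
      rw [hw0, zero_smul, zero_add] at hB
      have h := hBadsmul _ _ (inv_ne_zero hw1) hB
      rw [inv_smul_smul₀ hw1] at h
      exact h.2 (hmem G₀ (Or.inl rfl) h.1)
    · have h := hBadsmul _ _ (inv_ne_zero hw0) hB
      rw [smul_add, inv_smul_smul₀ hw0, smul_smul] at h
      exact h.2 (hmem _ (Or.inr ⟨_, rfl⟩) h.1)
  -- the cone of bad members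
  let S : (Fin (Module.finrank k (V × V)) → k) → (Fin 2 → k) → Prop := fun c w =>
    Bad (w 0 • (E c).1 + w 1 • (E c).2) ∨ ∃ x : X, IsClosed ({x} : Set X) ∧
      BadAt i (w 0 • (E c).1 + w 1 • (E c).2) x ∧ (E c).1.1 ∈ (i x).asHomogeneousIdeal.toIdeal ∧
        (E c).2.1 ∈ (i x).asHomogeneousIdeal.toIdeal
  have hsm : ∀ (c : Fin (Module.finrank k (V × V)) → k) (w : Fin 2 → k) (a : k),
      (a • w) 0 • (E c).1 + (a • w) 1 • (E c).2 = a • (w 0 • (E c).1 + w 1 • (E c).2) := fun c w a => by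
    simp only [Pi.smul_apply, smul_eq_mul, smul_add, smul_smul]
  obtain ⟨g, hg, hgS⟩ := P1.elim c₀ S (fun c w a ha hS => by
    rcases hS with hB | ⟨x, hxc, hbad, hF, hG⟩
    · exact Or.inl (by rw [hsm]; exact hBadsmul _ a ha hB)
    · exact Or.inr ⟨x, hxc, by rw [hsm]; exact hbadsmul _ a x hxc hbad, hF, hG⟩) fun v hv => by
    let H₀ := v 0 • F₀ + v 1 • G₀
    obtain ⟨⟨f₁, hf₁, hf₁0, hf₁B⟩, f₂, hf₂, hf₂0, hf₂B⟩ :=
      exists_separating hi hn H₀ F₀ G₀ (hmemb v hv) fun x hxc hbad hF hG => hbase x v hv hxc hbad hF hG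
    obtain ⟨P, hP⟩ := exists_line_poly hf₁ hf₂ E
    refine ⟨P, ?_, fun c w hS => ?_⟩
    · rw [hP, show E c₀ = (F₀, G₀) from hE _]
      exact mul_ne_zero hf₁0 hf₂0
    · rw [hP]
      rcases hS with hB | ⟨x, hx⟩
      · rw [hf₁B _ hB, zero_mul]
      · exact mul_eq_zero_of_right _ (by_contra fun hne => hf₂B _ hne x hx)
  -- a transversal member and independence
  obtain ⟨fT, hfT, hfT0, hfTS⟩ := isZOpen_transversal (n := n + 1) (d := d) hi hn (F₀ + a₀ • G₀) ha₀
  have hG₀ : G₀ ≠ 0 := by simpa using hindep.ne_zero 1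
  obtain ⟨φ, hφ⟩ : ∃ φ : Module.Dual k V, φ G₀ ≠ 0 := by
    by_contra! hc
    exact hG₀ ((Module.forall_dual_apply_eq_zero_iff k _).1 hc)
  obtain ⟨ψ, hψ, hψG⟩ : ∃ ψ : Module.Dual k V, ψ F₀ ≠ 0 ∧ ψ G₀ = 0 := by
    have hnot : F₀ ∉ Submodule.span k ({G₀} : Set V) := fun h => by
      obtain ⟨a, ha⟩ := Submodule.mem_span_singleton.1 h
      have := LinearIndependent.pair_iff.1 hindep 1 (-a) (by rw [one_smul, neg_smul, ha, add_neg_cancel])
      exact one_ne_zero this.1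
    obtain ⟨ψ, h1, h2⟩ := Submodule.exists_dual_map_eq_bot_of_notMem hnot inferInstance
    refine ⟨ψ, h1, ?_⟩
    have := Submodule.mem_map_of_mem (f := ψ) (Submodule.mem_span_singleton_self G₀)
    rwa [h2, Submodule.mem_bot] at this
  let f₃ : V × V → k := fun FG => φ FG.2 * ψ FG.1 - φ FG.1 * ψ FG.2
  have hlin : ∀ l : V × V →ₗ[k] k, LefPen.IsPolyFun k (fun v : V × V => l v) := fun l => Algebra.subset_adjoin ⟨l, rfl⟩
  have hf₃ : LefPen.IsPolyFun k f₃ := Subalgebra.sub_mem _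
    (Subalgebra.mul_mem _ (hlin (φ ∘ₗ LinearMap.snd k V V)) (hlin (ψ ∘ₗ LinearMap.fst k V V)))
    (Subalgebra.mul_mem _ (hlin (φ ∘ₗ LinearMap.fst k V V)) (hlin (ψ ∘ₗ LinearMap.snd k V V)))
  have hfT' : LefPen.IsPolyFun k (fun FG : V × V => fT (FG.1 + a₀ • FG.2)) := by
    have := isPolyFun_comp_affine hfT (LinearMap.fst k V V + a₀ • LinearMap.snd k V V) 0
    convert this using 2 with FG
    exact congrArg fT (add_zero _).symm
  have hg' : LefPen.IsPolyFun k (fun FG : V × V => MvPolynomial.eval (fun l => bW.repr FG l) g) := isPolyFun_eval bW g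
  have h12 := isPolyFun_mul (isPolyFun_mul hg' hfT') hf₃
  refine ⟨_, h12, ?_, ?_⟩
  · show MvPolynomial.eval c₀ g * fT (F₀ + a₀ • G₀) * f₃ (F₀, G₀) ≠ 0
    exact mul_ne_zero (mul_ne_zero hg hfT0) (by simp [f₃, hψG, hφ, hψ])
  rintro ⟨F, G⟩ hFG
  simp only [mul_ne_zero_iff] at hFG
  obtain ⟨⟨hg', hT'⟩, h3⟩ := hFG
  have hS' : ∀ w : Fin 2 → k, w ≠ 0 → ¬ Bad (w 0 • F + w 1 • G) ∧ ¬ ∃ x : X, IsClosed ({x} : Set X) ∧
      BadAt i (w 0 • F + w 1 • G) x ∧ F.1 ∈ (i x).asHomogeneousIdeal.toIdeal ∧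
        G.1 ∈ (i x).asHomogeneousIdeal.toIdeal := fun w hw => by
    have h := hgS _ hg' w hw
    simp only [S, hE, not_or] at h
    exact h
  have hTr : Tr (F + a₀ • G) := hfTS _ hT'
  exact pencil_of hi hn a₀ fT hfT hfTS φ ψ F G hTr hT' h3 hS'

end Groth.Agent.H9LefPen

end
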