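import Groth.Agent.H9LefPen.JetAt
import Mathlib.LinearAlgebra.Dimension.StrongRankCondition
import Mathlib.RingTheory.KrullDimension.NonZeroDivisors

/-! Points where a family has independent jets are generically avoided. -/

set_option autoImplicit false
set_option linter.style.haveILetI false

universe u

noncomputable section

namespace Groth.Agent.H9LefPen.RankAvoid

open Matrix

/-- Independent vectors have an invertible minor. -/
theorem exists_minor {k : Type u} [Field k] {σ : Type*} {s : ℕ} (v : Fin s → σ → k) (hv : LinearIndependent k v) :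
    ∃ ρ : Fin s → σ, (Matrix.of fun a b => v b (ρ a)).det ≠ 0 := by
  classical
  let rows : σ → (Fin s → k) := fun j a => v a j
  have hspan : Submodule.span k (Set.range rows) = ⊤ := by
    by_contra hne
    obtain ⟨φ, hφ, hφ0⟩ := Submodule.exists_dual_map_eq_bot_of_lt_top (lt_top_iff_ne_top.2 hne) inferInstance
    refine hφ (LinearMap.ext fun z => ?_)
    have hc : ∑ a, φ (Pi.single a 1) • v a = 0 := by
      funext j
      have h := Submodule.mem_map_of_mem (f := φ) (Submodule.subset_span (Set.mem_range_self j) :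
        rows j ∈ Submodule.span k (Set.range rows))
      rw [hφ0, Submodule.mem_bot, pi_eq_sum_univ' (rows j), map_sum] at h
      simpa [rows, mul_comm] using h
    have hz := Fintype.linearIndependent_iff.1 hv _ hc
    rw [pi_eq_sum_univ' z, map_sum]
    simp [hz]
  obtain ⟨f, hf, hfspan, hfli⟩ := Submodule.exists_fun_fin_finrank_span_eq k (Set.range rows)
  have hrk : Module.finrank k (Submodule.span k (Set.range rows)) = s := by
    rw [hspan, finrank_top, Module.finrank_fin_fun]
  choose ρ hρ using hf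
  refine ⟨fun a => ρ (Fin.cast hrk.symm a), ?_⟩
  have hunit : IsUnit (Matrix.of fun a b => v b (ρ (Fin.cast hrk.symm a))) := by
    rw [← Matrix.linearIndependent_rows_iff_isUnit]
    have : LinearIndependent k (fun a : Fin s => f (Fin.cast hrk.symm a)) := hfli.comp _ (Fin.cast_injective _)
    convert this using 1
    funext a
    exact hρ _
  exact ((Matrix.isUnit_iff_isUnit_det _).1 hunit).ne_zero

variable {k : Type u} [Field k] {B : Type u} [CommRing B] [Algebra k B] [Algebra.FiniteType k B]

/-- Parameters with a solution near a point of full rank are contained in a proper closed set. -/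
theorem exists_poly {σ : Type*} [Fintype σ] {m s : ℕ} (M : Matrix σ (Fin m) B) (I : Ideal B)
    (hdim : ringKrullDim (B ⧸ I) ≤ (s : ℕ)) (ev₀ : B →ₐ[k] k) (c : Fin (s + 1) → Fin m → k)
    (hc : LinearIndependent k fun a => (M.map ev₀) *ᵥ c a) :
    ∃ f : B, ev₀ f ≠ 0 ∧ ∃ g : MvPolynomial (Fin m) k, g ≠ 0 ∧ ∀ ev : B →ₐ[k] k, I ≤ RingHom.ker ev → ev f ≠ 0 →
      ∀ e : Fin m → k, (∀ j, (M.map ev *ᵥ e) j = 0) → MvPolynomial.eval e g = 0 := by
  classical
  obtain ⟨ρ, hρ⟩ := exists_minor _ hc
  let Cm : Matrix (Fin m) (Fin (s + 1)) B := fun p b => algebraMap k B (c b p)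
  let Q : Matrix (Fin (s + 1)) (Fin (s + 1)) B := M.submatrix ρ id * Cm
  have hQ : ev₀ Q.det = (Matrix.of fun a b => (M.map ev₀ *ᵥ c b) (ρ a)).det := by
    rw [AlgHom.map_det]
    congr 1
    ext a b
    show ev₀ ((M.submatrix ρ id * Cm) a b) = ∑ p, ev₀ (M (ρ a) p) * c b p
    rw [Matrix.mul_apply, map_sum]
    exact Finset.sum_congr rfl fun p _ => by rw [map_mul]; exact congrArg _ (ev₀.commutes _)
  refine ⟨Q.det, hQ ▸ hρ, ?_⟩
  let q : B →+* B ⧸ I := Ideal.Quotient.mk I
  let B' := Localization.Away (q Q.det)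
  let φ : B →ₐ[k] B' := (IsScalarTower.toAlgHom k (B ⧸ I) B').comp (Ideal.Quotient.mkₐ k I)
  haveI : Algebra.FiniteType k B' := by
    haveI : Algebra.FiniteType k (B ⧸ I) := Algebra.FiniteType.of_surjective (Ideal.Quotient.mkₐ k I) Ideal.Quotient.mk_surjective
    haveI : Algebra.FiniteType (B ⧸ I) B' := IsLocalization.finiteType_of_monoid_fg (Submonoid.powers (q Q.det)) B'
    exact Algebra.FiniteType.trans (S := B ⧸ I) inferInstance inferInstance
  have hdim' : ringKrullDim B' ≤ (s : ℕ) := by
    refine le_trans ?_ hdim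
    refine Order.krullDim_le_of_strictMono (fun p => PrimeSpectrum.comap (algebraMap (B ⧸ I) B') p) ?_
    exact Monotone.strictMono_of_injective (fun p p' h a ha => h ha)
      (PrimeSpectrum.localization_comap_injective B' (Submonoid.powers (q Q.det)))
  have hu : IsUnit ((Q.map φ).det) := by
    rw [show Q.map φ = φ.mapMatrix Q from rfl, ← AlgHom.map_det]
    exact IsLocalization.Away.algebraMap_isUnit (S := B') (q Q.det)
  let τ := ULift.{u} (Fin m)
  let σ' := ULift.{u} (Fin (s + 1))
  let M' : Matrix σ' τ B' := fun a p => φ (M (ρ a.down) p.down)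
  let N' : Matrix τ σ' B' := fun p a => ((Cm.map φ) * (Q.map φ)⁻¹) p.down a.down
  have hMN : M' * N' = 1 := by
    have h1 : (M.submatrix ρ id).map φ * (Cm.map φ * (Q.map φ)⁻¹) = 1 := by
      rw [← Matrix.mul_assoc, ← Matrix.map_mul]
      exact Matrix.mul_nonsing_inv _ hu
    ext ⟨a⟩ ⟨b⟩
    rw [Matrix.mul_apply, ← Equiv.ulift.symm.sum_comp]
    have := congrFun₂ h1 a b
    rw [Matrix.mul_apply] at this
    simpa [M', N', Matrix.one_apply] using this
  obtain ⟨g, hg0, hg⟩ := BertiniSec.exists_ne_zero_eval_affine (k := k) s hdim' σ' τ (by simp [σ']) M' N' hMN 0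
  refine ⟨MvPolynomial.rename ULift.down g, (map_ne_zero_iff _ (MvPolynomial.rename_injective _ ULift.down_injective)).2 hg0,
    fun ev hI hf e he => ?_⟩
  rw [MvPolynomial.eval_rename]
  let evq : B ⧸ I →ₐ[k] k := Ideal.Quotient.liftₐ I ev fun x hx => hI hx
  let ev' : B' →ₐ[k] k := IsLocalization.liftAlgHom (M := Submonoid.powers (q Q.det)) (f := evq) (fun y => by
    obtain ⟨N, hN⟩ := y.2
    rw [← hN, map_pow]
    exact (isUnit_iff_ne_zero.2 hf).pow N)
  refine hg (e ∘ ULift.down) k ev' (funext fun a => ?_)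
  have h1 : ∀ x : B, ev' (φ x) = ev x := fun x => by
    show ev' (algebraMap (B ⧸ I) B' (q x)) = ev x
    simp only [ev', evq, q, IsLocalization.liftAlgHom_apply, IsLocalization.lift_eq]
    exact Ideal.Quotient.lift_mk _ _ _
  have h2 := he (ρ a.down)
  simp only [mulVec, dotProduct, Matrix.map_apply] at h2 ⊢
  rw [← Equiv.ulift.symm.sum_comp]
  simp only [M', h1, Function.comp_apply, Equiv.ulift_symm_apply, Algebra.algebraMap_self, RingHom.id_apply]
  rw [h2]
  exact (map_zero ev').symm

/-- A proper quotient of a domain has smaller dimension. -/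
theorem dim_quotient_le {R : Type u} [CommRing R] [IsDomain R] {a : R} (ha : a ≠ 0) {I : Ideal R} (haI : a ∈ I) {n : ℕ}
    (hR : ringKrullDim R ≤ (n + 1 : ℕ)) : ringKrullDim (R ⧸ I) ≤ (n : ℕ) := by
  have h1 : ringKrullDim (R ⧸ Ideal.span {a}) + 1 ≤ ringKrullDim R :=
    ringKrullDim_quotient_succ_le_of_nonZeroDivisor (mem_nonZeroDivisors_of_ne_zero ha)
  have h2 : ringKrullDim (R ⧸ I) ≤ ringKrullDim (R ⧸ Ideal.span {a}) :=
    ringKrullDim_le_of_surjective (Ideal.Quotient.factor ((Ideal.span_singleton_le_iff_mem _).2 haI))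
      (Ideal.Quotient.factor_surjective _)
  have h3 : ringKrullDim (R ⧸ Ideal.span {a}) + 1 ≤ ((n : ℕ) : WithBot ℕ∞) + 1 := by
    refine h1.trans (hR.trans (le_of_eq ?_))
    norm_cast
  refine h2.trans ?_
  rwa [← Nat.cast_one, ENat.WithBot.add_le_add_natCast_right_iff] at h3

end Groth.Agent.H9LefPen.RankAvoid

end
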