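import Groth.Agent.H9LefPen.Closed
import Groth.Agent.HypCurve.Scale
import Groth.Agent.S9382
import Groth.Agent.AlgSpLib.EtLocalInst
import Mathlib.AlgebraicGeometry.Morphisms.Etale
import Mathlib.AlgebraicGeometry.Morphisms.QuasiFinite

/-! Sections by pairs of forms and by multiples of forms. -/

set_option autoImplicit false
set_option linter.style.haveILetI false
set_option backward.isDefEq.respectTransparency false
set_option backward.isDefEq.respectTransparency.types false
set_option maxHeartbeats 1000000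

universe u

open CategoryTheory CategoryTheory.Limits AlgebraicGeometry TopologicalSpace

noncomputable section

namespace Groth.Agent.H9LefPen

open Groth.Agent

variable {k : Type u} [Field k] {r d : ℕ} {X : Scheme.{u}} (i : X ⟶ CohB1.ProjSpace r k)

theorem hypIdeal_smul (G : LefPen.Form r k d) {a : k} (ha : a ≠ 0) : LefPen.hypIdeal (a • G) = LefPen.hypIdeal G := by
  refine HypCurve.eq_hypIdeal G _ fun j => ?_
  rw [HypCurve.hypIdeal_chart, HypCurve.Scale.span_dehom_smul k G ha j]

theorem secIdeal_smul (G : LefPen.Form r k d) {a : k} (ha : a ≠ 0) :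
    LefPen.secIdeal i {a • G} = LefPen.secIdeal i {G} := by
  rw [LefPen.secIdeal, LefPen.secIdeal, iSup_singleton, iSup_singleton, hypIdeal_smul G ha]

theorem transversal_smul (n : ℕ) (G : LefPen.Form r k d) {a : k} (ha : a ≠ 0)
    (h : LefPen.Transversal k n 1 (LefPen.secToSpec i ({G} : Set (LefPen.Form r k d)))) :
    LefPen.Transversal k n 1 (LefPen.secToSpec i ({a • G} : Set (LefPen.Form r k d))) := by
  have key : ∀ I : X.IdealSheafData, I = LefPen.secIdeal i {G} →
      LefPen.Transversal k n 1 (I.subschemeι ≫ i ≫ CohB1.ProjSpace.toSpec r k) := by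
    rintro I rfl; exact h
  exact key _ (secIdeal_smul i G ha)

theorem oneOrdQuad_smul (n : ℕ) (G : LefPen.Form r k d) {a : k} (ha : a ≠ 0) (h : LefPen.OneOrdQuad k n i G) :
    LefPen.OneOrdQuad k n i (a • G) := by
  have key : ∀ I : X.IdealSheafData, I = LefPen.secIdeal i {G} →
      ∃ y : I.subscheme, {y' | LefPen.SmoothAt (I.subschemeι ≫ i ≫ CohB1.ProjSpace.toSpec r k) y'} =
          ({y}ᶜ : Set I.subscheme) ∧
        LefPen.IsOrdQuadSing k (n - 1) (I.subschemeι ≫ i ≫ CohB1.ProjSpace.toSpec r k) y := by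
    rintro I rfl; exact h
  exact key _ (secIdeal_smul i G ha)

/-- The section by two forms is the section of the first section by the second form. -/
theorem exists_iso_pair (F G : LefPen.Form r k d) :
    ∃ e : LefPen.Sec (LefPen.secι i {F} ≫ i) ({G} : Set (LefPen.Form r k d)) ≅ LefPen.Sec i ({F, G} : Set (LefPen.Form r k d)),
      e.hom ≫ LefPen.secToSpec i {F, G} = LefPen.secToSpec (LefPen.secι i {F} ≫ i) {G} := by
  let I := LefPen.secIdeal i ({F} : Set (LefPen.Form r k d))
  let J := LefPen.secIdeal i ({G} : Set (LefPen.Form r k d))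
  have hIJ : LefPen.secIdeal i ({F, G} : Set (LefPen.Form r k d)) = I ⊔ J := by
    simp only [I, J, LefPen.secIdeal, iSup_singleton, iSup_pair, Scheme.IdealSheafData.comap_sup]
  have hJ : LefPen.secIdeal (LefPen.secι i ({F} : Set (LefPen.Form r k d)) ≫ i) ({G} : Set (LefPen.Form r k d)) =
      J.comap I.subschemeι := by
    simp only [J, LefPen.secIdeal, Scheme.IdealSheafData.comap_comp]
    rfl
  have key : ∀ (A : I.subscheme.IdealSheafData) (B : X.IdealSheafData), A = J.comap I.subschemeι → B = I ⊔ J →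
      ∃ e : A.subscheme ≅ B.subscheme, e.hom ≫ B.subschemeι = A.subschemeι ≫ I.subschemeι := by
    rintro A B rfl rfl
    have hp := S9382.result X I J
    refine ⟨J.comapIso I.subschemeι ≪≫ hp.isoPullback.symm, ?_⟩
    rw [show (I ⊔ J).subschemeι = Scheme.IdealSheafData.inclusion (le_sup_left : I ≤ I ⊔ J) ≫ I.subschemeι from
      (Scheme.IdealSheafData.inclusion_subschemeι _).symm, Iso.trans_hom, Iso.symm_hom, Category.assoc,
      hp.isoPullback_inv_fst_assoc, Scheme.IdealSheafData.comapIso_hom_fst_assoc]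
  obtain ⟨e, he⟩ := key _ _ hJ hIJ
  exact ⟨e, by
    show e.hom ≫ (LefPen.secIdeal i {F, G}).subschemeι ≫ i ≫ _ = _
    rw [reassoc_of% he]
    simp only [LefPen.secToSpec, Category.assoc]
    rfl⟩

variable [IsAlgClosed k] [IsClosedImmersion i]

/-- Given a smooth hypersurface section, a general second one cuts it transversally. -/
theorem isGeneric_transversal_pair (n : ℕ) (hn : 1 ≤ n) (hd : 1 ≤ d) (F : LefPen.Form r k d)
    (hF : LefPen.Transversal k n 1 (LefPen.secToSpec i ({F} : Set (LefPen.Form r k d)))) :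
    LefPen.IsGeneric k {G : LefPen.Form r k d |
      LefPen.Transversal k n 2 (LefPen.secToSpec i ({F, G} : Set (LefPen.Form r k d)))} := by
  classical
  obtain ⟨-, hsm⟩ : 1 ≤ n ∧ SmoothOfRelativeDimension (n - 1) (LefPen.secToSpec i ({F} : Set (LefPen.Form r k d))) :=
    hF.resolve_right (fun h => absurd h.1 (by omega))
  let j := LefPen.secι i ({F} : Set (LefPen.Form r k d)) ≫ i
  haveI : SmoothOfRelativeDimension (n - 1) (j ≫ CohB1.ProjSpace.toSpec r k) := by
    rw [Category.assoc]; exact hsm
  haveI : IsClosedImmersion j := inferInstance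
  rcases (show 2 ≤ n ∨ n = 1 by omega) with hn2 | rfl
  · obtain ⟨f, hf, hne, hfS⟩ := isGeneric_transversal k j (n - 1) (by omega) d hd
    refine ⟨f, hf, hne, fun G hG => Or.inl ⟨hn2, ?_⟩⟩
    obtain ⟨e, he⟩ := exists_iso_pair i F G
    rcases hfS G hG with ⟨-, h⟩ | ⟨h, -⟩
    swap
    · omega
    rw [show n - 1 - 1 = n - 2 by omega] at h
    haveI := h
    rw [show LefPen.secToSpec i ({F, G} : Set (LefPen.Form r k d)) = e.inv ≫ LefPen.secToSpec j {G} by
      rw [← he, e.inv_hom_id_assoc]]
    exact (MorphismProperty.cancel_left_of_respectsIso (@SmoothOfRelativeDimension (n - 2)) e.inv _).2 h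
  -- a finite set of points is missed by a general form
  let Y := LefPen.Sec i ({F} : Set (LefPen.Form r k d))
  haveI : SmoothOfRelativeDimension 0 (j ≫ CohB1.ProjSpace.toSpec r k) := ‹SmoothOfRelativeDimension (1 - 1) _›
  haveI : Etale (j ≫ CohB1.ProjSpace.toSpec r k) := (Etale.iff_smoothOfRelativeDimension_zero _).2 ‹_›
  haveI : IsProper (CohB1.ProjSpace.toSpec r k) := PnCoh.Chow.isProper_toSpec r k
  haveI : Finite Y := by
    haveI : LocallyQuasiFinite (j ≫ CohB1.ProjSpace.toSpec r k) := inferInstance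
    haveI : Subsingleton (Spec (CommRingCat.of k)) := inferInstanceAs (Subsingleton (PrimeSpectrum k))
    cases isEmpty_or_nonempty Y
    · exact Finite.of_subsingleton
    · obtain ⟨y⟩ := ‹Nonempty Y›
      refine Set.finite_univ_iff.1 (((j ≫ CohB1.ProjSpace.toSpec r k).finite_preimage_singleton
        ((j ≫ CohB1.ProjSpace.toSpec r k) y)).subset fun z _ => ?_)
      exact Subsingleton.elim _ _
  haveI := Fintype.ofFinite Y
  choose jy hjy using fun y : Y => Opens.mem_iSup.1 ((HypCurve.iSup_chart r k).ge (Set.mem_univ (j y)))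
  haveI := finite_form (k := k) (r := r) d
  let b := Module.finBasis k (LefPen.Form r k d)
  let m := Module.finrank k (LefPen.Form r k d)
  -- a functional for each point
  have hφ : ∀ y : Y, ∃ φ : Module.Dual k (LefPen.Form r k d), (∃ G, φ G ≠ 0) ∧
      ∀ G, φ G ≠ 0 → G.1 ∉ (j y).asHomogeneousIdeal.toIdeal := by
    intro y
    let W : Submodule k (LefPen.Form r k d) :=
      ((j y).asHomogeneousIdeal.toIdeal.restrictScalars k).comap (Submodule.subtype _)
    have hW : W ≠ ⊤ := fun h => hjy y ((j y).isPrime.mem_of_pow_mem d (show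
      (⟨MvPolynomial.X (jy y) ^ d, (MvPolynomial.mem_homogeneousSubmodule _ _).2 (by
        have := (MvPolynomial.isHomogeneous_X k (jy y)).pow d
        rwa [one_mul] at this)⟩ : LefPen.Form r k d) ∈ W from h ▸ Submodule.mem_top))
    obtain ⟨G₁, hG₁⟩ : ∃ G₁, G₁ ∉ W := by
      by_contra! hc
      exact hW (eq_top_iff.2 fun z _ => hc z)
    obtain ⟨φ, hφ1, hφW⟩ := Submodule.exists_dual_map_eq_bot_of_notMem hG₁ inferInstance
    refine ⟨φ, ⟨G₁, hφ1⟩, fun G hG hmem => hG ?_⟩
    have := Submodule.mem_map_of_mem (f := φ) (show G ∈ W from hmem)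
    rwa [hφW, Submodule.mem_bot] at this
  choose φ hφ0 hφS using hφ
  let P : MvPolynomial (Fin m) k := ∏ y : Y, ∑ l, MvPolynomial.C (φ y (b l)) * MvPolynomial.X l
  have hev : ∀ G, MvPolynomial.eval (fun l => b.repr G l) P = ∏ y : Y, φ y G := fun G => by
    simp only [P, map_prod, map_sum, map_mul, MvPolynomial.eval_C, MvPolynomial.eval_X]
    refine Finset.prod_congr rfl fun y _ => ?_
    conv_rhs => rw [← b.sum_repr G, map_sum]
    exact Finset.sum_congr rfl fun l _ => by rw [map_smul, smul_eq_mul, mul_comm]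
  have hP : P ≠ 0 := Finset.prod_ne_zero_iff.2 fun y _ hy => by
    obtain ⟨G, hG⟩ := hφ0 y
    have := congrArg (MvPolynomial.eval fun l => b.repr G l) hy
    simp only [map_sum, map_mul, MvPolynomial.eval_C, MvPolynomial.eval_X, map_zero] at this
    refine hG ?_
    rw [← b.sum_repr G, map_sum, ← this]
    exact Finset.sum_congr rfl fun l _ => by rw [map_smul, smul_eq_mul, mul_comm]
  refine ⟨fun G => MvPolynomial.eval (fun l => b.repr G l) P, isPolyFun_eval b P, ?_, fun G hG => Or.inr ⟨by omega, ?_⟩⟩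
  · by_contra! hall
    refine hP (MvPolynomial.funext fun c => ?_)
    have := hall (∑ l, c l • b l)
    rw [b.repr_sum_self] at this
    rw [this, map_zero]
  · obtain ⟨e, -⟩ := exists_iso_pair i F G
    refine ⟨fun z => ?_⟩
    let w := (LefPen.secι j ({G} : Set (LefPen.Form r k d))) (e.inv z)
    have hw : w ∈ ((LefPen.secIdeal j ({G} : Set (LefPen.Form r k d))).support : Set Y) := by
      rw [← Scheme.IdealSheafData.range_subschemeι]; exact ⟨_, rfl⟩
    simp only [LefPen.secIdeal, iSup_singleton, Scheme.IdealSheafData.support_comap, TopologicalSpace.Closeds.coe_preimage] at hw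
    replace hG : MvPolynomial.eval (fun l => b.repr G l) P ≠ 0 := hG
    rw [hev] at hG
    exact hφS w G (Finset.prod_ne_zero_iff.1 hG w (Finset.mem_univ _)) ((WCI.mem_support_hypIdeal G (j w)).1 hw)

end Groth.Agent.H9LefPen

end
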