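import Groth.Agent.H9LefPen.Hess
import Groth.Agent.H9LefPen.LocalOrd
import Groth.Agent.H9LefPen.OrdPoint

/-! Smooth and ordinary singular points of a hypersurface section. -/

set_option autoImplicit false
set_option linter.style.haveILetI false
set_option backward.isDefEq.respectTransparency false
set_option backward.isDefEq.respectTransparency.types false
set_option maxHeartbeats 1000000

universe u

open CategoryTheory CategoryTheory.Limits AlgebraicGeometry TopologicalSpace Opposite Matrix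
open KaehlerDifferential (D)
open IsLocalRing (maximalIdeal)
open scoped TensorProduct

noncomputable section

namespace Groth.Agent.H9LefPen

open Groth.Agent

/-- The local ring of the point of the spectrum of a field is the field. -/
theorem smoothAt_iff {k : Type u} [Field k] {Y : Scheme.{u}} (g : Y ⟶ Spec (CommRingCat.of k)) (y : Y) :
    LefPen.SmoothAt g y ↔ (LefPen.toStalk k g y).FormallySmooth := by
  let S := Spec (CommRingCat.of k)
  have hF : IsField Γ(S, ⊤) :=
    (Scheme.ΓSpecIso (CommRingCat.of k)).commRingCatIsoToRingEquiv.toMulEquiv.isField (Field.toIsField k)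
  letI : Algebra Γ(S, ⊤) (S.presheaf.stalk (g y)) := (S.presheaf.germ ⊤ (g y) trivial).hom.toAlgebra
  haveI hloc : IsLocalization.AtPrime (S.presheaf.stalk (g y))
      ((isAffineOpen_top S).primeIdealOf ⟨g y, trivial⟩).asIdeal := (isAffineOpen_top S).isLocalization_stalk ⟨g y, trivial⟩
  have hu : ((isAffineOpen_top S).primeIdealOf ⟨g y, trivial⟩).asIdeal.primeCompl ≤ IsUnit.submonoid _ := fun a ha => by
    letI := hF.toField
    exact isUnit_iff_ne_zero.2 fun h => ha (h ▸ Ideal.zero_mem _)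
  haveI : IsLocalization ((isAffineOpen_top S).primeIdealOf ⟨g y, trivial⟩).asIdeal.primeCompl
      (S.presheaf.stalk (g y)) := hloc
  let e := ((Scheme.ΓSpecIso (CommRingCat.of k)).symm.commRingCatIsoToRingEquiv).trans
    (IsLocalization.atUnits Γ(S, ⊤) ((isAffineOpen_top S).primeIdealOf ⟨g y, trivial⟩).asIdeal.primeCompl
      (S := S.presheaf.stalk (g y)) hu).toRingEquiv
  have key : (g.stalkMap y).hom.comp e.toRingHom = LefPen.toStalk k g y :=
    RingHom.ext fun c => Scheme.Hom.germ_stalkMap_apply g ⊤ y trivial _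
  have hresp := RingHom.FormallySmooth.respectsIso
  refine ⟨fun h => key ▸ hresp.2 _ e h, fun h => ?_⟩
  have h2 := hresp.2 _ e.symm (key.symm ▸ h : ((g.stalkMap y).hom.comp e.toRingHom).FormallySmooth)
  rwa [RingHom.comp_assoc, RingEquiv.toRingHom_eq_coe, RingEquiv.toRingHom_eq_coe, RingEquiv.comp_symm,
    RingHom.comp_id] at h2

variable {k : Type u} [Field k] [IsAlgClosed k] {r d : ℕ} {X : Scheme.{u}} {i : X ⟶ CohB1.ProjSpace r k}
  [IsClosedImmersion i] [X.Over (Spec (CommRingCat.of k))] {n : ℕ}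

/-- The rational point of a chart at a closed point. -/
def Chart.evAt (C : Chart i n) {x : X} (hx : x ∈ C.U.1) (hxc : IsClosed ({x} : Set X)) : C.B →ₐ[k] k :=
  haveI : (C.U.2.primeIdealOf ⟨x, hx⟩).asIdeal.IsMaximal := isMaximal_of_closed hx hxc
  letI : Field (C.B ⧸ (C.U.2.primeIdealOf ⟨x, hx⟩).asIdeal) := Ideal.Quotient.field _
  haveI : Module.Finite k (C.B ⧸ (C.U.2.primeIdealOf ⟨x, hx⟩).asIdeal) := finite_of_finite_type_of_isJacobsonRing k _
  haveI : Algebra.IsIntegral k (C.B ⧸ (C.U.2.primeIdealOf ⟨x, hx⟩).asIdeal) := Algebra.IsIntegral.of_finite k _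
  ((AlgEquiv.ofBijective (Algebra.ofId k (C.B ⧸ (C.U.2.primeIdealOf ⟨x, hx⟩).asIdeal))
    (IsAlgClosed.algebraMap_bijective_of_isIntegral (k := k) (K := C.B ⧸ (C.U.2.primeIdealOf ⟨x, hx⟩).asIdeal))).symm).toAlgHom.comp
    (Ideal.Quotient.mkₐ k _)

theorem Chart.ker_evAt (C : Chart i n) {x : X} (hx : x ∈ C.U.1) (hxc : IsClosed ({x} : Set X)) :
    RingHom.ker (C.evAt hx hxc) = (C.U.2.primeIdealOf ⟨x, hx⟩).asIdeal := by
  ext a
  rw [RingHom.mem_ker, Chart.evAt, AlgHom.comp_apply]
  exact (map_eq_zero_iff _ (AlgEquiv.injective _)).trans Ideal.Quotient.eq_zero_iff_mem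

variable (hi : X ↘ Spec (CommRingCat.of k) = i ≫ CohB1.ProjSpace.toSpec r k)

/-- The ideal of the singular points of a section on a chart. -/
def Chart.badIdeal (C : Chart i n) [Nontrivial C.B] (H : LefPen.Form r k d) : Ideal C.B :=
  Ideal.span (insert (C.pull H.1) (Set.range fun l => C.ω.coord l (D k C.B (C.pull H.1))))

theorem Chart.badIdeal_le_iff (C : Chart i n) [Nontrivial C.B] (H : LefPen.Form r k d) (v : Ideal C.B) :
    C.badIdeal H ≤ v ↔ C.pull H.1 ∈ v ∧ ∀ l, C.ω.coord l (D k C.B (C.pull H.1)) ∈ v := by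
  rw [Chart.badIdeal, Ideal.span_le, Set.insert_subset_iff, Set.range_subset_iff]
  rfl

theorem Chart.badAt_iff_le (C : Chart i n) [Nontrivial C.B] (H : LefPen.Form r k d) {x : X} (hx : x ∈ C.U.1)
    (hxc : IsClosed ({x} : Set X)) : BadAt i H x ↔ C.badIdeal H ≤ (C.U.2.primeIdealOf ⟨x, hx⟩).asIdeal := by
  haveI := isMaximal_of_closed hx hxc
  rw [C.badAt_iff H hx hxc, C.badIdeal_le_iff]
  exact ⟨fun h => ⟨Ideal.pow_le_self two_ne_zero h, fun l => functional_mem_of_mem_sq _ h _⟩,
    fun h => mem_sq_of_functional_mem _ C.ω h.1 h.2⟩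

/-- The structure of the local ring of a section at a point of a chart. -/
theorem Chart.exists_stalkHom (C : Chart i n) (H : LefPen.Form r k d)
    (z : LefPen.Sec i ({H} : Set (LefPen.Form r k d))) (hz : LefPen.secι i ({H} : Set (LefPen.Form r k d)) z ∈ C.U.1) :
    letI : Algebra C.B (X.presheaf.stalk (LefPen.secι i ({H} : Set (LefPen.Form r k d)) z)) :=
      (X.presheaf.germ C.U.1 _ hz).hom.toAlgebra
    RingHom.ker ((LefPen.secι i ({H} : Set (LefPen.Form r k d))).stalkMap z).hom =
      Ideal.span {algebraMap C.B (X.presheaf.stalk (LefPen.secι i ({H} : Set (LefPen.Form r k d)) z)) (C.pull H.1)} :=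
  ker_stalkMap_subschemeι z C.U hz _ (C.ideal_sec H)

include hi in
/-- At a point where the equation has a unit differential the section is smooth; it is smooth also where the equation
is zero. -/
theorem Chart.smoothAt_of (C : Chart i n) [Nontrivial C.B] (H : LefPen.Form r k d)
    (z : LefPen.Sec i ({H} : Set (LefPen.Form r k d))) (hz : LefPen.secι i ({H} : Set (LefPen.Form r k d)) z ∈ C.U.1)
    (h : C.pull H.1 = 0 ∨ ∃ l, C.ω.coord l (D k C.B (C.pull H.1)) ∉ (C.U.2.primeIdealOf ⟨_, hz⟩).asIdeal) :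
    LefPen.SmoothAt (LefPen.secToSpec i ({H} : Set (LefPen.Form r k d))) z := by
  rw [smoothAt_iff]
  let x := LefPen.secι i ({H} : Set (LefPen.Form r k d)) z
  let v := (C.U.2.primeIdealOf ⟨x, hz⟩).asIdeal
  let S := X.presheaf.stalk x
  let A := (LefPen.Sec i ({H} : Set (LefPen.Form r k d))).presheaf.stalk z
  letI : Algebra C.B S := (X.presheaf.germ C.U.1 _ hz).hom.toAlgebra
  haveI : IsLocalization.AtPrime S v := C.U.2.isLocalization_stalk ⟨_, hz⟩
  letI : Algebra k S := (LefPen.toStalk k (X ↘ Spec (CommRingCat.of k)) x).toAlgebra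
  haveI : IsScalarTower k C.B S := IsScalarTower.of_algebraMap_eq fun c => toStalk_eq_germ _ _ hz c
  haveI : Algebra.FormallyEtale C.B S := Algebra.FormallyEtale.of_isLocalization v.primeCompl
  haveI : Algebra.FormallySmooth k S := Algebra.FormallySmooth.comp k C.B S
  let g := LefPen.secToSpec i ({H} : Set (LefPen.Form r k d))
  letI : Algebra k A := (LefPen.toStalk k g z).toAlgebra
  let π : S →ₐ[k] A := AlgHom.mk ((LefPen.secι i ({H} : Set (LefPen.Form r k d))).stalkMap z).hom fun c => by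
    show ((LefPen.secι i ({H} : Set (LefPen.Form r k d))).stalkMap z).hom (LefPen.toStalk k (X ↘ Spec (CommRingCat.of k)) x c) = _
    rw [← toStalk_comp, hi]
    rfl
  have hπ : Function.Surjective π := Scheme.Hom.stalkMap_surjective _ z
  have hker : RingHom.ker π = Ideal.span {algebraMap C.B S (C.pull H.1)} := C.exists_stalkHom H z hz
  let e : (S ⧸ Ideal.span {algebraMap C.B S (C.pull H.1)}) ≃ₐ[k] A :=
    (Ideal.quotientEquivAlgOfEq k hker.symm).trans (Ideal.quotientKerAlgEquivOfSurjective hπ)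
  show (algebraMap k A).FormallySmooth
  rw [RingHom.formallySmooth_algebraMap]
  suffices Algebra.FormallySmooth k (S ⧸ Ideal.span {algebraMap C.B S (C.pull H.1)}) from
    Algebra.FormallySmooth.of_equiv e
  rcases h with h | ⟨l, hl⟩
  · have hI : Ideal.span {algebraMap C.B S (C.pull H.1)} = ⊥ := by rw [h, map_zero, Ideal.span_singleton_eq_bot]
    exact Algebra.FormallySmooth.of_equiv ((AlgEquiv.quotientBot k S).symm.trans (Ideal.quotientEquivAlgOfEq k hI.symm))
  · let eΩ := KaehlerDifferential.tensorKaehlerEquivOfFormallyEtale k C.B S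
    let ψ : Ω[S⁄k] →ₗ[S] S :=
      ((TensorProduct.AlgebraTensorModule.rid C.B S S).toLinearMap ∘ₗ (C.ω.coord l).baseChange S) ∘ₗ eΩ.symm.toLinearMap
    have hψ : ψ (D k S (algebraMap C.B S (C.pull H.1))) = algebraMap C.B S (C.ω.coord l (D k C.B (C.pull H.1))) := by
      have e1 : eΩ.symm (D k S (algebraMap C.B S (C.pull H.1))) = 1 ⊗ₜ[C.B] D k C.B (C.pull H.1) := by
        rw [LinearEquiv.symm_apply_eq]
        simp [eΩ]
      simp [ψ, e1, Algebra.smul_def]
    obtain ⟨us, hus⟩ := IsLocalization.map_units S (⟨_, hl⟩ : v.primeCompl)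
    refine BertiniSec.formallySmooth_quotient' _ ((↑us⁻¹ : S) • ψ) ?_
    rw [LinearMap.smul_apply, hψ, show algebraMap C.B S (C.ω.coord l (D k C.B (C.pull H.1))) = (us : S) from hus.symm,
      smul_eq_mul, Units.inv_mul, sub_self]
    exact Ideal.zero_mem _

variable [IrreducibleSpace X] [hX : SmoothOfRelativeDimension n (X ↘ Spec (CommRingCat.of k))]

include hi in
/-- Where a nonzero equation vanishes to second order the section is not smooth. -/
theorem Chart.not_smoothAt (C : Chart i n) (H : LefPen.Form r k d) (hne : C.pull H.1 ≠ 0)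
    (z : LefPen.Sec i ({H} : Set (LefPen.Form r k d))) (hz : LefPen.secι i ({H} : Set (LefPen.Form r k d)) z ∈ C.U.1)
    (hzc : IsClosed ({LefPen.secι i ({H} : Set (LefPen.Form r k d)) z} : Set X))
    (hbad : BadAt i H (LefPen.secι i ({H} : Set (LefPen.Form r k d)) z)) :
    ¬ LefPen.SmoothAt (LefPen.secToSpec i ({H} : Set (LefPen.Form r k d))) z := by
  rw [smoothAt_iff]
  haveI := C.isDomain hz
  let x := LefPen.secι i ({H} : Set (LefPen.Form r k d)) z
  let v := (C.U.2.primeIdealOf ⟨x, hz⟩).asIdeal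
  haveI : v.IsMaximal := isMaximal_of_closed hz hzc
  let S := X.presheaf.stalk x
  let A := (LefPen.Sec i ({H} : Set (LefPen.Form r k d))).presheaf.stalk z
  letI : Algebra C.B S := (X.presheaf.germ C.U.1 _ hz).hom.toAlgebra
  haveI : IsLocalization.AtPrime S v := C.U.2.isLocalization_stalk ⟨_, hz⟩
  letI : Algebra k S := (LefPen.toStalk k (X ↘ Spec (CommRingCat.of k)) x).toAlgebra
  haveI : IsScalarTower k C.B S := IsScalarTower.of_algebraMap_eq fun c => toStalk_eq_germ _ _ hz c
  haveI : Algebra.FormallyEtale C.B S := Algebra.FormallyEtale.of_isLocalization v.primeCompl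
  haveI : Algebra.FormallySmooth k S := Algebra.FormallySmooth.comp k C.B S
  haveI : IsDomain S := IsLocalization.isDomain_of_le_nonZeroDivisors (M := v.primeCompl) S
    v.primeCompl_le_nonZeroDivisors
  let g := LefPen.secToSpec i ({H} : Set (LefPen.Form r k d))
  letI : Algebra k A := (LefPen.toStalk k g z).toAlgebra
  let π : S →ₐ[k] A := AlgHom.mk ((LefPen.secι i ({H} : Set (LefPen.Form r k d))).stalkMap z).hom fun c => by
    show ((LefPen.secι i ({H} : Set (LefPen.Form r k d))).stalkMap z).hom (LefPen.toStalk k (X ↘ Spec (CommRingCat.of k)) x c) = _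
    rw [← toStalk_comp, hi]
    rfl
  show ¬ (algebraMap k A).FormallySmooth
  rw [RingHom.formallySmooth_algebraMap]
  refine Loc.not_formallySmooth (h := algebraMap C.B S (C.pull H.1)) ?_ ?_ π (Scheme.Hom.stalkMap_surjective _ z)
    (C.exists_stalkHom H z hz)
  · rw [← IsLocalization.AtPrime.map_eq_maximalIdeal v S, ← Ideal.map_pow]
    exact Ideal.mem_map_of_mem _ ((C.badAt_iff H hz hzc).1 hbad)
  · exact fun h => hne (IsLocalization.injective S (M := v.primeCompl) v.primeCompl_le_nonZeroDivisors (h.trans (map_zero _).symm))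

/-- The table of second order coefficients of the equation at a point. -/
def Chart.hess (C : Chart i n) [Nontrivial C.B] (ev : C.B →ₐ[k] k) (H : LefPen.Form r k d) : Fin n → Fin n → k :=
  fun a b => ev (Hess.tab C.ω a b (C.pull H.1))

omit [IsClosedImmersion i] [IrreducibleSpace X] in
theorem quadOrd_congr {N : ℕ} {a a' : Fin N → Fin N → k} (h : ∀ i j, i ≤ j → a i j = a' i j) :
    VanCyc.QuadOrd a ↔ VanCyc.QuadOrd a' := by
  have e : ∀ v, VanCyc.quadEval a v = VanCyc.quadEval a' v := fun v => by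
    refine Finset.sum_congr rfl fun i _ => Finset.sum_congr rfl fun j _ => ?_
    split_ifs with hij
    · rw [h i j hij]
    · rfl
  rw [VanCyc.QuadOrd, VanCyc.QuadOrd, PSQuad.polarMatrix_congr h]
  simp only [e]

theorem isQuadPart_quadPart {m : ℕ} {Q : MvPowerSeries (Fin (m + 1)) k} {Q₂ : LefPen.Form m k 2}
    (h : LefPen.IsQuadPart k Q Q₂) : Q₂ = ⟨VanCyc.quadPoly (VanCyc.quadPart Q), quadPoly_mem _⟩ := by
  refine Subtype.ext (MvPolynomial.ext _ _ fun e => ?_)
  show Q₂.1.coeff e = (VanCyc.quadPoly (VanCyc.quadPart Q)).coeff e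
  by_cases he : e.degree = 2
  · rcases PSQuad.degree_le_two_cases (d := e) (by omega) with rfl | ⟨a, rfl⟩ | ⟨a, b, hab, rfl⟩
    · simp at he
    · simp [Finsupp.degree_single] at he
    · rw [PSQuad.coeff_quadPoly_pair _ hab, PSQuad.quadPart_apply hab]
      exact h _ he
  · rw [PSQuad.coeff_quadPoly_eq_zero _ he]
    exact MvPolynomial.IsHomogeneous.coeff_eq_zero ((MvPolynomial.mem_homogeneousSubmodule _ _).1 Q₂.2) he

include hi in
/-- The ordinary quadratic points are those with an ordinary table of second order coefficients. -/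
theorem Chart.isOrdQuadSing_iff {m : ℕ} [SmoothOfRelativeDimension (m + 1) (X ↘ Spec (CommRingCat.of k))]
    (C : Chart i (m + 1)) [Nontrivial C.B] (H : LefPen.Form r k d)
    (z : LefPen.Sec i ({H} : Set (LefPen.Form r k d))) (hz : LefPen.secι i ({H} : Set (LefPen.Form r k d)) z ∈ C.U.1)
    (hzc : IsClosed ({LefPen.secι i ({H} : Set (LefPen.Form r k d)) z} : Set X))
    (hbad : BadAt i H (LefPen.secι i ({H} : Set (LefPen.Form r k d)) z)) :
    LefPen.IsOrdQuadSing k m (LefPen.secToSpec i ({H} : Set (LefPen.Form r k d))) z ↔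
      VanCyc.QuadOrd (C.hess (C.evAt hz hzc) H) := by
  classical
  let ι' := LefPen.secι i ({H} : Set (LefPen.Form r k d))
  let x := ι' z
  let v := (C.U.2.primeIdealOf ⟨x, hz⟩).asIdeal
  haveI : v.IsMaximal := isMaximal_of_closed hz hzc
  let ev := C.evAt hz hzc
  have hev : RingHom.ker ev = v := C.ker_evAt hz hzc
  obtain ⟨σ₀, h0, h1⟩ := Hess.exists_coords C.ω ev
  have hh : C.pull H.1 ∈ RingHom.ker ev ^ 2 := hev.symm ▸ (C.badAt_iff H hz hzc).1 hbad
  obtain ⟨c, hc⟩ := Hess.exists_table C.ω ev h0 h1 hh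
  refine Iff.trans ?_ (quadOrd_congr (a := C.hess ev H) (a' := c) fun a b hab => Hess.tab_eq C.ω ev h0 h1 c hc hab).symm
  let S := X.presheaf.stalk x
  letI algBS : Algebra C.B S := (X.presheaf.germ C.U.1 _ hz).hom.toAlgebra
  haveI : IsLocalization.AtPrime S v := C.U.2.isLocalization_stalk ⟨_, hz⟩
  letI : Algebra k S := (LefPen.toStalk k (X ↘ Spec (CommRingCat.of k)) x).toAlgebra
  haveI : IsScalarTower k C.B S := IsScalarTower.of_algebraMap_eq fun c => toStalk_eq_germ _ _ hz c
  haveI : IsNoetherianRing C.B := Algebra.FiniteType.isNoetherianRing k C.B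
  haveI : IsNoetherianRing S := IsLocalization.isNoetherianRing v.primeCompl S inferInstance
  have hmS : v.map (algebraMap C.B S) = maximalIdeal S := IsLocalization.AtPrime.map_eq_maximalIdeal v S
  let σ : Fin (m + 1) → S := fun l => algebraMap C.B S (σ₀ l)
  have hdim : ringKrullDim S = ((m + 1 : ℕ) : WithBot ℕ∞) := by
    rw [IsLocalization.AtPrime.ringKrullDim_eq_height v S]
    exact height_maximal k C.B (m + 1) v
  have hres : ∀ w : S, ∃ a : k, w - algebraMap k S a ∈ maximalIdeal S := fun w => by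
    obtain ⟨⟨b, u⟩, rfl⟩ := IsLocalization.mk'_surjective v.primeCompl w
    obtain ⟨cb, hcb⟩ := exists_const (k := k) v b
    obtain ⟨cu, hcu⟩ := exists_const (k := k) v u.1
    have hcu0 : cu ≠ 0 := fun h => u.2 (by simpa [h] using hcu)
    refine ⟨cb / cu, ?_⟩
    have hu : IsUnit (algebraMap C.B S u.1) := IsLocalization.map_units S u
    show IsLocalization.mk' S b u - algebraMap k S (cb / cu) ∈ maximalIdeal S
    rw [← Ideal.mul_unit_mem_iff_mem _ hu, sub_mul, IsLocalization.mk'_spec,
      IsScalarTower.algebraMap_apply k C.B S, ← map_mul, ← map_sub, ← hmS]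
    refine Ideal.mem_map_of_mem _ ?_
    rw [show b - algebraMap k C.B (cb / cu) * u.1 = (b - algebraMap k C.B cb) -
      algebraMap k C.B (cb / cu) * (u.1 - algebraMap k C.B cu) by
        rw [mul_sub, ← map_mul, div_mul_cancel₀ _ hcu0]; ring]
    exact sub_mem hcb (Ideal.mul_mem_left _ _ hcu)
  have hgen : maximalIdeal S = Ideal.span (Set.range σ) := by
    refine le_antisymm (PSQuad.maximalIdeal_le_of_le_sup_sq ?_) (Ideal.span_le.2 ?_)
    · have h2 := Ideal.map_mono (f := algebraMap C.B S) (Hess.ker_le_span C.ω ev h0 h1)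
      rwa [hev, Ideal.map_sup, Ideal.map_pow, hmS, Ideal.map_span, ← Set.range_comp] at h2
    · rintro _ ⟨l, rfl⟩
      refine hmS ▸ Ideal.mem_map_of_mem _ ?_
      rw [← hev]; exact h0 l
  obtain ⟨Φ, hΦ⟩ := exists_toPowerSeries S hres hdim σ hgen
  let h := algebraMap C.B S (C.pull H.1)
  have hq : Φ h - (VanCyc.quadPoly c : MvPolynomial (Fin (m + 1)) k) ∈ PSLib.vars (m + 1) k ^ 3 := by
    refine Loc.quad_part σ hgen Φ hΦ h c ?_
    have h2 := Ideal.mem_map_of_mem (algebraMap C.B S) hc
    rw [hev, Ideal.map_pow, hmS, map_sub, ← MvPolynomial.aeval_algebraMap_apply] at h2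
    exact h2
  have hcoef : ∀ e, e.degree < 3 → MvPowerSeries.coeff e (Φ h) = (VanCyc.quadPoly c).coeff e :=
    fun e he => Loc.coeff_of_quad hq he
  have hh2 : Φ h ∈ PSLib.vars (m + 1) k ^ 2 := PSLib.mem_pow_iff.2 fun e he => by
    rw [hcoef e (by omega), PSQuad.coeff_quadPoly_eq_zero _ (by omega)]
  have hpart : ∀ a b, a ≤ b → VanCyc.quadPart (Φ h) a b = c a b := fun a b hab => by
    rw [PSQuad.quadPart_apply hab, hcoef _ (Hess.degree_pair a b), PSQuad.coeff_quadPoly_pair c hab]
  let A := (LefPen.Sec i ({H} : Set (LefPen.Form r k d))).presheaf.stalk z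
  let g := LefPen.secToSpec i ({H} : Set (LefPen.Form r k d))
  letI : Algebra k A := (LefPen.toStalk k g z).toAlgebra
  let π : S →ₐ[k] A := AlgHom.mk (ι'.stalkMap z).hom fun c => by
    show (ι'.stalkMap z).hom (LefPen.toStalk k (X ↘ Spec (CommRingCat.of k)) x c) = _
    rw [← toStalk_comp, hi]
    rfl
  obtain ⟨e⟩ := Loc.completion_equiv hres σ hgen Φ hΦ h (Ideal.pow_le_self two_ne_zero hh2) A π
    (Scheme.Hom.stalkMap_surjective _ z) (C.exists_stalkHom H z hz)
  constructor
  · rintro ⟨-, Q, Q₂, f, hf, hQ, hQ₂, hnd⟩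
    let fa : AdicCompletion (maximalIdeal A) A ≃ₐ[k] (MvPowerSeries (Fin (m + 1)) k ⧸ Ideal.span {Q}) :=
      AlgEquiv.ofRingEquiv (f := f) fun a => (congrArg f (IsScalarTower.algebraMap_apply k A _ a)).trans (hf a)
    have hQm : Q ∈ PSLib.vars (m + 1) k ^ 2 := PSLib.mem_pow_iff.2 fun e he => hQ e he
    rw [isQuadPart_quadPart hQ₂, nondegQuad_iff] at hnd
    exact (quadOrd_congr hpart).1 (Loc.quadOrd_of_equiv hQm hh2 (by omega) (fa.symm.trans e.symm) hnd)
  · intro hord
    refine ⟨?_, Φ h, ⟨VanCyc.quadPoly c, quadPoly_mem c⟩, e.symm.toRingEquiv, fun a => ?_, fun w hw => ?_,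
      fun w hw => (hcoef w (by omega)).symm, (nondegQuad_iff c).2 hord⟩
    · have h2 := hzc.preimage ι'.continuous
      rwa [show ι' ⁻¹' {ι' z} = {z} from Set.ext fun w =>
        ⟨fun h => ι'.isEmbedding.injective h, fun h => by rw [Set.mem_singleton_iff.1 h]; rfl⟩] at h2
    · show e.symm (algebraMap A _ (algebraMap k A a)) = _
      rw [← IsScalarTower.algebraMap_apply, AlgEquiv.commutes]
      rfl
    · rw [hcoef w (by omega)]
      exact PSQuad.coeff_quadPoly_eq_zero c (by omega)

end Groth.Agent.H9LefPen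

end
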