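import Groth.Agent.H9LefPen.Jets

/-! A general hypersurface section is transversal. -/

set_option autoImplicit false
set_option linter.style.haveILetI false
set_option backward.isDefEq.respectTransparency false
set_option backward.isDefEq.respectTransparency.types false
set_option maxHeartbeats 1000000

universe u

open CategoryTheory CategoryTheory.Limits AlgebraicGeometry TopologicalSpace Opposite
open KaehlerDifferential (D)

noncomputable section

namespace Groth.Agent.H9LefPen

open Groth.Agent

/-- A quotient by a function with nonvanishing differential is smooth of one dimension less. -/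
theorem locally_quotient {k B : Type u} [Field k] [CommRing B] [Algebra k B] (m : ℕ)
    [Algebra.IsStandardSmoothOfRelativeDimension m k B] (h : B)
    (hs : ∀ v : Ideal B, v.IsPrime → h ∈ v → ∃ φ : Ω[B⁄k] →ₗ[B] B, φ (D k B h) ∉ v) :
    RingHom.Locally (RingHom.IsStandardSmoothOfRelativeDimension (m - 1))
      ((Ideal.Quotient.mk (Ideal.span {h})).comp (algebraMap k B)) := by
  rw [RingHom.locally_iff_span_eq_top]
  by_contra hne
  obtain ⟨P, hPm, hP⟩ := Ideal.exists_le_maximal _ hne
  haveI := hPm.isPrime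
  let C := B ⧸ Ideal.span {h}
  obtain ⟨φ, hφ⟩ := hs (P.comap (Ideal.Quotient.mk _)) inferInstance (by
    rw [Ideal.mem_comap, Ideal.Quotient.eq_zero_iff_mem.2 (Ideal.mem_span_singleton_self h)]
    exact P.zero_mem)
  let s := φ (D k B h)
  let Bs := Localization.Away s
  haveI : Algebra.IsStandardSmoothOfRelativeDimension m k Bs := by
    haveI : Algebra.IsStandardSmoothOfRelativeDimension 0 B Bs :=
      Algebra.IsStandardSmoothOfRelativeDimension.localization_away s
    have := Algebra.IsStandardSmoothOfRelativeDimension.trans (n := m) (m := 0) k B Bs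
    simpa using this
  haveI : Algebra.FormallyEtale B Bs := Algebra.FormallyEtale.of_isLocalization (Submonoid.powers s)
  let eΩ := KaehlerDifferential.tensorKaehlerEquivOfFormallyEtale k B Bs
  let h' := algebraMap B Bs h
  let ψ : Ω[Bs⁄k] →ₗ[Bs] Bs :=
    ((TensorProduct.AlgebraTensorModule.rid B Bs Bs).toLinearMap ∘ₗ φ.baseChange Bs) ∘ₗ eΩ.symm.toLinearMap
  have hψ : ψ (D k Bs h') = algebraMap B Bs s := by
    have e1 : eΩ.symm (D k Bs h') = 1 ⊗ₜ[B] D k B h := by
      rw [LinearEquiv.symm_apply_eq]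
      simp [eΩ, h']
    simp [ψ, e1, s, Algebra.smul_def]
  obtain ⟨us, hus⟩ := IsLocalization.Away.algebraMap_isUnit (S := Bs) s
  let φ' : Ω[Bs⁄k] →ₗ[Bs] Bs := (↑us⁻¹ : Bs) • ψ
  have hφ' : φ' (D k Bs h') = 1 := by
    rw [LinearMap.smul_apply, hψ, ← hus, smul_eq_mul, Units.inv_mul]
  let Cs := Bs ⧸ Ideal.span {h'}
  let q : B →+* C := Ideal.Quotient.mk _
  let s' : C := q s
  let ρ : C →+* Cs := Ideal.quotientMap (Ideal.span {h'}) (algebraMap B Bs) (by
    rw [Ideal.span_le, Set.singleton_subset_iff]; exact Ideal.mem_span_singleton_self h')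
  letI : Algebra C Cs := ρ.toAlgebra
  haveI : IsScalarTower k C Cs := IsScalarTower.of_algebraMap_eq fun c => by
    show _ = ρ (q (algebraMap k B c))
    rw [Ideal.quotientMap_mk, ← IsScalarTower.algebraMap_apply k B Bs]
    rfl
  haveI hloc : IsLocalization.Away s' Cs := by
    have e : Ideal.span {h'} = (Ideal.span {h}).map (algebraMap B Bs) := by rw [Ideal.map_span, Set.image_singleton]
    have := IsLocalization.of_surjective (Submonoid.powers s) Bs q Ideal.Quotient.mk_surjective
      (Ideal.Quotient.mk (Ideal.span {h'})) Ideal.Quotient.mk_surjective (R' := C) (S' := Cs)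
      (RingHom.ext fun b => rfl) (by rw [Ideal.mk_ker, Ideal.mk_ker, e])
    rwa [Submonoid.map_powers] at this
  have hsP : s' ∉ P := hφ
  let Ps := P.map ρ
  haveI : Ps.IsPrime := IsLocalization.isPrime_of_isPrime_disjoint (Submonoid.powers s') Cs P inferInstance
    (Set.disjoint_left.2 fun a ⟨i, hi⟩ ha => hsP (hPm.isPrime.mem_of_pow_mem i ((congrArg (· ∈ P) hi).mpr ha)))
  obtain ⟨-, t, htP, ht⟩ := BertiniAff.exists_chart m h' φ' hφ' Ps
  obtain ⟨F, hF, hFloc⟩ := BertiniAff.exists_isLocalizationAway s' t (Localization.Away t) P Ps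
    (IsLocalization.under_map_of_isPrime_disjoint (Submonoid.powers s') Cs inferInstance
      (Set.disjoint_left.2 fun a ⟨i, hi⟩ ha => hsP (hPm.isPrime.mem_of_pow_mem i ((congrArg (· ∈ P) hi).mpr ha)))) htP
  refine hF (hP (Ideal.subset_span ?_))
  show RingHom.IsStandardSmoothOfRelativeDimension (m - 1)
    ((algebraMap C (Localization.Away F)).comp (algebraMap k C))
  rw [← IsScalarTower.algebraMap_eq, RingHom.isStandardSmoothOfRelativeDimension_algebraMap]
  exact Algebra.IsStandardSmoothOfRelativeDimension.of_algEquiv (n := m - 1)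
    ((IsLocalization.algEquiv (Submonoid.powers F) (Localization.Away t) (Localization.Away F)).restrictScalars k)

variable (k : Type u) [Field k] {r : ℕ} {X : Scheme.{u}} (i : X ⟶ CohB1.ProjSpace r k)

/-- A chart with a standard smooth ring inside the inverse image of a standard chart. -/
theorem exists_chart [IsAffineHom i] [X.Over (Spec (CommRingCat.of k))] (n : ℕ) [SmoothOfRelativeDimension n (X ↘ Spec (CommRingCat.of k))] (x : X) :
    ∃ (j : Fin (r + 1)) (U : X.affineOpens), x ∈ U.1 ∧ (∃ t : Γ(X, i ⁻¹ᵁ LefPen.chart r k j), X.basicOpen t = U.1) ∧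
      RingHom.IsStandardSmoothOfRelativeDimension n (BertiniSec.cst k U.1) := by
  haveI hX : SmoothOfRelativeDimension n (X ↘ Spec (CommRingCat.of k)) := ‹_›
  obtain ⟨W, hW, V, hV, hxV, e, hstd⟩ := hX.exists_isStandardSmoothOfRelativeDimension x
  have hW' : W = ⊤ := by
    refine top_le_iff.1 fun p _ => ?_
    rw [Subsingleton.elim p ((X ↘ Spec (CommRingCat.of k)) x)]
    exact e hxV
  subst hW'
  obtain ⟨j, hj⟩ := Opens.mem_iSup.1 ((HypCurve.iSup_chart r k).symm ▸ Opens.mem_top (i x) : i x ∈ ⨆ j, LefPen.chart r k j)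
  obtain ⟨t, g, htg, hxt⟩ := exists_basicOpen_le_affine_inter ((HypCurve.isAffineOpen_chart r k j).preimage i) hV x ⟨hj, hxV⟩
  refine ⟨j, X.affineBasicOpen (U := ⟨V, hV⟩) g, (htg ▸ hxt : x ∈ X.basicOpen g), ⟨t, htg⟩, ?_⟩
  haveI := hV.isLocalization_basicOpen g
  have h1 := (RingHom.isStandardSmoothOfRelativeDimension_stableUnderCompositionWithLocalizationAway n).right
    (S := Γ(X, V)) (T := Γ(X, X.basicOpen g)) g _ hstd
  have h2 := (RingHom.isStandardSmoothOfRelativeDimension_respectsIso (n := n)).2 _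
    ((Scheme.ΓSpecIso (CommRingCat.of k)).symm.commRingCatIsoToRingEquiv) h1
  show RingHom.IsStandardSmoothOfRelativeDimension n (BertiniSec.cst k (X.basicOpen g))
  have key : BertiniSec.cst k (X.basicOpen g) =
      ((algebraMap Γ(X, V) Γ(X, X.basicOpen g)).comp ((X ↘ Spec (CommRingCat.of k)).appLE ⊤ V e).hom).comp
        ((Scheme.ΓSpecIso (CommRingCat.of k)).symm.commRingCatIsoToRingEquiv).toRingHom := by
    refine RingHom.ext fun c => ?_
    show X.presheaf.map _ ((X ↘ Spec (CommRingCat.of k)).appTop _) =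
      X.presheaf.map _ (((X ↘ Spec (CommRingCat.of k)).appLE ⊤ V e) _)
    rw [Scheme.Hom.appLE, CommRingCat.comp_apply, ← CommRingCat.comp_apply (X.presheaf.map (homOfLE e).op) (X.presheaf.map _), ← Functor.map_comp]
    rfl
  rw [key]
  exact h2

variable [IsAlgClosed k]

theorem isGeneric_transversal (n : ℕ) (hn : 1 ≤ n) [IsClosedImmersion i]
    [SmoothOfRelativeDimension n (i ≫ CohB1.ProjSpace.toSpec r k)] (d : ℕ) (hd : 1 ≤ d) :
    LefPen.IsGeneric k {H : LefPen.Form r k d |
      LefPen.Transversal k n 1 (LefPen.secToSpec i ({H} : Set (LefPen.Form r k d)))} := by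
  classical
  letI : X.Over (Spec (CommRingCat.of k)) := ⟨i ≫ CohB1.ProjSpace.toSpec r k⟩
  haveI : SmoothOfRelativeDimension n (X ↘ Spec (CommRingCat.of k)) := ‹_›
  haveI : Module.Finite k (LefPen.Form r k d) :=
    Module.Finite.of_injective (Submodule.inclusion
      (fun p hp => (MvPolynomial.mem_restrictTotalDegree _ _ _).2
        ((MvPolynomial.IsHomogeneous.totalDegree_le hp) )) :
      LefPen.Form r k d →ₗ[k] MvPolynomial.restrictTotalDegree (Fin (r + 1)) k d) (Submodule.inclusion_injective _)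
  let b := Module.finBasis k (LefPen.Form r k d)
  let m := Module.finrank k (LefPen.Form r k d)
  choose j U hxU hbas hstd using fun x : X => exists_chart k i n x
  choose tt htt using hbas
  haveI : IsProper (CohB1.ProjSpace.toSpec r k) := PnCoh.Chow.isProper_toSpec r k
  haveI : CompactSpace X := QuasiCompact.compactSpace_of_compactSpace (i ≫ CohB1.ProjSpace.toSpec r k)
  obtain ⟨T, hT⟩ := isCompact_univ.elim_finite_subcover (fun x : X => ((U x).1 : Set X))
    (fun x => (U x).1.2) (fun x _ => Set.mem_iUnion.2 ⟨x, hxU x⟩)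
  have hle : ∀ x, (U x).1 ≤ i ⁻¹ᵁ LefPen.chart r k (j x) := fun x => (htt x) ▸ X.basicOpen_le (tt x)
  let pull : (x : X) → MvPolynomial (Fin (r + 1)) k →+* Γ(X, (U x).1) := fun x =>
    ((i.appLE (LefPen.chart r k (j x)) (U x).1 (hle x)).hom.comp
      (Proj.awayToSection (CohB1.polyGrading r k) (MvPolynomial.X (j x))).hom).comp (ZetaLib.dehom r k (j x))
  have hC : ∀ x c, pull x (MvPolynomial.C c) = BertiniSec.cst k (U x).1 c := fun x c => by
    show (i.appLE _ _ (hle x)).hom ((Proj.awayToSection _ _).hom (ZetaLib.dehom r k (j x) (MvPolynomial.C c))) = _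
    rw [ZetaLib.dehom, MvPolynomial.eval₂Hom_C, ← CurveVA.toSpec_appLE_chart r k (j x) c,
      ← CommRingCat.comp_apply, Scheme.Hom.appLE_comp_appLE]
    rfl
  have hXj : ∀ x, pull x (MvPolynomial.X (j x)) = 1 := fun x => by
    show (i.appLE _ _ (hle x)).hom ((Proj.awayToSection _ _).hom (ZetaLib.dehom r k (j x) (MvPolynomial.X (j x)))) = _
    rw [ZetaLib.dehom, MvPolynomial.eval₂Hom_X']
    have : ZetaLib.coord r k (j x) (j x) = 1 := HomogeneousLocalization.val_injective _ (by
      rw [ZetaLib.coord, HomogeneousLocalization.Away.val_mk, HomogeneousLocalization.val_one, ← Localization.mk_one,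
        Localization.mk_eq_mk_iff, Localization.r_iff_exists]
      exact ⟨1, by simp⟩)
    rw [this, map_one, map_one]
  have hideal : ∀ x (H : LefPen.Form r k d), (LefPen.secIdeal i {H}).ideal (U x) = Ideal.span {pull x H.1} := fun x H => by
    rw [LefPen.secIdeal, iSup_singleton, ModPairLib.ideal_comap _ i (HypCurve.achart r k (j x)) (U x) (hle x),
      HypCurve.hypIdeal_chart, Ideal.map_span, Set.image_singleton, HypCurve.dehom_eq]
    rfl
  have hg : ∀ x : X, ∃ g : MvPolynomial (Fin m) k, g ≠ 0 ∧ ∀ c : Fin m → k, MvPolynomial.eval c g ≠ 0 →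
      RingHom.Locally (RingHom.IsStandardSmoothOfRelativeDimension (n - 1))
        ((Ideal.Quotient.mk ((LefPen.secIdeal i {∑ l, c l • b l}).ideal (U x))).comp (BertiniSec.cst k (U x).1)) := by
    intro x
    letI := (BertiniSec.cst k (U x).1).toAlgebra
    haveI : Algebra.IsStandardSmoothOfRelativeDimension n k Γ(X, (U x).1) :=
      (RingHom.isStandardSmoothOfRelativeDimension_algebraMap _).1 (hstd x)
    haveI : Algebra.IsStandardSmooth k Γ(X, (U x).1) := Algebra.IsStandardSmoothOfRelativeDimension.isStandardSmooth n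
    haveI : Nonempty (U x).1 := ⟨⟨x, hxU x⟩⟩
    haveI : Nontrivial Γ(X, (U x).1) := (X.presheaf.germ (U x).1 x (hxU x)).hom.domain_nontrivial
    have hlin : ∀ c : Fin m → k, pull x (∑ l, c l • b l : LefPen.Form r k d).1 =
        ∑ l, algebraMap k _ (c l) * pull x (b l).1 := fun c => by
      rw [Submodule.coe_sum, map_sum]
      refine Finset.sum_congr rfl fun l _ => ?_
      rw [Submodule.coe_smul, MvPolynomial.smul_eq_C_mul, map_mul, hC]
      rfl
    have hjet : ∀ nn : Ideal Γ(X, (U x).1), nn.IsMaximal → ∀ y : Γ(X, (U x).1), ∃ c : Fin m → k,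
        ∑ l, algebraMap k _ (c l) * pull x (b l).1 - y ∈ nn ^ 2 := by
      intro nn hnn y
      have hconst : ∀ w : Γ(X, (U x).1), ∃ c : k, w - algebraMap k _ c ∈ nn := fun w => by
        letI := Ideal.Quotient.field nn
        haveI : Module.Finite k (Γ(X, (U x).1) ⧸ nn) := finite_of_finite_type_of_isJacobsonRing k _
        haveI : Algebra.IsIntegral k (Γ(X, (U x).1) ⧸ nn) := Algebra.IsIntegral.of_finite k _
        obtain ⟨c, hc⟩ := (IsAlgClosed.algebraMap_bijective_of_isIntegral (k := k) (K := Γ(X, (U x).1) ⧸ nn)).2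
          (Ideal.Quotient.mk nn w)
        exact ⟨c, Ideal.Quotient.eq.1 (by rw [← hc]; rfl)⟩
      let S : Set Γ(X, (U x).1) := {z | ∃ p : MvPolynomial (Fin (r + 1)) k, z - pull x p ∈ nn ^ 2}
      have hSlarge : ∀ z : Γ(X, i ⁻¹ᵁ LefPen.chart r k (j x)),
          ∃ p, AModX.resR (hle x) z = pull x p := fun z => by
        obtain ⟨w, hw⟩ := i.app_surjective (LefPen.chart r k (j x)) (HypCurve.isAffineOpen_chart r k (j x)) z
        obtain ⟨v, rfl⟩ := (HypCurve.awayToSection_bijective (j x)).2 w
        obtain ⟨p, rfl⟩ := ZetaLib.surjective_dehom r k (j x) v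
        refine ⟨p, ?_⟩
        rw [← hw]
        rfl
      have hV : IsAffineOpen (i ⁻¹ᵁ LefPen.chart r k (j x)) := (HypCurve.isAffineOpen_chart r k (j x)).preimage i
      letI : Algebra Γ(X, i ⁻¹ᵁ LefPen.chart r k (j x)) Γ(X, (U x).1) := (AModX.resR (hle x)).toAlgebra
      haveI : IsLocalization.Away (tt x) Γ(X, (U x).1) :=
        hV.isLocalization_of_eq_basicOpen (tt x) (homOfLE (hle x)) (htt x).symm
      obtain ⟨z, ⟨_, e, rfl⟩, hz⟩ := IsLocalization.exists_mk'_eq (Submonoid.powers (tt x)) y
      have hu : algebraMap _ Γ(X, (U x).1) (tt x) ∉ nn := fun h =>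
        hnn.ne_top (Ideal.eq_top_of_isUnit_mem _ h (IsLocalization.Away.algebraMap_isUnit (tt x)))
      obtain ⟨α, β, hαβ⟩ := exists_inverse_mod_sq nn hconst _ hu
      obtain ⟨pz, hpz⟩ := hSlarge z
      obtain ⟨pt, hpt⟩ := hSlarge (tt x)
      let q : MvPolynomial (Fin (r + 1)) k := pz * (MvPolynomial.C α + MvPolynomial.C β * pt) ^ e
      have hq : y - pull x q ∈ nn ^ 2 := by
        let T := algebraMap _ Γ(X, (U x).1) (tt x)
        let I := algebraMap k Γ(X, (U x).1) α + algebraMap k Γ(X, (U x).1) β * T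
        have hyz : y * T ^ e = algebraMap _ Γ(X, (U x).1) z := by
          rw [← hz, ← map_pow]; exact IsLocalization.mk'_spec _ z (⟨tt x ^ e, e, rfl⟩ : Submonoid.powers (tt x))
        have hpq : pull x q = algebraMap _ Γ(X, (U x).1) z * I ^ e := by
          simp only [q, map_mul, map_pow, map_add, hC, ← hpz, ← hpt]
          rfl
        have h1 : (T * I) ^ e - 1 ∈ nn ^ 2 := Ideal.mem_of_dvd _ (sub_one_dvd_pow_sub_one (T * I) e) hαβ
        rw [hpq, ← hyz, show y - y * T ^ e * I ^ e = -(y * ((T * I) ^ e - 1)) by rw [mul_pow]; ring]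
        exact neg_mem (Ideal.mul_mem_left _ _ h1)
      obtain ⟨c₀, c, hc⟩ := exists_affine_of_polynomial (pull x) (fun c => hC x c) nn hconst q
      let Xd : Fin (r + 1) → LefPen.Form r k d := fun l =>
        ⟨MvPolynomial.X l * MvPolynomial.X (j x) ^ (d - 1), (MvPolynomial.mem_homogeneousSubmodule _ _).2 (by
          have := (MvPolynomial.isHomogeneous_X k l).mul ((MvPolynomial.isHomogeneous_X k (j x)).pow (d - 1))
          rwa [one_mul, show 1 + (d - 1) = d by omega] at this)⟩
      let G : LefPen.Form r k d := c₀ • Xd (j x) + ∑ l, c l • Xd l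
      have hG : pull x G.1 = algebraMap k _ c₀ + ∑ l, algebraMap k _ (c l) * pull x (MvPolynomial.X l) := by
        simp only [G, Xd, Submodule.coe_add, Submodule.coe_sum, Submodule.coe_smul, MvPolynomial.smul_eq_C_mul,
          map_add, map_sum, map_mul, map_pow, hXj, one_pow, mul_one, hC]
        rfl
      refine ⟨fun l => b.repr G l, ?_⟩
      rw [← hlin, b.sum_repr, hG]
      have := sub_mem (neg_mem hc) hq
      convert this using 1
      ring
    obtain ⟨g, hg0, hg⟩ := BertiniSec.jets_bad (k := k) n (fun l => pull x (b l).1) 0 hjet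
    refine ⟨g, hg0, fun c hc => ?_⟩
    rw [hideal, hlin]
    have := locally_quotient n (∑ l, algebraMap k Γ(X, (U x).1) (c l) * pull x (b l).1)
      (fun v hv hmem => by
        obtain ⟨φ, hφ⟩ := hg c hc v hv (by rwa [zero_add])
        exact ⟨φ, by rwa [zero_add] at hφ⟩)
    exact this
  choose g hg0 hg using hg
  let G := ∏ x ∈ T, g x
  have hG0 : G ≠ 0 := Finset.prod_ne_zero_iff.2 fun x _ => hg0 x
  let f : LefPen.Form r k d → k := fun H => MvPolynomial.eval (fun l => b.repr H l) G
  refine ⟨f, ?_, ?_, fun H hH => ?_⟩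
  · let S := Algebra.adjoin k (Set.range (fun l : Module.Dual k (LefPen.Form r k d) => (l : LefPen.Form r k d → k)))
    have key : ∀ p : MvPolynomial (Fin m) k, (fun H : LefPen.Form r k d => MvPolynomial.eval (fun l => b.repr H l) p) ∈ S := by
      intro p
      induction p using MvPolynomial.induction_on with
      | C c =>
        have : (fun H : LefPen.Form r k d => MvPolynomial.eval (fun l => b.repr H l) (MvPolynomial.C c)) =
            algebraMap k (LefPen.Form r k d → k) c := funext fun H => MvPolynomial.eval_C c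
        rw [this]
        exact S.algebraMap_mem c
      | add p q hp hq => simp only [map_add]; exact S.add_mem hp hq
      | mul_X p l hp =>
        simp only [map_mul, MvPolynomial.eval_X]
        exact S.mul_mem hp (Algebra.subset_adjoin ⟨b.coord l, rfl⟩)
    exact key G
  · obtain ⟨c, hc⟩ : ∃ c : Fin m → k, MvPolynomial.eval c G ≠ 0 := by
      by_contra! hall
      exact hG0 (MvPolynomial.funext fun c => by rw [hall c, map_zero])
    refine ⟨∑ l, c l • b l, ?_⟩
    show MvPolynomial.eval (fun l => b.repr (∑ l, c l • b l) l) G ≠ 0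
    rw [b.repr_sum_self]
    exact hc
  · have hH' : ∀ x ∈ T, MvPolynomial.eval (fun l => b.repr H l) (g x) ≠ 0 := by
      simp only [f, G, map_prod] at hH
      exact Finset.prod_ne_zero_iff.1 hH
    refine Or.inl ⟨hn, ?_⟩
    let I := LefPen.secIdeal i ({H} : Set (LefPen.Form r k d))
    let 𝒰 : I.subscheme.OpenCover :=
      Scheme.Cover.mkOfCovers (ULift.{u} (T : Set X)) (fun p => Spec (CommRingCat.of (Γ(X, (U p.down.1).1) ⧸ I.ideal (U p.down.1))))
        (fun p => I.subschemeCover.f (U p.down.1))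
        (fun y => by
          obtain ⟨p, hp, hyp⟩ := Set.mem_iUnion₂.1 (hT (Set.mem_univ (I.subschemeι y)))
          have : y ∈ (I.subschemeCover.f (U p)).opensRange := by
            rw [Scheme.IdealSheafData.opensRange_subschemeCover_map]; exact hyp
          obtain ⟨z, hz⟩ := this
          exact ⟨⟨p, hp⟩, z, hz⟩)
        (fun p => by infer_instance)
    refine IsZariskiLocalAtSource.of_openCover (P := @SmoothOfRelativeDimension (n - 1)) 𝒰 fun p => ?_
    show SmoothOfRelativeDimension (n - 1) (I.subschemeCover.f (U p.down.1) ≫ I.subschemeι ≫ (X ↘ Spec (CommRingCat.of k)))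
    rw [reassoc_of% (I.subschemeCover_map_subschemeι (U p.down.1)), reassoc_of% (I.glueDataObjι_ι (U p.down.1)),
      BertiniSec.fromSpec_comp (U p.down.1).1 (U p.down.1).2, ← Spec.map_comp,
      HasRingHomProperty.Spec_iff (P := @SmoothOfRelativeDimension (n - 1))]
    have := hg p.down.1 (fun l => b.repr H l) (hH' p.down.1 p.down.2)
    rwa [b.sum_repr] at this

end Groth.Agent.H9LefPen

end
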